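import Cfsg.Prelude.Def_SporadicB
import Cfsg.Prelude.Def_Spor_B
import Cfsg.Prelude.Def_LieTwisted
import Cfsg.Agent.TwoESix.Cover
set_option linter.all false

/-!
# U-B (S1662, S1736): the common interface

`Setup t M π`: `M ≤ C_G(t)` is normal in `C_G(t)`, of index at most two, `π : M →* E` is onto with kernel `{1, t}`, has
no section, and `C_G(M) = ⟨t⟩`.
`Roots.cls K`: the class of root involutions of `twistedE6 K 2`.
`FusOut t M π R`: the output of the fusion step.
The statements `FusionSt`, `IdentSt`, `CentralizerSt`, `ClosingSt` are the pieces of the proof of S1662; `assemble` puts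
them together.
-/

set_option autoImplicit false

namespace Cfsg.Agent.BabyU

open Cfsg.Lie Cfsg.Agent.R01.Lifts

universe u v

/-- `M` is a normal subgroup of index `≤ 2` of `C_G(t)` and a nonsplit central extension by `⟨t⟩` of `E`. -/
structure Setup {G : Type u} [Group G] (t : G) (M : Subgroup G) {E : Type v} [Group E] (π : M →* E) : Prop where
  ne : t ≠ 1
  sq : t * t = 1
  mem : t ∈ M
  comm : ∀ m ∈ M, m * t = t * m
  norm : ∀ g, g * t = t * g → ∀ m ∈ M, g * m * g⁻¹ ∈ M
  index : ∀ g h, g * t = t * g → h * t = t * h → g ∉ M → h ∉ M → g * h ∈ M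
  cent : ∀ g, (∀ m ∈ M, g * m = m * g) → g = 1 ∨ g = t
  surj : Function.Surjective π
  ker : ∀ m : M, π m = 1 ↔ (m : G) = 1 ∨ (m : G) = t
  nosec : ∀ σ : E →* M, ¬ ∀ x, π (σ x) = x

section setup

variable {G : Type u} [Group G] {t : G} {M : Subgroup G} {E : Type v} [Group E] {π : M →* E}

/-- the central involution as an element of `M` -/
def Setup.z (S : Setup t M π) : M := ⟨t, S.mem⟩

theorem Setup.ext (S : Setup t M π) : Ext π S.z where
  surj := S.surj
  zz := Subtype.ext S.sq
  zne := fun h => S.ne (congrArg Subtype.val h)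
  ker := fun c => by
    rw [S.ker]
    constructor
    · rintro (h | h)
      · exact Or.inl (Subtype.ext h)
      · exact Or.inr (Subtype.ext h)
    · rintro (h | h)
      · exact Or.inl (congrArg Subtype.val h)
      · exact Or.inr (congrArg Subtype.val h)
  comm := fun c => Subtype.ext (S.comm c c.2)

end setup

/-- The literal hypotheses of S1662 give a `Setup` with `M` of index exactly two in the centraliser. -/
theorem exists_setup {G : Type u} [Group G] (t : G) (ht : orderOf t = 2)
    (M : Subgroup (Subgroup.centralizer ({t} : Set G))) [M.Normal] (hM : M.index = 2)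
    {E : Type v} [Group E]
    (hout : Subgroup.centralizer (M : Set (Subgroup.centralizer ({t} : Set G))) ≤ M)
    (hcov : Cfsg.IsNonsplitDoubleCover M E) :
    ∃ π : (M.map (Subgroup.centralizer ({t} : Set G)).subtype) →* E,
      Setup t (M.map (Subgroup.centralizer ({t} : Set G)).subtype) π ∧
      (∃ g : G, g * t = t * g ∧ g ∉ M.map (Subgroup.centralizer ({t} : Set G)).subtype) := by
  classical
  generalize hM' : M.map (Subgroup.centralizer ({t} : Set G)).subtype = M'
  have hne : M ≠ ⊤ := by
    intro h
    rw [h, Subgroup.index_top] at hM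
    exact absurd hM (by norm_num)
  revert M' M
  generalize hC : Subgroup.centralizer ({t} : Set G) = C
  intro M _ hM hout hcov M' hM' hne
  have memC : ∀ g : G, g ∈ C ↔ g * t = t * g := fun g => by
    rw [← hC, Subgroup.mem_centralizer_iff]
    constructor
    · intro h; exact (h t rfl).symm
    · rintro h _ rfl; exact h.symm
  have htC : t ∈ C := (memC t).2 rfl
  have ht2 : t * t = 1 := by
    have := pow_orderOf_eq_one t
    rwa [ht, pow_two] at this
  have htne : t ≠ 1 := by
    rintro rfl
    rw [orderOf_one] at ht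
    exact absurd ht (by norm_num)
  obtain ⟨π, z, hE⟩ := Cfsg.Agent.TwoESix.Cover.exists_ext hcov
  -- `t` is in `M`
  have htM : (⟨t, htC⟩ : C) ∈ M := by
    apply hout
    rw [Subgroup.mem_centralizer_iff]
    intro m _
    exact Subtype.ext ((memC m).1 m.2)
  -- `t` is the central involution of `M`
  have hcen : ∀ m : M, (∀ n : M, m * n = n * m) → m = 1 ∨ m = z := by
    obtain ⟨h2, _, _⟩ := hcov
    intro c hc
    by_contra hcc
    push Not at hcc
    have hsub : ({1, z, c} : Set M) ⊆ (Subgroup.center M : Set M) := by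
      rintro x (rfl | rfl | rfl)
      · exact (Subgroup.center M).one_mem
      · exact Subgroup.mem_center_iff.2 hE.comm
      · exact Subgroup.mem_center_iff.2 fun g => (hc g).symm
    have hfin : (Subgroup.center M : Set M).Finite :=
      Set.finite_of_ncard_ne_zero (by
        have : (Subgroup.center M : Set M).ncard = 2 := h2
        rw [this]; norm_num)
    have h3 := Set.ncard_le_ncard hsub hfin
    have h4 : (Subgroup.center M : Set M).ncard = 2 := h2
    rw [h4, Set.ncard_insert_of_notMem, Set.ncard_pair] at h3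
    · omega
    · exact fun h => hcc.2 h.symm
    · rintro (h1 | h1)
      · exact hE.zne h1.symm
      · exact hcc.1 (Set.mem_singleton_iff.1 h1).symm
  have hz : z = ⟨⟨t, htC⟩, htM⟩ := by
    rcases hcen ⟨⟨t, htC⟩, htM⟩ (fun n => Subtype.ext (Subtype.ext ((memC n).1 (n : C).2).symm)) with h | h
    · exact absurd (congrArg (fun x : M => ((x : C) : G)) h) htne
    · exact h.symm
  -- transport to `M.map`
  have memM' : ∀ g : G, g ∈ M' ↔ ∃ h : g ∈ C, (⟨g, h⟩ : C) ∈ M := by
    intro g
    rw [← hM', Subgroup.mem_map]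
    constructor
    · rintro ⟨x, hx, rfl⟩
      exact ⟨x.2, hx⟩
    · rintro ⟨h, hx⟩
      exact ⟨⟨g, h⟩, hx, rfl⟩
  subst hM'
  let e : M ≃* M.map C.subtype := M.equivMapOfInjective C.subtype C.subtype_injective
  have he : ∀ m : M, ((e m : M.map C.subtype) : G) = ((m : C) : G) := fun m => rfl
  have hesymm : ∀ m : M.map C.subtype, (((e.symm m : M) : C) : G) = (m : G) := fun m => by
    rw [← he, e.apply_symm_apply]
  refine ⟨π.comp e.symm.toMonoidHom, ⟨htne, ht2, (memM' t).2 ⟨htC, htM⟩, ?_, ?_, ?_, ?_, ?_, ?_, ?_⟩, ?_⟩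
  · intro m hm
    obtain ⟨h, _⟩ := (memM' m).1 hm
    exact (memC m).1 h
  · intro g hg m hm
    obtain ⟨h, h'⟩ := (memM' m).1 hm
    have := (inferInstance : M.Normal).conj_mem ⟨m, h⟩ h' ⟨g, (memC g).2 hg⟩
    exact (memM' _).2 ⟨(((⟨g, (memC g).2 hg⟩ : C) * ⟨m, h⟩ * (⟨g, (memC g).2 hg⟩ : C)⁻¹ : C)).2, this⟩
  · intro g h hg hh hgM hhM
    have := (Subgroup.mul_mem_iff_of_index_two hM (a := (⟨g, (memC g).2 hg⟩ : C))
      (b := ⟨h, (memC h).2 hh⟩)).2 ?_
    · exact (memM' _).2 ⟨((⟨g, (memC g).2 hg⟩ : C) * ⟨h, (memC h).2 hh⟩ : C).2, this⟩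
    · constructor
      · intro h1; exact absurd ((memM' g).2 ⟨_, h1⟩) hgM
      · intro h1; exact absurd ((memM' h).2 ⟨_, h1⟩) hhM
  · intro g hg
    have htM' : t ∈ M.map C.subtype := (memM' t).2 ⟨htC, htM⟩
    have hgC : g ∈ C := (memC g).2 (hg t htM')
    have h1 : (⟨g, hgC⟩ : C) ∈ M := by
      apply hout
      rw [Subgroup.mem_centralizer_iff]
      intro m hm
      exact Subtype.ext (hg m ((memM' m).2 ⟨m.2, hm⟩)).symm
    rcases hcen ⟨⟨g, hgC⟩, h1⟩ (fun n => Subtype.ext (Subtype.ext
      (hg ((n : C) : G) ((memM' _).2 ⟨(n : C).2, n.2⟩)))) with h2 | h2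
    · left
      exact congrArg (fun x : M => ((x : C) : G)) h2
    · right
      rw [hz] at h2
      exact congrArg (fun x : M => ((x : C) : G)) h2
  · exact hE.surj.comp e.symm.surjective
  · intro m
    show π (e.symm m) = 1 ↔ _
    rw [hE.ker]
    constructor
    · rintro (h | h)
      · left; rw [← hesymm, h]; rfl
      · right; rw [← hesymm, h, hz]
    · rintro (h | h)
      · left; exact Subtype.ext (Subtype.ext ((hesymm m).trans h))
      · right; rw [hz]; exact Subtype.ext (Subtype.ext ((hesymm m).trans h))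
  · intro σ hσ
    exact Cfsg.Agent.TwoESix.Cover.no_section hcov hE (e.symm.toMonoidHom.comp σ) hσ
  · obtain ⟨g, hg⟩ : ∃ g : C, g ∉ M := by
      by_contra hcon
      push Not at hcon
      exact hne (Subgroup.eq_top_iff' M |>.2 hcon)
    refine ⟨g, (memC g).1 g.2, fun h => hg ?_⟩
    obtain ⟨_, h'⟩ := (memM' g).1 h
    exact h'

/-- the class of root involutions of `²E₆(2)` -/
def rootClass (K : Type v) [Field K] : Set (twistedE6 K 2) :=
  {x | ∃ g r : twistedE6 K 2, ((r : GL chevE6.Idx K) : Matrix chevE6.Idx chevE6.Idx K) = chevE6.x K e6p2 1 ∧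
    x = g * r * g⁻¹}

/-- the output of the fusion step: exactly the good lifts of the root involutions are conjugate to `t` -/
structure FusOut {G : Type u} [Group G] (t : G) (M : Subgroup G) {E : Type v} [Group E] (π : M →* E)
    (R : Set E) : Prop where
  /-- (u1) -/
  root : ∀ m : M, (∃ g : G, g * t * g⁻¹ = m) → (m : G) ≠ t → π m ∈ R
  /-- (u2) -/
  xor : ∀ m : M, π m ∈ R → Xor (∃ g : G, g * t * g⁻¹ = m) (∃ g : G, g * t * g⁻¹ = t * m)
  /-- (u3) -/
  ex : ∃ m : M, (∃ g : G, g * t * g⁻¹ = m) ∧ (m : G) ≠ t

/-- FUSION (helper234, 476, 941, 488, 635, 887). `Outer` = the index is exactly two. -/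
def FusionSt : Prop :=
  ∀ (K : Type) [Field K] [Fintype K], Fintype.card K = 4 →
  ∀ (G : Type u) [Group G] [Finite G] [IsSimpleGroup G] (t : G) (M : Subgroup G) (π : M →* twistedE6 K 2),
    Setup t M π → (∃ g : G, g * t = t * g ∧ g ∉ M) → FusOut t M π (rootClass K)

/-- IDENTIFICATION (helper444, 962). No simplicity, index at most two. -/
def IdentSt : Prop :=
  ∀ (K : Type) [Field K] [Fintype K], Fintype.card K = 4 →
  ∀ (G : Type u) [Group G] [Finite G] (t : G) (M : Subgroup G) (π : M →* twistedE6 K 2),
    Setup t M π → FusOut t M π (rootClass K) →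
    ∃ φ : Spor.BabyMonster →* G, M ≤ φ.range ∧ ∃ g : G, φ (PresentedGroup.of .t1) = g * t * g⁻¹

/-- THE CENTRALISER IN THE BABY MONSTER (model: BabyM, S1704). -/
def CentralizerSt : Prop :=
  IsSimpleGroup Spor.BabyMonster ∧ Finite Spor.BabyMonster ∧
  ∀ (K : Type) [Field K] [Fintype K], Fintype.card K = 4 →
    Nat.card (Subgroup.centralizer ({PresentedGroup.of .t1} : Set Spor.BabyMonster)) = 4 * Nat.card (twistedE6 K 2)

/-- CLOSING (helper796, 758, 248, 272). -/
def ClosingSt : Prop :=
  ∀ (G : Type u) [Group G] [Finite G] [IsSimpleGroup G] (φ : Spor.BabyMonster →* G), Function.Injective φ →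
    (∀ g : G, g * φ (PresentedGroup.of .t1) = φ (PresentedGroup.of .t1) * g → g ∈ φ.range) → φ.range = ⊤

section assemble

variable {G : Type u} [Group G] {t : G} {M : Subgroup G} {E : Type v} [Group E] {π : M →* E}

/-- an involution-order triangle: if `t` is in the range and a conjugate of `t` is `φ (t1)` we only need the orders -/
theorem Setup.card_centralizer [Finite G] (S : Setup t M π) :
    Nat.card (Subgroup.centralizer ({t} : Set G)) ≤ 4 * Nat.card E := by
  classical
  have : Finite E := Finite.of_surjective π S.surj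
  have h1 := Cfsg.Agent.TwoESix.Cover.card_of_ext S.ext
  have hle : M ≤ Subgroup.centralizer ({t} : Set G) := fun m hm => by
    rw [Subgroup.mem_centralizer_iff]
    rintro _ rfl
    exact (S.comm m hm).symm
  have hidx : M.relIndex (Subgroup.centralizer ({t} : Set G)) ≤ 2 := by
    rw [Subgroup.relIndex]
    by_contra hcon
    push Not at hcon
    set N := M.subgroupOf (Subgroup.centralizer ({t} : Set G))
    have memC : ∀ g : Subgroup.centralizer ({t} : Set G), (g : G) * t = t * g := fun g =>
      ((Subgroup.mem_centralizer_iff.1 g.2) t rfl).symm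
    have memN : ∀ g : Subgroup.centralizer ({t} : Set G), g ∈ N ↔ (g : G) ∈ M := fun g => Iff.rfl
    have hN : N.index ∣ 2 := by
      by_cases htop : N = ⊤
      · rw [htop, Subgroup.index_top]; exact one_dvd _
      · obtain ⟨a, ha⟩ : ∃ g, g ∉ N := by
          by_contra hc
          push Not at hc
          exact htop ((Subgroup.eq_top_iff' N).2 hc)
        have : N.index = 2 := by
          rw [Subgroup.index_eq_two_iff]
          refine ⟨a, fun b => ?_⟩
          by_cases hb : b ∈ N
          · right
            refine ⟨hb, fun h => ha ?_⟩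
            have := N.mul_mem (N.inv_mem hb) h
            rwa [inv_mul_cancel_left] at this
          · left
            exact ⟨S.index b a (memC b) (memC a) hb ha, hb⟩
        rw [this]
    exact absurd (Nat.le_of_dvd (by norm_num) hN) (by omega)
  have hcm : Nat.card (Subgroup.centralizer ({t} : Set G)) =
      Nat.card M * M.relIndex (Subgroup.centralizer ({t} : Set G)) := by
    have h2 := (M.subgroupOf (Subgroup.centralizer ({t} : Set G))).card_mul_index
    rw [← h2, Subgroup.relIndex]
    congr 1
    exact Nat.card_congr (Subgroup.subgroupOfEquivOfLe hle).toEquiv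
  calc Nat.card (Subgroup.centralizer ({t} : Set G))
      = Nat.card M * M.relIndex (Subgroup.centralizer ({t} : Set G)) := hcm
    _ ≤ (2 * Nat.card E) * 2 := by rw [h1]; exact Nat.mul_le_mul_left _ hidx
    _ = 4 * Nat.card E := by ring

end assemble

/-- **Assembly of S1662.** -/
theorem assemble (fusion : FusionSt.{u}) (ident : IdentSt.{u}) (cent : CentralizerSt) (closing : ClosingSt.{u})
    {G : Type u} [Group G] [Finite G] [IsSimpleGroup G] (t : G) (ht : orderOf t = 2)
    (M : Subgroup (Subgroup.centralizer ({t} : Set G))) [M.Normal] (hM : M.index = 2)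
    (K : Type) [Field K] [Fintype K] (hK : Fintype.card K = 4)
    (hout : Subgroup.centralizer (M : Set (Subgroup.centralizer ({t} : Set G))) ≤ M)
    (hcov : Cfsg.IsNonsplitDoubleCover M (Cfsg.Lie.twistedE6 K 2)) : Cfsg.Spor.IsoB G := by
  classical
  obtain ⟨π, S, hidx⟩ := exists_setup t ht M hM hout hcov
  have F := fusion K hK G t _ π S hidx
  obtain ⟨φ, hMφ, g, hg⟩ := ident K hK G t _ π S F
  obtain ⟨hsimp, hfin, hcard⟩ := cent
  -- `φ` is injective
  have hinj : Function.Injective φ := by
    rw [← MonoidHom.ker_eq_bot_iff]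
    rcases hsimp.eq_bot_or_eq_top_of_normal φ.ker inferInstance with h | h
    · exact h
    · exfalso
      have : φ (PresentedGroup.of .t1) = 1 := by
        have h1 : (PresentedGroup.of .t1 : Spor.BabyMonster) ∈ φ.ker := by rw [h]; trivial
        exact h1
      rw [this] at hg
      have h2 : t = 1 := by
        have h3 : g⁻¹ * 1 * g = t := by rw [hg]; group
        rw [← h3]; group
      exact S.ne h2
  -- `C_G (φ t1) ≤ range φ` by orders
  have hcent : ∀ x : G, x * φ (PresentedGroup.of .t1) = φ (PresentedGroup.of .t1) * x → x ∈ φ.range := by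
    set a : Spor.BabyMonster := PresentedGroup.of .t1 with ha
    set CB := Subgroup.centralizer ({a} : Set Spor.BabyMonster) with hCB
    have hle : CB.map φ ≤ Subgroup.centralizer ({φ a} : Set G) := by
      rintro _ ⟨b, hb, rfl⟩
      rw [Subgroup.mem_centralizer_iff]
      rintro _ rfl
      rw [← map_mul, ← map_mul, (Subgroup.mem_centralizer_iff.1 hb) a rfl]
    have hconj : Nat.card (Subgroup.centralizer ({φ a} : Set G)) = Nat.card (Subgroup.centralizer ({t} : Set G)) := by
      have : Subgroup.centralizer ({φ a} : Set G) =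
          (Subgroup.centralizer ({t} : Set G)).map (MulAut.conj g).toMonoidHom := by
        ext x
        rw [Subgroup.mem_centralizer_iff, Subgroup.mem_map]
        constructor
        · intro hx
          have hx' := hx _ rfl
          refine ⟨g⁻¹ * x * g, ?_, by simp [mul_assoc]⟩
          rw [Subgroup.mem_centralizer_iff]
          intro y hy
          rw [Set.mem_singleton_iff] at hy
          rw [hy]
          rw [hg] at hx'
          calc t * (g⁻¹ * x * g) = g⁻¹ * (g * t * g⁻¹ * x) * g := by group
            _ = g⁻¹ * (x * (g * t * g⁻¹)) * g := by rw [hx']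
            _ = g⁻¹ * x * g * t := by group
        · rintro ⟨y, hy, rfl⟩ w hw
          rw [Set.mem_singleton_iff] at hw
          have hy' := (Subgroup.mem_centralizer_iff.1 hy) t rfl
          rw [hw, hg]
          show g * t * g⁻¹ * (g * y * g⁻¹) = g * y * g⁻¹ * (g * t * g⁻¹)
          calc g * t * g⁻¹ * (g * y * g⁻¹) = g * (t * y) * g⁻¹ := by group
            _ = g * (y * t) * g⁻¹ := by rw [hy']
            _ = g * y * g⁻¹ * (g * t * g⁻¹) := by group
      rw [this, Subgroup.card_map_of_injective (MulAut.conj g).injective]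
    have h1 : Nat.card (CB.map φ) = 4 * Nat.card (twistedE6 K 2) := by
      rw [Subgroup.card_map_of_injective hinj, hcard K hK]
    have h2 : Nat.card (Subgroup.centralizer ({φ a} : Set G)) ≤ Nat.card (CB.map φ) := by
      rw [h1, hconj]; exact S.card_centralizer
    have h3 : CB.map φ = Subgroup.centralizer ({φ a} : Set G) := Subgroup.eq_of_le_of_card_ge hle h2
    intro x hx
    have h4 : x ∈ Subgroup.centralizer ({φ a} : Set G) := by
      rw [Subgroup.mem_centralizer_iff]
      rintro _ rfl
      exact hx.symm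
    rw [← h3] at h4
    obtain ⟨b, _, rfl⟩ := h4
    exact ⟨b, rfl⟩
  have htop := closing G φ hinj hcent
  exact ⟨(MulEquiv.ofBijective φ ⟨hinj, MonoidHom.range_eq_top.1 htop⟩).symm⟩

end Cfsg.Agent.BabyU
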