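import Cfsg.Agent.TwoESix.LeviHyp_m3
import Cfsg.Agent.LargeExtra.TransferPow
import Cfsg.Agent.LargeExtra.TransferOrbit
import Cfsg.Agent.BabyU.Setup
import Mathlib
import Cfsg.Agent.TwoESix.Phi
import Mathlib.GroupTheory.Sylow
import Cfsg.Agent.TwoESix.Cover
import Cfsg.Agent.TwoESix.GoodInst
import Cfsg.Agent.Lib.F2MatGroup
import Mathlib.Algebra.CharP.Two
import Mathlib.LinearAlgebra.Matrix.CharP
import Mathlib.GroupTheory.PGroup
import Mathlib.Algebra.CharP.Lemmas
import Cfsg.Agent.TwoESix.CentLin
import Cfsg.Agent.BabyU.RootCfg_m3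
import Cfsg.Agent.BabyM.KGood
import Cfsg.Agent.BM.StageWRel_m3
import Cfsg.Agent.FastGrp
import Cfsg.Agent.Prune
set_option linter.all false

section
prune_inst 0x7ffcfcf8efb8bfdfffff7e77aeffdffdfbbdffffffdff94bffece5ff8fdf6b0acfe5fbaf0feb50fe1ef6e01c10f87bd3fbfffeffe26bdc7ffffd5ff45ffbff9fffffbd09719f98b41ffc6ffffbf07f8e7f3fffffffffffffffffffffffffffbeffbfffffffff

-- part: BabyU/FusRoot_mg
section
prune_inst 0x2020300410000000000085000000204400000000002b0001112002000006530100000f0040a01a000128222000020040000000d94010000000000a0040000000002a60c40240a00020000000f807100000000000000000000000000000041004000000000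
set_option linter.all false
open scoped Cfsg.Agent.FastGrp

-- part: BabyU/FusCfg
section
/-!
# A configuration of root involutions adapted to an outer involution, and its canonical lifts (U-B P3)

`Cfg E T σ` : 18 root involutions of `E` with the relations between them (F₄-coordinates: `σ` is the field
automorphism, `a`, `as_ = σ a` is a symplectic pair of roots with product the highest short root element of `F₄(2)`,
`r` the highest long root element). In a double cover `M` of `E` with an element `u` inducing `σ` the canonical lifts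
satisfy the facts (2), (3), (4'), (5') used by the fusion step `FusParity`.
-/

set_option autoImplicit false

namespace Cfsg.Agent.BabyU.FusCfg

open Lab

/-- The configuration. -/
structure Cfg (E : Type*) [Group E] (T : Set E) (σ : E →* E) where
  (b3 b3s g b3g b3sg a as_ r b bs h14 h34 k23 h24 c13 c23 b3k b3sk : E)
  m_b3 : b3 ∈ T
  m_b3s : b3s ∈ T
  m_g : g ∈ T
  m_b3g : b3g ∈ T
  m_b3sg : b3sg ∈ T
  m_a : a ∈ T
  m_as : as_ ∈ T
  m_r : r ∈ T
  m_b : b ∈ T
  m_bs : bs ∈ T
  m_h14 : h14 ∈ T
  m_h34 : h34 ∈ T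
  m_k23 : k23 ∈ T
  m_h24 : h24 ∈ T
  m_c13 : c13 ∈ T
  m_c23 : c23 ∈ T
  m_b3k : b3k ∈ T
  m_b3sk : b3sk ∈ T
  -- the automorphism
  σ_b3 : σ b3 = b3s
  σ_b3s : σ b3s = b3
  σ_g : σ g = g
  σ_a : σ a = as_
  σ_as : σ as_ = a
  σ_r : σ r = r
  σ_b : σ b = bs
  σ_bs : σ bs = b
  σ_h14 : σ h14 = h14
  σ_h34 : σ h34 = h34
  -- conjugates
  g_b3 : g * b3 * g = b3g
  g_b3s : g * b3s * g = b3sg
  k_b3 : k23 * b3 * k23 = b3k
  k_b3s : k23 * b3s * k23 = b3sk
  -- lines
  l_a : b3g * b3 = a
  l_as : b3sg * b3s = as_
  l_bs : b3k * b3 = bs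
  l_b : b3sk * b3s = b
  -- special pairs
  s_b3g : (b3sg * b3) ^ 2 = c13
  s_h14 : (h14 * h34) ^ 2 = c13
  s_b3k : (b3sk * b3) ^ 2 = c23
  s_h24 : (h24 * h34) ^ 2 = c23
  s_ab : (b * a) ^ 2 = r
  s_b3s_a : (b3s * a) ^ 2 = c13
  s_b3_as : (b3 * as_) ^ 2 = c13
  s_h24_a : (h24 * a) ^ 2 = r
  s_h24_as : (h24 * as_) ^ 2 = r
  s_h34_a : (h34 * a) ^ 2 = c13
  s_h34_as : (h34 * as_) ^ 2 = c13
  -- commuting pairs
  c_b3 : b3 * b3s = b3s * b3
  c_a : a * as_ = as_ * a
  c_b_as : b * as_ = as_ * b
  c_r_a : r * a = a * r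
  c_r_as : r * as_ = as_ * r
  c_r_b3 : r * b3 = b3 * r
  c_r_b3s : r * b3s = b3s * r
  c_r_g : r * g = g * r
  c_r_h14 : r * h14 = h14 * r
  c_r_h34 : r * h34 = h34 * r
  c_c13_a : c13 * a = a * c13
  c_c13_as : c13 * as_ = as_ * c13
  c_c13_b3g : c13 * b3g = b3g * c13
  c_c23_b : c23 * b = b * c23
  c_c23_bs : c23 * bs = bs * c23
  c_c23_b3k : c23 * b3k = b3k * c23
  c_k_a : k23 * a = a * k23
  c_k_as : k23 * as_ = as_ * k23
  c_b3_a : b3 * a = a * b3
  c_b3s_as : b3s * as_ = as_ * b3s
  ne_a : a ≠ as_

section transport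

variable {E E' : Type*} [Group E] [Group E'] {T : Set E} {T' : Set E'} {σ : E →* E} {σ' : E' →* E'}

/-- transport of a configuration -/
def Cfg.map (K : Cfg E T σ) (f : E →* E') (hf : Function.Injective f) (hT : ∀ x ∈ T, f x ∈ T')
    (hσ : ∀ x, f (σ x) = σ' (f x)) : Cfg E' T' σ' where
  b3 := f K.b3
  b3s := f K.b3s
  g := f K.g
  b3g := f K.b3g
  b3sg := f K.b3sg
  a := f K.a
  as_ := f K.as_
  r := f K.r
  b := f K.b
  bs := f K.bs
  h14 := f K.h14
  h34 := f K.h34
  k23 := f K.k23
  h24 := f K.h24
  c13 := f K.c13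
  c23 := f K.c23
  b3k := f K.b3k
  b3sk := f K.b3sk
  m_b3 := hT _ K.m_b3
  m_b3s := hT _ K.m_b3s
  m_g := hT _ K.m_g
  m_b3g := hT _ K.m_b3g
  m_b3sg := hT _ K.m_b3sg
  m_a := hT _ K.m_a
  m_as := hT _ K.m_as
  m_r := hT _ K.m_r
  m_b := hT _ K.m_b
  m_bs := hT _ K.m_bs
  m_h14 := hT _ K.m_h14
  m_h34 := hT _ K.m_h34
  m_k23 := hT _ K.m_k23
  m_h24 := hT _ K.m_h24
  m_c13 := hT _ K.m_c13
  m_c23 := hT _ K.m_c23
  m_b3k := hT _ K.m_b3k
  m_b3sk := hT _ K.m_b3sk
  σ_b3 := by rw [← hσ, K.σ_b3]
  σ_b3s := by rw [← hσ, K.σ_b3s]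
  σ_g := by rw [← hσ, K.σ_g]
  σ_a := by rw [← hσ, K.σ_a]
  σ_as := by rw [← hσ, K.σ_as]
  σ_r := by rw [← hσ, K.σ_r]
  σ_b := by rw [← hσ, K.σ_b]
  σ_bs := by rw [← hσ, K.σ_bs]
  σ_h14 := by rw [← hσ, K.σ_h14]
  σ_h34 := by rw [← hσ, K.σ_h34]
  g_b3 := by rw [← map_mul, ← map_mul, K.g_b3]
  g_b3s := by rw [← map_mul, ← map_mul, K.g_b3s]
  k_b3 := by rw [← map_mul, ← map_mul, K.k_b3]
  k_b3s := by rw [← map_mul, ← map_mul, K.k_b3s]
  l_a := by rw [← map_mul, K.l_a]
  l_as := by rw [← map_mul, K.l_as]
  l_bs := by rw [← map_mul, K.l_bs]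
  l_b := by rw [← map_mul, K.l_b]
  s_b3g := by rw [← map_mul, ← map_pow, K.s_b3g]
  s_h14 := by rw [← map_mul, ← map_pow, K.s_h14]
  s_b3k := by rw [← map_mul, ← map_pow, K.s_b3k]
  s_h24 := by rw [← map_mul, ← map_pow, K.s_h24]
  s_ab := by rw [← map_mul, ← map_pow, K.s_ab]
  s_b3s_a := by rw [← map_mul, ← map_pow, K.s_b3s_a]
  s_b3_as := by rw [← map_mul, ← map_pow, K.s_b3_as]
  s_h24_a := by rw [← map_mul, ← map_pow, K.s_h24_a]
  s_h24_as := by rw [← map_mul, ← map_pow, K.s_h24_as]
  s_h34_a := by rw [← map_mul, ← map_pow, K.s_h34_a]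
  s_h34_as := by rw [← map_mul, ← map_pow, K.s_h34_as]
  c_b3 := by rw [← map_mul, ← map_mul, K.c_b3]
  c_a := by rw [← map_mul, ← map_mul, K.c_a]
  c_b_as := by rw [← map_mul, ← map_mul, K.c_b_as]
  c_r_a := by rw [← map_mul, ← map_mul, K.c_r_a]
  c_r_as := by rw [← map_mul, ← map_mul, K.c_r_as]
  c_r_b3 := by rw [← map_mul, ← map_mul, K.c_r_b3]
  c_r_b3s := by rw [← map_mul, ← map_mul, K.c_r_b3s]
  c_r_g := by rw [← map_mul, ← map_mul, K.c_r_g]
  c_r_h14 := by rw [← map_mul, ← map_mul, K.c_r_h14]
  c_r_h34 := by rw [← map_mul, ← map_mul, K.c_r_h34]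
  c_c13_a := by rw [← map_mul, ← map_mul, K.c_c13_a]
  c_c13_as := by rw [← map_mul, ← map_mul, K.c_c13_as]
  c_c13_b3g := by rw [← map_mul, ← map_mul, K.c_c13_b3g]
  c_c23_b := by rw [← map_mul, ← map_mul, K.c_c23_b]
  c_c23_bs := by rw [← map_mul, ← map_mul, K.c_c23_bs]
  c_c23_b3k := by rw [← map_mul, ← map_mul, K.c_c23_b3k]
  c_k_a := by rw [← map_mul, ← map_mul, K.c_k_a]
  c_k_as := by rw [← map_mul, ← map_mul, K.c_k_as]
  c_b3_a := by rw [← map_mul, ← map_mul, K.c_b3_a]
  c_b3s_as := by rw [← map_mul, ← map_mul, K.c_b3s_as]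
  ne_a := fun h => K.ne_a (hf h)

end transport

section lifts

variable {M E : Type*} [Group M] [Group E] {π : M →* E} {t : M} {T : Set E} {σ : E →* E}

/-- special pairs of involutions: `x y = c y x` -/
theorem spe_swap {M : Type*} [Group M] {x y c : M} (hx : x * x = 1) (hy : y * y = 1) (h : (x * y) ^ 2 = c) :
    x * y = c * (y * x) := by
  rw [← h, pow_two]
  calc x * y = x * y * (x * (y * y) * x) := by rw [hy, mul_one, hx, mul_one]
    _ = _ := by group

/-- special pairs of roots: `W x * W y = W c * (W y * W x)` -/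
theorem w_swap (C : Cover π t) (R : Roots E T) {x y c : E} (hx : x ∈ T) (hy : y ∈ T) (hc : c ∈ T)
    (h : (x * y) ^ 2 = c) : w π T x * w π T y = w π T c * (w π T y * w π T x) := by
  apply spe_swap (w_sq C R hx) (w_sq C R hy)
  rw [w_spe C R hx hy (by rw [h]; exact hc), h]

theorem w_line' (C : Cover π t) (R : Roots E T) {x y c : E} (hx : x ∈ T) (hy : y ∈ T) (hc : c ∈ T)
    (h : x * y = c) : w π T x * w π T y = w π T c := by
  rw [w_line C R hx hy (by rw [h]; exact hc), h]

theorem w_conj' (C : Cover π t) (R : Roots E T) {x y c : E} (hx : x ∈ T) (hy : y ∈ T)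
    (h : x * y * x = c) : w π T x * w π T y * w π T x = w π T c := by
  have h1 := w_conj C R (w π T x) hy
  rw [w_inv C R hx, map_w C R hx, inv_eq_of_mul_eq_one_left (R.sq x hx)] at h1
  rw [h1, h]

/-- a root special to both members of a symplectic pair `a`, `a'` with the same commutator `c` commutes with
`W a * W a'` -/
theorem comm_pair (C : Cover π t) (R : Roots E T) {x a a' c : E} (hx : x ∈ T) (ha : a ∈ T) (ha' : a' ∈ T)
    (hc : c ∈ T) (h : (x * a) ^ 2 = c) (h' : (x * a') ^ 2 = c) (hca : c * a = a * c) :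
    w π T x * (w π T a * w π T a') = (w π T a * w π T a') * w π T x := by
  have e1 := w_swap C R hx ha hc h
  have e2 := w_swap C R hx ha' hc h'
  have e3 := w_comm C R hc ha hca
  calc w π T x * (w π T a * w π T a') = (w π T x * w π T a) * w π T a' := by group
    _ = w π T c * (w π T a * (w π T x * w π T a')) := by rw [e1]; group
    _ = (w π T c * w π T a) * w π T c * w π T a' * w π T x := by rw [e2]; group
    _ = w π T a * (w π T c * w π T c) * w π T a' * w π T x := by rw [e3]; group
    _ = _ := by rw [w_sq C R hc, mul_one]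

theorem comm_pair' (C : Cover π t) (R : Roots E T) {x a a' : E} (hx : x ∈ T) (ha : a ∈ T) (ha' : a' ∈ T)
    (h : x * a = a * x) (h' : x * a' = a' * x) :
    w π T x * (w π T a * w π T a') = (w π T a * w π T a') * w π T x := by
  have e1 := w_comm C R hx ha h
  have e2 := w_comm C R hx ha' h'
  rw [← mul_assoc, e1, mul_assoc, e2, mul_assoc]

variable (K : Cfg E T σ)

/-- the lift of the highest short root element -/
noncomputable def sh (π : M →* E) (K : Cfg E T σ) : M := w π T K.a * w π T K.as_

/-- the product `W b3 * W b3s` -/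
noncomputable def x3 (π : M →* E) (K : Cfg E T σ) : M := w π T K.b3 * w π T K.b3s

theorem sh_eq (C : Cover π t) (R : Roots E T) :
    (w π T K.g * x3 π K) * (w π T K.g * x3 π K) * ((w π T K.h14 * w π T K.h34) * (w π T K.h14 * w π T K.h34))
      = sh π K := by
  unfold x3 sh
  have e1 := w_conj' C R K.m_g K.m_b3 K.g_b3
  have e2 := w_conj' C R K.m_g K.m_b3s K.g_b3s
  have e3 := w_swap C R K.m_b3sg K.m_b3 K.m_c13 K.s_b3g
  have e4 := w_spe C R K.m_h14 K.m_h34 (by rw [K.s_h14]; exact K.m_c13)
  rw [K.s_h14, pow_two] at e4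
  have e5 := w_line' C R K.m_b3g K.m_b3 K.m_a K.l_a
  have e6 := w_line' C R K.m_b3sg K.m_b3s K.m_as K.l_as
  have e7 := w_comm C R K.m_c13 K.m_b3g K.c_c13_b3g
  have e8 := w_comm C R K.m_c13 K.m_a K.c_c13_a
  have e9 := w_comm C R K.m_c13 K.m_as K.c_c13_as
  have eg := w_sq C R K.m_g
  have ec := w_sq C R K.m_c13
  rw [e4]
  calc w π T K.g * (w π T K.b3 * w π T K.b3s) * (w π T K.g * (w π T K.b3 * w π T K.b3s)) * w π T K.c13
      = w π T K.g * w π T K.b3 * w π T K.b3s * w π T K.g * w π T K.b3 * w π T K.b3s * w π T K.c13 := by group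
    _ = w π T K.g * w π T K.b3 * (w π T K.g * w π T K.g) * w π T K.b3s * w π T K.g * w π T K.b3 * w π T K.b3s *
          w π T K.c13 := by rw [eg, mul_one]
    _ = (w π T K.g * w π T K.b3 * w π T K.g) * (w π T K.g * w π T K.b3s * w π T K.g) * w π T K.b3 *
          w π T K.b3s * w π T K.c13 := by group
    _ = w π T K.b3g * (w π T K.b3sg * w π T K.b3) * w π T K.b3s * w π T K.c13 := by rw [e1, e2]; group
    _ = (w π T K.c13 * w π T K.b3g) * w π T K.b3 * w π T K.b3sg * w π T K.b3s * w π T K.c13 := by
        rw [e3, e7]; group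
    _ = w π T K.c13 * (w π T K.b3g * w π T K.b3) * (w π T K.b3sg * w π T K.b3s) * w π T K.c13 := by group
    _ = w π T K.c13 * w π T K.a * (w π T K.as_ * w π T K.c13) := by rw [e5, e6]; group
    _ = (w π T K.c13 * w π T K.a) * w π T K.c13 * w π T K.as_ := by rw [← e9]; group
    _ = w π T K.a * (w π T K.c13 * w π T K.c13) * w π T K.as_ := by rw [e8]; group
    _ = _ := by rw [ec, mul_one]

theorem kap_eq (C : Cover π t) (R : Roots E T) :
    (w π T K.k23 * x3 π K) * (w π T K.k23 * x3 π K) * ((w π T K.h24 * w π T K.h34) * (w π T K.h24 * w π T K.h34))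
      = w π T K.bs * w π T K.b := by
  unfold x3
  have e1 := w_conj' C R K.m_k23 K.m_b3 K.k_b3
  have e2 := w_conj' C R K.m_k23 K.m_b3s K.k_b3s
  have e3 := w_swap C R K.m_b3sk K.m_b3 K.m_c23 K.s_b3k
  have e4 := w_spe C R K.m_h24 K.m_h34 (by rw [K.s_h24]; exact K.m_c23)
  rw [K.s_h24, pow_two] at e4
  have e5 := w_line' C R K.m_b3k K.m_b3 K.m_bs K.l_bs
  have e6 := w_line' C R K.m_b3sk K.m_b3s K.m_b K.l_b
  have e7 := w_comm C R K.m_c23 K.m_b3k K.c_c23_b3k
  have e8 := w_comm C R K.m_c23 K.m_bs K.c_c23_bs
  have e9 := w_comm C R K.m_c23 K.m_b K.c_c23_b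
  have eg := w_sq C R K.m_k23
  have ec := w_sq C R K.m_c23
  rw [e4]
  calc w π T K.k23 * (w π T K.b3 * w π T K.b3s) * (w π T K.k23 * (w π T K.b3 * w π T K.b3s)) * w π T K.c23
      = w π T K.k23 * w π T K.b3 * w π T K.b3s * w π T K.k23 * w π T K.b3 * w π T K.b3s * w π T K.c23 := by group
    _ = w π T K.k23 * w π T K.b3 * (w π T K.k23 * w π T K.k23) * w π T K.b3s * w π T K.k23 * w π T K.b3 *
          w π T K.b3s * w π T K.c23 := by rw [eg, mul_one]
    _ = (w π T K.k23 * w π T K.b3 * w π T K.k23) * (w π T K.k23 * w π T K.b3s * w π T K.k23) * w π T K.b3 *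
          w π T K.b3s * w π T K.c23 := by group
    _ = w π T K.b3k * (w π T K.b3sk * w π T K.b3) * w π T K.b3s * w π T K.c23 := by rw [e1, e2]; group
    _ = (w π T K.c23 * w π T K.b3k) * w π T K.b3 * w π T K.b3sk * w π T K.b3s * w π T K.c23 := by
        rw [e3, e7]; group
    _ = w π T K.c23 * (w π T K.b3k * w π T K.b3) * (w π T K.b3sk * w π T K.b3s) * w π T K.c23 := by group
    _ = w π T K.c23 * w π T K.bs * (w π T K.b * w π T K.c23) := by rw [e5, e6]; group
    _ = (w π T K.c23 * w π T K.bs) * w π T K.c23 * w π T K.b := by rw [← e9]; group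
    _ = w π T K.bs * (w π T K.c23 * w π T K.c23) * w π T K.b := by rw [e8]; group
    _ = _ := by rw [ec, mul_one]

/-- `W b3 * W b3s` commutes with the short root element -/
theorem x3_sh (C : Cover π t) (R : Roots E T) : x3 π K * sh π K = sh π K * x3 π K := by
  unfold x3 sh
  have e1 := w_swap C R K.m_b3s K.m_a K.m_c13 K.s_b3s_a
  have e2 := w_swap C R K.m_b3 K.m_as K.m_c13 K.s_b3_as
  have e3 := w_comm C R K.m_b3 K.m_a K.c_b3_a
  have e4 := w_comm C R K.m_b3s K.m_as K.c_b3s_as
  have e8 := w_comm C R K.m_c13 K.m_a K.c_c13_a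
  have ec := w_sq C R K.m_c13
  -- `W b3` commutes with `W c13`
  have e5 : w π T K.b3 * w π T K.c13 = w π T K.c13 * w π T K.b3 := by
    have e6 : w π T K.c13 = (w π T K.b3 * w π T K.as_) ^ 2 := by
      rw [w_spe C R K.m_b3 K.m_as (by rw [K.s_b3_as]; exact K.m_c13), K.s_b3_as]
    have e7 : (w π T K.b3 * w π T K.as_) ^ 2 = ((w π T K.b3 * w π T K.as_) ^ 2)⁻¹ := by
      rw [← e6, w_inv C R K.m_c13]
    have hb := w_sq C R K.m_b3
    have ha := w_inv C R K.m_as
    have hb' := w_inv C R K.m_b3
    rw [e6]
    nth_rw 1 [e7]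
    rw [pow_two, mul_inv_rev, mul_inv_rev, ha, hb']
    calc w π T K.b3 * (w π T K.as_ * w π T K.b3 * (w π T K.as_ * w π T K.b3))
        = w π T K.b3 * w π T K.as_ * w π T K.b3 * w π T K.as_ * w π T K.b3 := by group
      _ = _ := by group
  calc w π T K.b3 * w π T K.b3s * (w π T K.a * w π T K.as_)
      = w π T K.b3 * (w π T K.b3s * w π T K.a) * w π T K.as_ := by group
    _ = (w π T K.b3 * w π T K.c13) * w π T K.a * (w π T K.b3s * w π T K.as_) := by rw [e1]; group
    _ = w π T K.c13 * (w π T K.b3 * w π T K.a) * w π T K.as_ * w π T K.b3s := by rw [e4, e5]; group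
    _ = w π T K.c13 * w π T K.a * (w π T K.b3 * w π T K.as_) * w π T K.b3s := by rw [e3]; group
    _ = (w π T K.c13 * w π T K.a) * w π T K.c13 * w π T K.as_ * w π T K.b3 * w π T K.b3s := by rw [e2]; group
    _ = w π T K.a * (w π T K.c13 * w π T K.c13) * w π T K.as_ * w π T K.b3 * w π T K.b3s := by rw [e8]; group
    _ = _ := by rw [ec]; group

theorem k23_sh (C : Cover π t) (R : Roots E T) : w π T K.k23 * sh π K = sh π K * w π T K.k23 :=
  comm_pair' C R K.m_k23 K.m_a K.m_as K.c_k_a K.c_k_as

theorem h24_sh (C : Cover π t) (R : Roots E T) : w π T K.h24 * sh π K = sh π K * w π T K.h24 :=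
  comm_pair C R K.m_h24 K.m_a K.m_as K.m_r K.s_h24_a K.s_h24_as K.c_r_a

theorem h34_sh (C : Cover π t) (R : Roots E T) : w π T K.h34 * sh π K = sh π K * w π T K.h34 :=
  comm_pair C R K.m_h34 K.m_a K.m_as K.m_c13 K.s_h34_a K.s_h34_as K.c_c13_a

/-- (3) : `n = W b` conjugates the short root element `s` to `r s` -/
theorem n_sh (C : Cover π t) (R : Roots E T) :
    w π T K.b * sh π K = (w π T K.r * sh π K) * w π T K.b := by
  unfold sh
  have e1 := w_swap C R K.m_b K.m_a K.m_r K.s_ab
  have e2 := w_comm C R K.m_b K.m_as K.c_b_as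
  calc w π T K.b * (w π T K.a * w π T K.as_) = (w π T K.b * w π T K.a) * w π T K.as_ := by group
    _ = w π T K.r * w π T K.a * (w π T K.b * w π T K.as_) := by rw [e1]; group
    _ = _ := by rw [e2]; group

theorem sh_sq (C : Cover π t) (R : Roots E T) : sh π K * sh π K = 1 := by
  unfold sh
  have e1 := w_comm C R K.m_a K.m_as K.c_a
  calc w π T K.a * w π T K.as_ * (w π T K.a * w π T K.as_)
      = w π T K.a * (w π T K.as_ * w π T K.a) * w π T K.as_ := by group
    _ = (w π T K.a * w π T K.a) * (w π T K.as_ * w π T K.as_) := by rw [← e1]; group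
    _ = 1 := by rw [w_sq C R K.m_a, w_sq C R K.m_as, mul_one]

theorem sh_ne (C : Cover π t) (R : Roots E T) : sh π K ≠ 1 := by
  intro h
  apply K.ne_a
  have h1 : π (sh π K) = 1 := by rw [h, map_one]
  unfold sh at h1
  rw [map_mul, map_w C R K.m_a, map_w C R K.m_as] at h1
  rw [mul_eq_one_iff_eq_inv] at h1
  rw [h1, inv_eq_of_mul_eq_one_left (R.sq _ K.m_as)]

theorem map_sh (C : Cover π t) (R : Roots E T) : π (sh π K) = K.a * K.as_ := by
  unfold sh
  rw [map_mul, map_w C R K.m_a, map_w C R K.m_as]

theorem r_sh (C : Cover π t) (R : Roots E T) : w π T K.r * sh π K = sh π K * w π T K.r :=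
  comm_pair' C R K.m_r K.m_a K.m_as K.c_r_a K.c_r_as

theorem a_sh (C : Cover π t) (R : Roots E T) : w π T K.a * sh π K = sh π K * w π T K.a :=
  comm_pair' C R K.m_a K.m_a K.m_as rfl K.c_a

theorem a_r (C : Cover π t) (R : Roots E T) : w π T K.a * w π T K.r = w π T K.r * w π T K.a :=
  (w_comm C R K.m_r K.m_a K.c_r_a).symm

theorem x3_r (C : Cover π t) (R : Roots E T) : x3 π K * w π T K.r = w π T K.r * x3 π K :=
  (comm_pair' C R K.m_r K.m_b3 K.m_b3s K.c_r_b3 K.c_r_b3s).symm

end lifts

section group

variable {G E : Type*} [Group G] [Group E] {M : Subgroup G} {π : M →* E} {T : Set E} {σ : E →* E}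

/-- `u` normalises `M` and induces `σ` on `E` -/
structure Ind (π : M →* E) (σ : E →* E) (u : G) : Prop where
  mem : ∀ m : M, u⁻¹ * (m : G) * u ∈ M
  map : ∀ m : M, π ⟨u⁻¹ * m * u, mem m⟩ = σ (π m)

theorem Ind.conj_w {u : G} (h : Ind π σ u) {t : M} (C : Cover π t) (R : Roots E T) (hσ : ∀ r ∈ T, σ r ∈ T) {r : E}
    (hr : r ∈ T) : u⁻¹ * ((w π T r : M) : G) * u = ((w π T (σ r) : M) : G) := by
  let φ : M →* M :=
    { toFun := fun m => ⟨u⁻¹ * m * u, h.mem m⟩
      map_one' := Subtype.ext (by simp)
      map_mul' := fun x y => Subtype.ext (by simp only [Subgroup.coe_mul]; group) }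
  have h1 := w_aut C R φ σ (fun m => h.map m) hσ hr
  exact congrArg Subtype.val h1

/-- If `σ x = y` then `W x * u = u * W y`. -/
theorem Ind.w_mul {u : G} (h : Ind π σ u) {t : M} (C : Cover π t) (R : Roots E T) (hσ : ∀ r ∈ T, σ r ∈ T) {x y : E}
    (hx : x ∈ T) (hxy : σ x = y) : ((w π T x : M) : G) * u = u * ((w π T y : M) : G) := by
  rw [← hxy, ← h.conj_w C R hσ hx]
  group

variable {t : M} {u : G} (K : Cfg E T σ)

theorem sh_u (h : Ind π σ u) (C : Cover π t) (R : Roots E T) (hσ : ∀ r ∈ T, σ r ∈ T) :
    ((sh π K : M) : G) * u = u * ((sh π K : M) : G) := by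
  have e1 := h.w_mul C R hσ K.m_a K.σ_a
  have e2 := h.w_mul C R hσ K.m_as K.σ_as
  have e3 : ((w π T K.a : M) : G) * ((w π T K.as_ : M) : G) = ((w π T K.as_ : M) : G) * ((w π T K.a : M) : G) :=
    congrArg Subtype.val (w_comm C R K.m_a K.m_as K.c_a)
  show ((w π T K.a : M) : G) * ((w π T K.as_ : M) : G) * u = u * (((w π T K.a : M) : G) * ((w π T K.as_ : M) : G))
  rw [mul_assoc, e2, ← mul_assoc, e1, mul_assoc, ← e3]

theorem x3_u (h : Ind π σ u) (C : Cover π t) (R : Roots E T) (hσ : ∀ r ∈ T, σ r ∈ T) :
    ((x3 π K : M) : G) * u = u * ((x3 π K : M) : G) := by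
  have e1 := h.w_mul C R hσ K.m_b3 K.σ_b3
  have e2 := h.w_mul C R hσ K.m_b3s K.σ_b3s
  have e3 : ((w π T K.b3 : M) : G) * ((w π T K.b3s : M) : G) = ((w π T K.b3s : M) : G) * ((w π T K.b3 : M) : G) :=
    congrArg Subtype.val (w_comm C R K.m_b3 K.m_b3s K.c_b3)
  show ((w π T K.b3 : M) : G) * ((w π T K.b3s : M) : G) * u = u * (((w π T K.b3 : M) : G) * ((w π T K.b3s : M) : G))
  rw [mul_assoc, e2, ← mul_assoc, e1, mul_assoc, ← e3]

/-- (2) : `c = W a` conjugates `u` to `u s` -/
theorem c_u (h : Ind π σ u) (C : Cover π t) (R : Roots E T) (hσ : ∀ r ∈ T, σ r ∈ T) :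
    ((w π T K.a : M) : G) * u * ((w π T K.a : M) : G)⁻¹ = u * ((sh π K : M) : G) := by
  have e1 := h.w_mul C R hσ K.m_a K.σ_a
  have e2 : ((w π T K.a : M) : G)⁻¹ = ((w π T K.a : M) : G) := congrArg Subtype.val (w_inv C R K.m_a)
  have e3 : ((w π T K.a : M) : G) * ((w π T K.as_ : M) : G) = ((w π T K.as_ : M) : G) * ((w π T K.a : M) : G) :=
    congrArg Subtype.val (w_comm C R K.m_a K.m_as K.c_a)
  rw [e1, e2, mul_assoc, ← e3]
  rfl

/-- (4') -/
theorem four (h : Ind π σ u) (C : Cover π t) (R : Roots E T) (hσ : ∀ r ∈ T, σ r ∈ T) (hMt : ∀ x ∈ M, x * t = t * x)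
    (hut : u * (t : G) = t * u) :
    u * (((w π T K.b : M) : G)⁻¹ * u * ((w π T K.b : M) : G)) ∈
      Subgroup.closure {w : G | ∃ y : G, y * (t : G) = t * y ∧ y * ((sh π K : M) : G) = (sh π K : M) * y ∧ y * y = w} := by
  have e1 := h.w_mul C R hσ K.m_b K.σ_b
  have e1' := h.w_mul C R hσ K.m_bs K.σ_bs
  have e2 : ((w π T K.b : M) : G)⁻¹ = ((w π T K.b : M) : G) := congrArg Subtype.val (w_inv C R K.m_b)
  have e3 : u * (((w π T K.b : M) : G)⁻¹ * u * ((w π T K.b : M) : G)) = (u * u) * (((w π T K.bs : M) : G) * ((w π T K.b : M) : G)) := by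
    rw [e2, e1]; group
  have e4 : ((w π T K.bs : M) : G) * ((w π T K.b : M) : G) = ((w π T K.k23 * x3 π K : M) : G) * ((w π T K.k23 * x3 π K : M) : G) *
      (((w π T K.h24 * w π T K.h34 : M) : G) * ((w π T K.h24 * w π T K.h34 : M) : G)) := by
    have := congrArg Subtype.val (kap_eq K C R)
    exact this.symm
  rw [e3, e4]
  have hm : ∀ v : M, v * sh π K = sh π K * v → (v : G) * (v : G) ∈
      Subgroup.closure {w : G | ∃ y : G, y * (t : G) = t * y ∧ y * ((sh π K : M) : G) = (sh π K : M) * y ∧ y * y = w} := by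
    intro v hv
    exact Subgroup.subset_closure ⟨v, hMt _ v.2, congrArg Subtype.val hv, rfl⟩
  refine Subgroup.mul_mem _ (Subgroup.subset_closure ⟨u, hut, (sh_u K h C R hσ).symm, rfl⟩)
    (Subgroup.mul_mem _ (hm _ ?_) (hm _ ?_))
  · rw [mul_assoc, x3_sh K C R, ← mul_assoc, k23_sh K C R, mul_assoc]
  · rw [mul_assoc, h34_sh K C R, ← mul_assoc, h24_sh K C R, mul_assoc]

/-- (5') -/
theorem five (h : Ind π σ u) (C : Cover π t) (R : Roots E T) (hσ : ∀ r ∈ T, σ r ∈ T)
    (hMt : ∀ x ∈ M, x * t = t * x) :
    ((sh π K : M) : G) ∈ Subgroup.closure {w : G | ∃ y : G, y * (t : G) = t * y ∧ y * u = u * y ∧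
      y * ((Lab.w π T K.r : M) : G) = (Lab.w π T K.r : M) * y ∧ y * y = w} := by
  have e4 : ((sh π K : M) : G) = ((w π T K.g * x3 π K : M) : G) * ((w π T K.g * x3 π K : M) : G) *
      (((w π T K.h14 * w π T K.h34 : M) : G) * ((w π T K.h14 * w π T K.h34 : M) : G)) := by
    have := congrArg Subtype.val (sh_eq K C R)
    exact this.symm
  rw [e4]
  have hm : ∀ v : M, (v : G) * u = u * v → v * w π T K.r = w π T K.r * v → (v : G) * (v : G) ∈
      Subgroup.closure {w : G | ∃ y : G, y * (t : G) = t * y ∧ y * u = u * y ∧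
        y * ((Lab.w π T K.r : M) : G) = (Lab.w π T K.r : M) * y ∧ y * y = w} := by
    intro v hv hr
    exact Subgroup.subset_closure ⟨v, hMt _ v.2, hv, congrArg Subtype.val hr, rfl⟩
  have g1 := h.w_mul C R hσ K.m_g K.σ_g
  have g2 := h.w_mul C R hσ K.m_h14 K.σ_h14
  have g3 := h.w_mul C R hσ K.m_h34 K.σ_h34
  refine Subgroup.mul_mem _ (hm _ ?_ ?_) (hm _ ?_ ?_)
  · show ((w π T K.g : M) : G) * ((x3 π K : M) : G) * u = u * (((w π T K.g : M) : G) * ((x3 π K : M) : G))
    rw [mul_assoc, x3_u K h C R hσ, ← mul_assoc, g1, mul_assoc]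
  · rw [mul_assoc, x3_r K C R, ← mul_assoc, ← w_comm C R K.m_r K.m_g K.c_r_g, mul_assoc]
  · show ((w π T K.h14 : M) : G) * ((w π T K.h34 : M) : G) * u = u * (((w π T K.h14 : M) : G) * ((w π T K.h34 : M) : G))
    rw [mul_assoc, g3, ← mul_assoc, g2, mul_assoc]
  · rw [mul_assoc, ← w_comm C R K.m_r K.m_h34 K.c_r_h34, ← mul_assoc, ← w_comm C R K.m_r K.m_h14 K.c_r_h14,
      mul_assoc]

end group

end Cfsg.Agent.BabyU.FusCfg
end

-- part: BabyU/FusParity
section
/-!
# The fusion step of the Baby Monster type by parity of the transfer (R19U, U-B P3, helper941)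

`G` finite without subgroups of index 2, `z` an involution, `C = C_G(z)`, `M ≤ C` of index 2. For a conjugate
`d` of `z` let `M_d` be the corresponding conjugate of `M`. For `u ∈ C ∖ M` (with `u² = 1`, or `u² = z` and no
involutions in `C ∖ M`) and a 2-subgroup `P ≤ C_C(u)`, the number of `d ∈ z^G ∩ C_G(P)` commuting with `u` such
that `u ∉ M_d` is even. With `C_G(P) ≤ {z^i u^j r^k s^l}` and a few facts this gives that `r` or `z r` is
conjugate to `z`.
-/

set_option autoImplicit false

namespace Cfsg.Agent.BabyU.FusParity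

open Cfsg.Agent.LargeExtra Cfsg.Agent.LargeExtra.Transfer

variable {G : Type*} [Group G]

/-- `d = z^g`, `x ∈ C_G(d) ∖ M_d` -/
def Out (z : G) (M : Subgroup G) (d x : G) : Prop :=
  ∃ g : G, g * z * g⁻¹ = d ∧ (g⁻¹ * x * g) * z = z * (g⁻¹ * x * g) ∧ g⁻¹ * x * g ∉ M

/-- `d = z^g`, `x ∈ M_d` -/
def Inn (z : G) (M : Subgroup G) (d x : G) : Prop :=
  ∃ g : G, g * z * g⁻¹ = d ∧ g⁻¹ * x * g ∈ M

variable {z : G} {M : Subgroup G}

theorem conj_mem (hle : M ≤ Subgroup.centralizer ({z} : Set G))
    (h2 : M.relIndex (Subgroup.centralizer ({z} : Set G)) = 2) {g g' x : G}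
    (h : g * z * g⁻¹ = g' * z * g'⁻¹) : g⁻¹ * x * g ∈ M ↔ g'⁻¹ * x * g' ∈ M := by
  have hc : g'⁻¹ * g ∈ Subgroup.centralizer ({z} : Set G) := by
    rw [Subgroup.mem_centralizer_singleton_iff]
    calc g'⁻¹ * g * z = g'⁻¹ * (g * z * g⁻¹) * g := by group
      _ = g'⁻¹ * (g' * z * g'⁻¹) * g := by rw [h]
      _ = _ := by group
  have e : (g'⁻¹ * g)⁻¹ * (g'⁻¹ * x * g') * (g'⁻¹ * g) = g⁻¹ * x * g := by group
  rw [← e]
  exact normal_of_relIndex hle h2 hc

theorem comm_iff {g d x : G} (h : g * z * g⁻¹ = d) :
    (g⁻¹ * x * g) * z = z * (g⁻¹ * x * g) ↔ x * d = d * x := by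
  rw [← h]
  constructor
  · intro h1
    calc x * (g * z * g⁻¹) = g * ((g⁻¹ * x * g) * z) * g⁻¹ := by group
      _ = g * (z * (g⁻¹ * x * g)) * g⁻¹ := by rw [h1]
      _ = _ := by group
  · intro h1
    calc (g⁻¹ * x * g) * z = g⁻¹ * (x * (g * z * g⁻¹)) * g := by group
      _ = g⁻¹ * ((g * z * g⁻¹) * x) * g := by rw [h1]
      _ = _ := by group

theorem Out.comm {d x : G} (h : Out z M d x) : x * d = d * x := by
  obtain ⟨g, h1, h2, -⟩ := h
  exact (comm_iff h1).1 h2

theorem Out.isConj {d x : G} (h : Out z M d x) : ∃ g : G, g * z * g⁻¹ = d := by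
  obtain ⟨g, h1, -⟩ := h
  exact ⟨g, h1⟩

theorem Inn.comm (hle : M ≤ Subgroup.centralizer ({z} : Set G)) {d x : G} (h : Inn z M d x) :
    x * d = d * x := by
  obtain ⟨g, h1, h2⟩ := h
  exact (comm_iff h1).1 (Subgroup.mem_centralizer_singleton_iff.1 (hle h2))

theorem out_iff (hle : M ≤ Subgroup.centralizer ({z} : Set G))
    (h2 : M.relIndex (Subgroup.centralizer ({z} : Set G)) = 2) {g d x : G} (hg : g * z * g⁻¹ = d)
    (hx : x * d = d * x) : Out z M d x ↔ g⁻¹ * x * g ∉ M := by
  constructor
  · rintro ⟨g', h1, -, h3⟩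
    rwa [conj_mem hle h2 (hg.trans h1.symm)]
  · intro h3
    exact ⟨g, hg, (comm_iff hg).2 hx, h3⟩

theorem inn_iff (hle : M ≤ Subgroup.centralizer ({z} : Set G))
    (h2 : M.relIndex (Subgroup.centralizer ({z} : Set G)) = 2) {g d x : G} (hg : g * z * g⁻¹ = d) :
    Inn z M d x ↔ g⁻¹ * x * g ∈ M := by
  constructor
  · rintro ⟨g', h1, h3⟩
    rwa [conj_mem hle h2 (hg.trans h1.symm)]
  · intro h3
    exact ⟨g, hg, h3⟩

theorem out_iff_not (hle : M ≤ Subgroup.centralizer ({z} : Set G))
    (h2 : M.relIndex (Subgroup.centralizer ({z} : Set G)) = 2) {d x : G}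
    (hd : ∃ g : G, g * z * g⁻¹ = d) (hx : x * d = d * x) : Out z M d x ↔ ¬ Inn z M d x := by
  obtain ⟨g, hg⟩ := hd
  rw [out_iff hle h2 hg hx, inn_iff hle h2 hg]

theorem out_conj {d x h : G} : Out z M (h * d * h⁻¹) (h * x * h⁻¹) ↔ Out z M d x := by
  constructor
  · rintro ⟨g, h1, h3, h4⟩
    have e : (h⁻¹ * g)⁻¹ * x * (h⁻¹ * g) = g⁻¹ * (h * x * h⁻¹) * g := by group
    refine ⟨h⁻¹ * g, ?_, ?_, ?_⟩
    · calc h⁻¹ * g * z * (h⁻¹ * g)⁻¹ = h⁻¹ * (g * z * g⁻¹) * h := by group
        _ = h⁻¹ * (h * d * h⁻¹) * h := by rw [h1]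
        _ = d := by group
    · rw [e]; exact h3
    · rw [e]; exact h4
  · rintro ⟨g, h1, h3, h4⟩
    have e : (h * g)⁻¹ * (h * x * h⁻¹) * (h * g) = g⁻¹ * x * g := by group
    refine ⟨h * g, ?_, ?_, ?_⟩
    · calc h * g * z * (h * g)⁻¹ = h * (g * z * g⁻¹) * h⁻¹ := by group
        _ = _ := by rw [h1]
    · rw [e]; exact h3
    · rw [e]; exact h4

/-- additivity of `χ_d` -/
theorem out_mul (hle : M ≤ Subgroup.centralizer ({z} : Set G))
    (h2 : M.relIndex (Subgroup.centralizer ({z} : Set G)) = 2) {d x y : G}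
    (hd : ∃ g : G, g * z * g⁻¹ = d) (hx : x * d = d * x) (hy : y * d = d * y) :
    Out z M d (x * y) ↔ (Out z M d x ↔ ¬ Out z M d y) := by
  obtain ⟨g, hg⟩ := hd
  have hxy : (x * y) * d = d * (x * y) := by
    rw [mul_assoc, hy, ← mul_assoc, hx, mul_assoc]
  rw [out_iff hle h2 hg hx, out_iff hle h2 hg hy, out_iff hle h2 hg hxy]
  have e : g⁻¹ * (x * y) * g = (g⁻¹ * x * g) * (g⁻¹ * y * g) := by group
  rw [e]
  have hxC : g⁻¹ * x * g ∈ Subgroup.centralizer ({z} : Set G) :=
    Subgroup.mem_centralizer_singleton_iff.2 ((comm_iff hg).2 hx)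
  have hyC : g⁻¹ * y * g ∈ Subgroup.centralizer ({z} : Set G) :=
    Subgroup.mem_centralizer_singleton_iff.2 ((comm_iff hg).2 hy)
  have h3 := Subgroup.mul_mem_iff_of_index_two (H := M.subgroupOf (Subgroup.centralizer ({z} : Set G))) h2
    (a := ⟨_, hxC⟩) (b := ⟨_, hyC⟩)
  rw [Subgroup.mem_subgroupOf, Subgroup.mem_subgroupOf, Subgroup.mem_subgroupOf] at h3
  change (g⁻¹ * x * g) * (g⁻¹ * y * g) ∈ M ↔ (g⁻¹ * x * g ∈ M ↔ g⁻¹ * y * g ∈ M) at h3
  (clear * - h3; tauto)

/-- elements of odd order of `C_G(d)` are in `M_d` -/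
theorem inn_of_odd (hle : M ≤ Subgroup.centralizer ({z} : Set G))
    (h2 : M.relIndex (Subgroup.centralizer ({z} : Set G)) = 2) {d x : G}
    (hd : ∃ g : G, g * z * g⁻¹ = d) (hx : x * d = d * x) (hodd : Odd (orderOf x)) : Inn z M d x := by
  obtain ⟨g, hg⟩ := hd
  rw [inn_iff hle h2 hg]
  by_contra hne
  have hxC : g⁻¹ * x * g ∈ Subgroup.centralizer ({z} : Set G) :=
    Subgroup.mem_centralizer_singleton_iff.2 ((comm_iff hg).2 hx)
  obtain ⟨m, hm⟩ := hodd
  have hpow : (g⁻¹ * x * g) ^ (orderOf x) = 1 := by
    have e : (g⁻¹ * x * g) = MulAut.conj g⁻¹ x := by rw [MulAut.conj_apply, inv_inv]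
    rw [e, ← map_pow, pow_orderOf_eq_one, map_one]
  rw [hm, pow_succ, pow_mul] at hpow
  have h4 : (g⁻¹ * x * g) ^ 2 ∈ M := by
    have h3 := Subgroup.mul_mem_iff_of_index_two
      (H := M.subgroupOf (Subgroup.centralizer ({z} : Set G))) h2 (a := ⟨_, hxC⟩) (b := ⟨_, hxC⟩)
    rw [Subgroup.mem_subgroupOf, Subgroup.mem_subgroupOf] at h3
    change (g⁻¹ * x * g) * (g⁻¹ * x * g) ∈ M ↔ (g⁻¹ * x * g ∈ M ↔ g⁻¹ * x * g ∈ M) at h3
    rw [pow_two]
    exact h3.2 Iff.rfl
  apply hne
  have h5 : g⁻¹ * x * g = (((g⁻¹ * x * g) ^ 2) ^ m)⁻¹ := by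
    rw [eq_inv_iff_mul_eq_one, ← hpow]
    rw [← pow_mul, ← pow_succ, ← pow_succ']
  rw [h5]
  exact M.inv_mem (M.pow_mem h4 m)

/-- PARITY: the number of `d ∈ z^G` centralised by `P` with `u ∉ M_d` is even. -/
theorem even_card [Finite G] (hG : ∀ H : Subgroup G, H.index ≠ 2)
    (hle : M ≤ Subgroup.centralizer ({z} : Set G))
    (h2 : M.relIndex (Subgroup.centralizer ({z} : Set G)) = 2) (u : G) {k : ℕ} (hu : u ^ (2 ^ k) = 1)
    (hev : ∀ (m : ℕ) (g : G), 2 ∣ m → (g⁻¹ * u ^ m * g) * z = z * (g⁻¹ * u ^ m * g) →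
      g⁻¹ * u ^ m * g ∈ M) (P : Subgroup G) (hP : IsPGroup 2 P) (hPu : ∀ p ∈ P, p * u = u * p) :
    Even (Nat.card {d : G // Out z M d u ∧ ∀ p ∈ P, p * d = d * p}) := by
  classical
  have h3 := TransferPow.even_card_fixed hG hle h2 u hu (fun m g hm hg =>
    hev m g hm (Subgroup.mem_centralizer_singleton_iff.1 hg)) P hP hPu
  convert h3 using 1
  symm
  have key : ∀ x : G ⧸ Subgroup.centralizer ({z} : Set G), ∀ g : G, (g : G ⧸ _) = x →
      x.out * z * x.out⁻¹ = g * z * g⁻¹ := by
    intro x g hg
    have h1 : x.out⁻¹ * g ∈ Subgroup.centralizer ({z} : Set G) := by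
      rw [← QuotientGroup.eq, QuotientGroup.out_eq', hg]
    have h4 := Subgroup.mem_centralizer_singleton_iff.1 h1
    calc x.out * z * x.out⁻¹ = x.out * (z * (x.out⁻¹ * g)) * g⁻¹ := by group
      _ = x.out * ((x.out⁻¹ * g) * z) * g⁻¹ := by rw [h4]
      _ = _ := by group
  have hiff : ∀ (P : Subgroup G) (g : G), (∀ p ∈ P, p • (g : G ⧸ Subgroup.centralizer ({z} : Set G)) = g) ↔
      ∀ p ∈ P, p * (g * z * g⁻¹) = (g * z * g⁻¹) * p := by
    intro P g
    refine forall₂_congr fun p _ => ?_
    rw [smul_eq_iff, Subgroup.mem_centralizer_singleton_iff]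
    exact comm_iff rfl
  apply Nat.card_congr
  refine Equiv.ofBijective (fun x => ⟨x.1.out * z * x.1.out⁻¹, ?_, ?_⟩) ⟨?_, ?_⟩
  · exact ⟨x.1.out, rfl, Subgroup.mem_centralizer_singleton_iff.1 x.2.1.1, x.2.1.2⟩
  · rw [← hiff, QuotientGroup.out_eq']
    exact x.2.2
  · intro x y hxy
    have h4 : x.1.out * z * x.1.out⁻¹ = y.1.out * z * y.1.out⁻¹ := congrArg Subtype.val hxy
    apply Subtype.ext
    rw [← QuotientGroup.out_eq' x.1, ← QuotientGroup.out_eq' y.1, QuotientGroup.eq,
      Subgroup.mem_centralizer_singleton_iff]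
    calc x.1.out⁻¹ * y.1.out * z = x.1.out⁻¹ * (y.1.out * z * y.1.out⁻¹) * y.1.out := by group
      _ = x.1.out⁻¹ * (x.1.out * z * x.1.out⁻¹) * y.1.out := by rw [h4]
      _ = _ := by group
  · rintro ⟨d, ⟨g, hg, hgC, hgM⟩, hd⟩
    refine ⟨⟨(g : G ⧸ _), (odd1_iff hle h2 u g).2
      ⟨Subgroup.mem_centralizer_singleton_iff.2 hgC, hgM⟩, ?_⟩, ?_⟩
    · rw [hiff, hg]
      exact hd
    · apply Subtype.ext
      exact (key _ g rfl).trans hg

/-- A finite set with a fixed point free involution off one point has odd cardinality. -/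
theorem odd_of_involution {α : Type*} [Finite α] (a : α) (f : α → α) (hf : ∀ x, x ≠ a → f x ≠ a)
    (hff : ∀ x, x ≠ a → f (f x) = x) (hne : ∀ x, x ≠ a → f x ≠ x) : ¬ Even (Nat.card α) := by
  classical
  have : Fintype α := Fintype.ofFinite α
  have : Fact (Nat.Prime 2) := ⟨Nat.prime_two⟩
  let g : Function.End α := fun x => if x = a then a else f x
  have ga : g a = a := if_pos rfl
  have gx : ∀ x, x ≠ a → g x = f x := fun x hx => if_neg hx
  have hg : g ^ 2 ^ 1 = 1 := by
    rw [pow_one, pow_two]
    funext x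
    show g (g x) = x
    by_cases hx : x = a
    · rw [hx, ga, ga]
    · rw [gx x hx, gx _ (hf x hx), hff x hx]
  have h1 := Equiv.Perm.card_fixedPoints_modEq hg
  have h2 : Fintype.card (Function.fixedPoints g) = 1 := by
    rw [Fintype.card_eq_one_iff]
    refine ⟨⟨a, ga⟩, ?_⟩
    rintro ⟨y, hy⟩
    apply Subtype.ext
    by_contra hya
    exact hne y hya ((gx y hya).symm.trans hy)
  rw [h2] at h1
  rw [Nat.card_eq_fintype_card, Nat.even_iff]
  intro h3
  have h4 : Fintype.card α % 2 = 1 % 2 := h1
  omega

theorem mul_mem_iff (hle : M ≤ Subgroup.centralizer ({z} : Set G))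
    (h2 : M.relIndex (Subgroup.centralizer ({z} : Set G)) = 2) {x y : G}
    (hx : x * z = z * x) (hy : y * z = z * y) : x * y ∈ M ↔ (x ∈ M ↔ y ∈ M) := by
  have h3 := Subgroup.mul_mem_iff_of_index_two (H := M.subgroupOf (Subgroup.centralizer ({z} : Set G))) h2
    (a := ⟨x, Subgroup.mem_centralizer_singleton_iff.2 hx⟩)
    (b := ⟨y, Subgroup.mem_centralizer_singleton_iff.2 hy⟩)
  rw [Subgroup.mem_subgroupOf, Subgroup.mem_subgroupOf, Subgroup.mem_subgroupOf] at h3
  exact h3

/-- If `L ≤ C_G(d)` has no subgroup of index two, then `L ≤ M_d`. -/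
theorem inn_of_perfect (hle : M ≤ Subgroup.centralizer ({z} : Set G))
    (h2 : M.relIndex (Subgroup.centralizer ({z} : Set G)) = 2) {d : G}
    (hd : ∃ g : G, g * z * g⁻¹ = d) {L : Subgroup G} (hL : ∀ w ∈ L, w * d = d * w)
    (h4 : ∀ K : Subgroup G, K ≤ L → K.relIndex L ≠ 2) : ∀ w ∈ L, Inn z M d w := by
  obtain ⟨g, hg⟩ := hd
  by_contra hcon
  push_neg at hcon
  obtain ⟨w, hw, hwI⟩ := hcon
  have hmem : ∀ x : G, x ∈ L ⊓ M.map (MulAut.conj g).toMonoidHom ↔ x ∈ L ∧ Inn z M d x := by
    intro x
    rw [Subgroup.mem_inf, inn_iff hle h2 hg]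
    refine and_congr_right fun _ => ?_
    constructor
    · rintro ⟨y, hy, rfl⟩
      show g⁻¹ * (g * y * g⁻¹) * g ∈ M
      have e : g⁻¹ * (g * y * g⁻¹) * g = y := by group
      rw [e]; exact hy
    · intro hx
      refine ⟨g⁻¹ * x * g, hx, ?_⟩
      show g * (g⁻¹ * x * g) * g⁻¹ = x
      group
  apply h4 (L ⊓ M.map (MulAut.conj g).toMonoidHom) inf_le_left
  rw [Subgroup.relIndex_eq_two_iff]
  refine ⟨w, hw, fun b hb => ?_⟩
  have h5 := out_mul hle h2 ⟨g, hg⟩ (hL b hb) (hL w hw)
  rw [out_iff_not hle h2 ⟨g, hg⟩ (hL b hb), out_iff_not hle h2 ⟨g, hg⟩ (hL w hw),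
    out_iff_not hle h2 ⟨g, hg⟩ (x := b * w) (by rw [mul_assoc, hL w hw, ← mul_assoc, hL b hb, mul_assoc])] at h5
  rw [hmem, hmem]
  have h6 : b * w ∈ L := L.mul_mem hb hw
  unfold Xor
  (clear * - hwI hb h5 h6; tauto)

/-- The fusion theorem. `r`, `s` are the canonical lifts of the long and of the short highest root involution. -/
theorem exists_conj [Finite G] (hG : ∀ H : Subgroup G, H.index ≠ 2) (hz : z * z = 1) (hz1 : z ≠ 1)
    (hle : M ≤ Subgroup.centralizer ({z} : Set G))
    (h2 : M.relIndex (Subgroup.centralizer ({z} : Set G)) = 2) (hzM : z ∈ M) {u r s c n : G}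
    (huz : u * z = z * u) (huM : u ∉ M)
    (hu : u * u = 1 ∨ (u * u = z ∧ ∀ x : G, x * z = z * x → x * x = 1 → x ∈ M))
    (hrM : r ∈ M) (hsM : s ∈ M) (hr : r * r = 1) (hr1 : r ≠ 1) (hs : s * s = 1) (hs1 : s ≠ 1)
    (hrs : r * s = s * r) (hru : r * u = u * r) (hsu : s * u = u * s)
    (P : Subgroup G) (hP : IsPGroup 2 P) (hPu : ∀ p ∈ P, p * u = u * p) (hPz : ∀ p ∈ P, p * z = z * p)
    (hPr : ∀ p ∈ P, p * r = r * p) (hPs : ∀ p ∈ P, p * s = s * p)
    (hCP : ∀ x : G, (∀ p ∈ P, p * x = x * p) → ∃ m a : G, (m = 1 ∨ m = z) ∧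
      (a = 1 ∨ a = r ∨ a = s ∨ a = r * s) ∧ (x = m * a ∨ x = m * u * a))
    (hcz : c * z = z * c) (hcr : c * r = r * c) (hcs : c * s = s * c) (hcu : c * u * c⁻¹ = u * s)
    (hnz : n * z = z * n) (hns : n * s * n⁻¹ = r * s)
    (h4 : ∀ K : Subgroup G, K ≤ M ⊓ Subgroup.centralizer ({s} : Set G) →
      K.relIndex (M ⊓ Subgroup.centralizer ({s} : Set G)) ≠ 2)
    (h5 : s ∈ Subgroup.closure {y : G | Odd (orderOf y) ∧ y * z = z * y ∧ y * u = u * y ∧ y * r = r * y}) :
    ∃ g : G, g * z * g⁻¹ = r ∨ g * z * g⁻¹ = z * r := by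
  classical
  by_contra hno
  push_neg at hno
  have hrz : r * z = z * r := Subgroup.mem_centralizer_singleton_iff.1 (hle hrM)
  have hsz : s * z = z * s := Subgroup.mem_centralizer_singleton_iff.1 (hle hsM)
  have hzz : z * z = z * z := rfl
  -- the set `X` has even cardinality
  have heven : Even (Nat.card {d : G // Out z M d u ∧ ∀ p ∈ P, p * d = d * p}) := by
    rcases hu with hu | ⟨hu, hinv⟩
    · refine even_card hG hle h2 u (k := 1) (by rw [pow_one, pow_two, hu]) ?_ P hP hPu
      rintro m g ⟨j, rfl⟩ -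
      rw [pow_mul, pow_two, hu, one_pow, mul_one, inv_mul_cancel]
      exact M.one_mem
    · refine even_card hG hle h2 u (k := 2) ?_ ?_ P hP hPu
      · show u ^ (2 * 2) = 1
        rw [pow_mul, pow_two u, hu, pow_two, hz]
      · rintro m g ⟨j, rfl⟩ hcomm
        apply hinv _ hcomm
        have e : (g⁻¹ * u ^ (2 * j) * g) * (g⁻¹ * u ^ (2 * j) * g) = g⁻¹ * (u ^ (2 * j) * u ^ (2 * j)) * g := by
          group
        rw [e, pow_mul, pow_two u, hu, ← pow_add, ← two_mul, pow_mul, pow_two z, hz, one_pow, mul_one,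
          inv_mul_cancel]
  -- conjugates of `z` are involutions
  have hinv : ∀ d, (∃ g : G, g * z * g⁻¹ = d) → d * d = 1 ∧ d ≠ 1 := by
    rintro d ⟨g, rfl⟩
    constructor
    · calc g * z * g⁻¹ * (g * z * g⁻¹) = g * (z * z) * g⁻¹ := by group
        _ = 1 := by rw [hz]; group
    · intro h
      apply hz1
      calc z = g⁻¹ * (g * z * g⁻¹) * g := by group
        _ = 1 := by rw [h]; group
  -- the classification of the elements of `X`
  have hclass : ∀ d, Out z M d u → (∀ p ∈ P, p * d = d * p) → d ≠ z →
      (∃ m, (m = 1 ∨ m = z) ∧ (d = m * s ∨ d = m * (r * s))) ∨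
      (∃ m a, (m = 1 ∨ m = z) ∧ (a = 1 ∨ a = r ∨ a = s ∨ a = r * s) ∧ d = m * u * a) := by
    intro d hd hdP hdz
    obtain ⟨g, hg⟩ := hd.isConj
    have hne := (hinv d ⟨g, hg⟩).2
    obtain ⟨m, a, hm, ha, rfl | rfl⟩ := hCP d hdP
    · left
      refine ⟨m, hm, ?_⟩
      rcases ha with rfl | rfl | rfl | rfl
      · rcases hm with rfl | rfl
        · exact absurd (mul_one 1) hne
        · exact absurd (mul_one _) hdz
      · rcases hm with rfl | rfl
        · exact absurd (hg.trans (one_mul _)) (hno g).1
        · exact absurd hg (hno g).2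
      · exact Or.inl rfl
      · exact Or.inr rfl
    · right
      exact ⟨m, a, hm, ha, rfl⟩
  have hmM : ∀ m, (m = 1 ∨ m = z) → m ∈ M := by
    rintro m (rfl | rfl)
    · exact M.one_mem
    · exact hzM
  have hmc : ∀ m, (m = 1 ∨ m = z) → ∀ w : G, w * z = z * w → w * m = m * w := by
    intro m hm w hw
    rcases hm with h | h
    · rw [h, mul_one, one_mul]
    · rw [h, hw]
  have hac : ∀ a, (a = 1 ∨ a = r ∨ a = s ∨ a = r * s) → ∀ w : G, w * r = r * w → w * s = s * w →
      w * a = a * w := by
    intro a ha w hw1 hw2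
    rcases ha with h | h | h | h
    · rw [h, mul_one, one_mul]
    · rw [h, hw1]
    · rw [h, hw2]
    · rw [h, ← mul_assoc, hw1, mul_assoc, hw2, mul_assoc]
  have haM : ∀ a, (a = 1 ∨ a = r ∨ a = s ∨ a = r * s) → a ∈ M := by
    rintro a (rfl | rfl | rfl | rfl)
    · exact M.one_mem
    · exact hrM
    · exact hsM
    · exact M.mul_mem hrM hsM
  -- inner elements
  have hA : ∀ m, (m = 1 ∨ m = z) → (∃ g : G, g * z * g⁻¹ = m * s) →
      (Out z M (m * s) u ↔ Out z M (m * (r * s)) u) := by
    intro m hm hg
    have hms : ∀ w : G, w * z = z * w → w * s = s * w → w * (m * s) = (m * s) * w := by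
      intro w hwz hws
      rw [← mul_assoc, hmc m hm w hwz, mul_assoc, hws, mul_assoc]
    have hI := inn_of_perfect hle h2 hg (L := M ⊓ Subgroup.centralizer ({s} : Set G))
      (fun w hw => hms w (Subgroup.mem_centralizer_singleton_iff.1 (hle hw.1))
        (Subgroup.mem_centralizer_singleton_iff.1 hw.2)) h4
    set y := n⁻¹ * u * n with hy
    have hnz' : n⁻¹ * z = z * n⁻¹ := by
      rw [inv_mul_eq_iff_eq_mul, ← mul_assoc, hnz, mul_assoc, mul_inv_cancel, mul_one]
    have hyz : y * z = z * y := by
      calc n⁻¹ * u * n * z = n⁻¹ * u * (n * z) := by group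
        _ = n⁻¹ * (u * z) * n := by rw [hnz]; group
        _ = (n⁻¹ * z) * u * n := by rw [huz]; group
        _ = z * n⁻¹ * u * n := by rw [hnz']
        _ = _ := by rw [hy]; group
    have hyM : y ∉ M := by
      rw [hy, normal_of_relIndex hle h2 (Subgroup.mem_centralizer_singleton_iff.2 hnz)]
      exact huM
    have hys : y * s = s * y := by
      have h6 : u * (r * s) = (r * s) * u := by
        rw [← mul_assoc, ← hru, mul_assoc, ← hsu, mul_assoc]
      rw [← hns] at h6
      calc n⁻¹ * u * n * s = n⁻¹ * (u * (n * s * n⁻¹)) * n := by group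
        _ = n⁻¹ * ((n * s * n⁻¹) * u) * n := by rw [h6]
        _ = _ := by rw [hy]; group
    have huy : u * y ∈ M ⊓ Subgroup.centralizer ({s} : Set G) := by
      refine ⟨(mul_mem_iff hle h2 huz hyz).2 ⟨fun h => absurd h huM, fun h => absurd h hyM⟩,
        Subgroup.mem_centralizer_singleton_iff.2 ?_⟩
      rw [mul_assoc, hys, ← mul_assoc, ← hsu, mul_assoc]
    have h7 := hI _ huy
    have hcu1 := hms u huz hsu.symm
    have hcy1 := hms y hyz hys
    have h8 := out_mul hle h2 hg hcu1 hcy1
    have h9 : ¬ Out z M (m * s) (u * y) := by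
      rw [out_iff_not hle h2 hg (by rw [mul_assoc, hcy1, ← mul_assoc, hcu1, mul_assoc])]
      exact not_not.2 h7
    have h10 : Out z M (m * s) y ↔ Out z M (m * (r * s)) u := by
      rw [← out_conj (h := n)]
      have e1 : n * (m * s) * n⁻¹ = m * (r * s) := by
        rw [← hns]
        calc n * (m * s) * n⁻¹ = (n * m) * s * n⁻¹ := by group
          _ = m * n * s * n⁻¹ := by rw [hmc m hm n hnz]
          _ = _ := by group
      have e2 : n * y * n⁻¹ = u := by rw [hy]; group
      rw [e1, e2]
    (clear * - h8 h9 h10; tauto)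
  -- outer elements
  have hB : ∀ m a, (m = 1 ∨ m = z) → (a = 1 ∨ a = r ∨ a = s ∨ a = r * s) →
      c * (m * u * a) * c⁻¹ = m * u * a * s := by
    intro m a hm ha
    have e1 : c * m * c⁻¹ = m := by rw [hmc m hm c hcz, mul_inv_cancel_right]
    have e2 : c * a * c⁻¹ = a := by rw [hac a ha c hcr hcs, mul_inv_cancel_right]
    have e3 : s * a = a * s := hac a ha s hrs.symm rfl
    calc c * (m * u * a) * c⁻¹ = (c * m * c⁻¹) * (c * u * c⁻¹) * (c * a * c⁻¹) := by group
      _ = m * (u * s) * a := by rw [e1, e2, hcu]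
      _ = m * u * (s * a) := by group
      _ = _ := by rw [e3, ← mul_assoc]
  have hC1 : ∀ m a, (m = 1 ∨ m = z) → (a = 1 ∨ a = r) → (∃ g : G, g * z * g⁻¹ = m * u * a) →
      Inn z M (m * u * a) s := by
    rintro m a hm ha ⟨g, hg⟩
    have h6 : Subgroup.closure {y : G | Odd (orderOf y) ∧ y * z = z * y ∧ y * u = u * y ∧ y * r = r * y} ≤
        M.map (MulAut.conj g).toMonoidHom := by
      rw [Subgroup.closure_le]
      rintro y ⟨hy, hyz, hyu, hyr⟩
      have hyd : y * (m * u * a) = (m * u * a) * y := by
        have e1 : y * m = m * y := hmc m hm y hyz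
        have e2 : y * a = a * y := by
          rcases ha with h | h
          · rw [h, one_mul, mul_one]
          · rw [h, hyr]
        rw [← mul_assoc, ← mul_assoc, e1, mul_assoc m y u, hyu, mul_assoc m (u * y) a, mul_assoc u y a, e2]
        group
      have h7 := inn_of_odd hle h2 ⟨g, hg⟩ hyd hy
      rw [inn_iff hle h2 hg] at h7
      refine ⟨_, h7, ?_⟩
      show g * (g⁻¹ * y * g) * g⁻¹ = y
      group
    obtain ⟨w, hw, hws⟩ := h6 h5
    refine ⟨g, hg, ?_⟩
    rw [← hws]
    show g⁻¹ * (g * w * g⁻¹) * g ∈ M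
    have e : g⁻¹ * (g * w * g⁻¹) * g = w := by group
    rw [e]; exact hw
  have hC : ∀ m a, (m = 1 ∨ m = z) → (a = 1 ∨ a = r ∨ a = s ∨ a = r * s) →
      (∃ g : G, g * z * g⁻¹ = m * u * a) → ¬ Out z M (m * u * a) s := by
    intro m a hm ha hg hO
    have hred : ∀ a', (a' = 1 ∨ a' = r) → a = a' * s → False := by
      intro a' ha' haa
      have ha4 : a' = 1 ∨ a' = r ∨ a' = s ∨ a' = r * s := by (clear * - ha'; tauto)
      have e1 := hB m a' hm ha4
      have e2 : m * u * a' * s = m * u * a := by rw [haa]; group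
      rw [e2] at e1
      have e3 : c * s * c⁻¹ = s := by rw [hcs, mul_inv_cancel_right]
      rw [← e1, ← e3, out_conj] at hO
      have hg' : ∃ g : G, g * z * g⁻¹ = m * u * a' := by
        obtain ⟨g, hg⟩ := hg
        refine ⟨c⁻¹ * g, ?_⟩
        calc c⁻¹ * g * z * (c⁻¹ * g)⁻¹ = c⁻¹ * (g * z * g⁻¹) * c := by group
          _ = c⁻¹ * (c * (m * u * a') * c⁻¹) * c := by rw [hg, e1]
          _ = _ := by group
      rw [out_iff_not hle h2 hg' hO.comm] at hO
      exact hO (hC1 m a' hm ha' hg')
    rcases ha with ha | ha | ha | ha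
    · rw [out_iff_not hle h2 hg hO.comm] at hO
      exact hO (hC1 m a hm (Or.inl ha) hg)
    · rw [out_iff_not hle h2 hg hO.comm] at hO
      exact hO (hC1 m a hm (Or.inr ha) hg)
    · exact hred 1 (Or.inl rfl) (by rw [ha, one_mul])
    · exact hred r (Or.inr rfl) ha
  have hcu' : c⁻¹ * u * c = u * s := by
    have h6 : c⁻¹ * (c * u * c⁻¹) * c = u := by group
    have h7 : c⁻¹ * (c * u * c⁻¹) * c = (c⁻¹ * u * c) * s := by
      rw [hcu]
      calc c⁻¹ * (u * s) * c = c⁻¹ * u * (s * c) := by group
        _ = c⁻¹ * u * (c * s) := by rw [hcs]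
        _ = _ := by group
    have h8 : (c⁻¹ * u * c) * s = u := h7.symm.trans h6
    calc c⁻¹ * u * c = (c⁻¹ * u * c) * s * s := by rw [mul_assoc _ s s, hs, mul_one]
      _ = _ := by rw [h8]
  -- the fixed point free involution
  have hstep : ∀ d, Out z M d u → (∀ p ∈ P, p * d = d * p) → d ≠ z →
      (d ∈ M ∧ Out z M (d * r) u ∧ d * r ≠ z) ∨ (d ∉ M ∧ Out z M (d * s) u ∧ d * s ∉ M) := by
    intro d hd hdP hdz
    rcases hclass d hd hdP hdz with ⟨m, hm, hms⟩ | ⟨m, a, hm, ha, rfl⟩
    · left
      have hdr : d * r ≠ z := by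
        intro h
        obtain ⟨g, hg⟩ := hd.isConj
        apply (hno g).2
        rw [hg]
        calc d = d * r * r := by rw [mul_assoc, hr, mul_one]
          _ = _ := by rw [h]
      rcases hms with rfl | rfl
      · refine ⟨M.mul_mem (hmM m hm) hsM, ?_, hdr⟩
        have e : m * s * r = m * (r * s) := by rw [mul_assoc, hrs]
        rw [e]
        exact (hA m hm hd.isConj).1 hd
      · refine ⟨M.mul_mem (hmM m hm) (M.mul_mem hrM hsM), ?_, hdr⟩
        have e : m * (r * s) * r = m * s := by rw [hrs, mul_assoc, mul_assoc, hr, mul_one]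
        rw [e]
        have hg' : ∃ g : G, g * z * g⁻¹ = m * s := by
          obtain ⟨g, hg⟩ := hd.isConj
          refine ⟨n⁻¹ * g, ?_⟩
          calc n⁻¹ * g * z * (n⁻¹ * g)⁻¹ = n⁻¹ * (g * z * g⁻¹) * n := by group
            _ = n⁻¹ * (m * (n * s * n⁻¹)) * n := by rw [hg, hns]
            _ = n⁻¹ * (m * n) * s := by group
            _ = n⁻¹ * (n * m) * s := by rw [hmc m hm n hnz]
            _ = m * s := by group
        exact (hA m hm hg').2 hd
    · right
      have hdM : ∀ b ∈ M, m * u * b ∉ M := by
        intro b hb h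
        apply huM
        have e : u = m⁻¹ * (m * u * b) * b⁻¹ := by group
        rw [e]
        exact M.mul_mem (M.mul_mem (M.inv_mem (hmM m hm)) h) (M.inv_mem hb)
      refine ⟨hdM a (haM a ha), ?_, ?_⟩
      · rw [← hB m a hm ha]
        have e : u = c * (c⁻¹ * u * c) * c⁻¹ := by group
        rw [e, out_conj, ← e, hcu']
        have h6 : s * (m * u * a) = (m * u * a) * s := by
          have e1 : s * m = m * s := hmc m hm s hsz
          have e2 : s * a = a * s := hac a ha s hrs.symm rfl
          rw [← mul_assoc, ← mul_assoc, e1, mul_assoc m s u, hsu, mul_assoc m (u * s) a, mul_assoc u s a, e2]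
          group
        rw [out_mul hle h2 hd.isConj hd.comm h6]
        exact ⟨fun _ => hC m a hm ha hd.isConj, fun _ => hd⟩
      · rw [mul_assoc (m * u) a s]
        exact hdM _ (M.mul_mem (haM a ha) hsM)
  have hz0 : Out z M z u ∧ ∀ p ∈ P, p * z = z * p := by
    refine ⟨⟨1, by group, ?_, ?_⟩, hPz⟩
    · rw [inv_one, one_mul, mul_one]; exact huz
    · rw [inv_one, one_mul, mul_one]; exact huM
  have hfX : ∀ x : {d : G // Out z M d u ∧ ∀ p ∈ P, p * d = d * p}, x.1 ≠ z →
      Out z M (if x.1 ∈ M then x.1 * r else x.1 * s) u ∧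
        ∀ p ∈ P, p * (if x.1 ∈ M then x.1 * r else x.1 * s) = (if x.1 ∈ M then x.1 * r else x.1 * s) * p := by
    intro x hx
    rcases hstep x.1 x.2.1 x.2.2 hx with ⟨h6, h7, h8⟩ | ⟨h6, h7, h8⟩
    · rw [if_pos h6]
      exact ⟨h7, fun p hp => by rw [← mul_assoc, x.2.2 p hp, mul_assoc, hPr p hp, mul_assoc]⟩
    · rw [if_neg h6]
      exact ⟨h7, fun p hp => by rw [← mul_assoc, x.2.2 p hp, mul_assoc, hPs p hp, mul_assoc]⟩
  let f : {d : G // Out z M d u ∧ ∀ p ∈ P, p * d = d * p} → {d : G // Out z M d u ∧ ∀ p ∈ P, p * d = d * p} :=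
    fun x => if hx : x.1 ≠ z then ⟨if x.1 ∈ M then x.1 * r else x.1 * s, hfX x hx⟩ else x
  have hf : ∀ x, x.1 ≠ z → (f x).1 = if x.1 ∈ M then x.1 * r else x.1 * s := by
    intro x hx
    show (if hx : x.1 ≠ z then (⟨if x.1 ∈ M then x.1 * r else x.1 * s, hfX x hx⟩ :
      {d : G // Out z M d u ∧ ∀ p ∈ P, p * d = d * p}) else x).1 = _
    rw [dif_pos hx]
  have hval : ∀ x : {d : G // Out z M d u ∧ ∀ p ∈ P, p * d = d * p}, x ≠ ⟨z, hz0⟩ → x.1 ≠ z :=
    fun x hx h => hx (Subtype.ext h)
  apply odd_of_involution (⟨z, hz0⟩ : {d : G // Out z M d u ∧ ∀ p ∈ P, p * d = d * p}) f ?_ ?_ ?_ heven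
  · intro x hx h
    have h1 := hf x (hval x hx)
    rw [h] at h1
    rcases hstep x.1 x.2.1 x.2.2 (hval x hx) with ⟨h6, h7, h8⟩ | ⟨h6, h7, h8⟩
    · rw [if_pos h6] at h1
      exact h8 h1.symm
    · rw [if_neg h6] at h1
      rw [← h1] at h8
      exact h8 hzM
  · intro x hx
    have h1 := hf x (hval x hx)
    apply Subtype.ext
    rcases hstep x.1 x.2.1 x.2.2 (hval x hx) with ⟨h6, h7, h8⟩ | ⟨h6, h7, h8⟩
    · rw [if_pos h6] at h1
      have h9 : (f x).1 ≠ z := by rw [h1]; exact h8
      rw [hf (f x) h9, h1, if_pos (M.mul_mem h6 hrM), mul_assoc, hr, mul_one]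
    · rw [if_neg h6] at h1
      have h9 : (f x).1 ≠ z := by
        rw [h1]; intro h; rw [h] at h8; exact h8 hzM
      rw [hf (f x) h9, h1, if_neg h8, mul_assoc, hs, mul_one]
  · intro x hx h
    have h1 := hf x (hval x hx)
    rw [h] at h1
    by_cases h6 : x.1 ∈ M
    · rw [if_pos h6] at h1
      exact hr1 (mul_eq_left.1 h1.symm)
    · rw [if_neg h6] at h1
      exact hs1 (mul_eq_left.1 h1.symm)

end Cfsg.Agent.BabyU.FusParity
end

-- part: BabyU/FusParity2
section
/-!
# The fusion step of the Baby Monster type, second form (R19U, U-B P3, helper941)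

As `FusParity.exists_conj`, with `P` generated by a set `S` of involutions. This closes the isoclinic case `u² = z`
without any hypothesis on the involutions outside of `M`: if `{x, u x}` is a `P`-invariant orbit of `⟨u⟩` on `G / C`
belonging to the conjugate `d` of `z` with `z ∉ M_d`, then either all elements of `S` fix `x`, hence commute with `d`,
hence `u` commutes with `d`, or some `p ∈ S` exchanges `x` and `u x`, and `(u⁻¹ p)² = z` is the square of an element
of `C_G(d)`. The perfectness hypotheses are replaced by "product of squares".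
-/

set_option autoImplicit false
set_option linter.style.haveILetI false

namespace Cfsg.Agent.BabyU.FusParity2

open Cfsg.Agent.LargeExtra Cfsg.Agent.LargeExtra.Transfer Cfsg.Agent.LargeExtra.TransferOrbit
open Cfsg.Agent.BabyU.FusParity

variable {G : Type*} [Group G]

/-- Parity of the number of fixed points of `P` on the fixed points of `u` of sign `-1`, if all `P`-invariant
`⟨u⟩`-orbits of sign `-1` consist of fixed points of `⟨u⟩ P`. -/
theorem even_card_orbit [Finite G] (hG : ∀ H : Subgroup G, H.index ≠ 2) {C C₀ : Subgroup G} (hle : C₀ ≤ C)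
    (h2 : C₀.relIndex C = 2) (u : G) (P : Subgroup G) (hP : IsPGroup 2 P) (hPu : ∀ p ∈ P, p * u = u * p)
    (H : ∀ g : G, Neg C C₀ u g → (∀ p ∈ P, ∃ i : ℕ, g⁻¹ * (u ^ i * p) * g ∈ C) →
      g⁻¹ * u * g ∈ C ∧ ∀ p ∈ P, g⁻¹ * p * g ∈ C) :
    Even (Nat.card {x : G ⧸ C // Odd1 C C₀ u x ∧ ∀ p ∈ P, p • x = x}) := by
  classical
  have : Fact (Nat.Prime 2) := ⟨Nat.prime_two⟩
  set R := MulAction.orbitRel (Subgroup.zpowers u) (G ⧸ C) with hR
  have hresp : ∀ p ∈ P, ∀ x y : G ⧸ C, R x y → R (p • x) (p • y) := by
    rintro p hp x y ⟨⟨v, hv⟩, hvy⟩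
    obtain ⟨m, rfl⟩ := Subgroup.mem_zpowers_iff.1 hv
    have h3 : u ^ m • y = x := hvy
    have h4 : u ^ m * p = p * u ^ m := ((show Commute p u from hPu p hp).zpow_right m).symm
    refine ⟨⟨u ^ m, hv⟩, ?_⟩
    show u ^ m • p • y = p • x
    rw [← mul_smul, h4, mul_smul, h3]
  letI act : MulAction P (Quotient R) :=
    { smul := fun p q => Quotient.map (fun x => (p : G) • x) (fun x y h => hresp p p.2 x y h) q
      one_smul := by
        intro q
        induction q using Quotient.inductionOn with
        | _ x =>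
          show Quotient.mk R (((1 : P) : G) • x) = Quotient.mk R x
          rw [Subgroup.coe_one, one_smul]
      mul_smul := by
        intro a b q
        induction q using Quotient.inductionOn with
        | _ x =>
          show Quotient.mk R (((a * b : P) : G) • x) = Quotient.mk R ((a : G) • (b : G) • x)
          rw [Subgroup.coe_mul, mul_smul] }
  have hsmul : ∀ (p : P) (g : G), p • Quotient.mk R (g : G ⧸ C) = Quotient.mk R ((p * g : G) : G ⧸ C) :=
    fun _ _ => rfl
  have hnegiff : ∀ g : G, Neg C C₀ u (rep C u (Quotient.mk R (g : G ⧸ C))) ↔ Neg C C₀ u g :=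
    fun g => neg_rep_iff hle h2 u g
  have hinv : ∀ (p : P) (q : Quotient R), Neg C C₀ u (rep C u q) → Neg C C₀ u (rep C u (p • q)) := by
    intro p q hq
    induction q using Quotient.inductionOn with
    | _ x =>
      obtain ⟨g, rfl⟩ := QuotientGroup.mk_surjective x
      have h3 := (hnegiff g).1 hq
      rw [hsmul]
      have h4 := (neg_congr hle h2 u p g 1 (hPu p p.2) C.one_mem).2 h3
      rw [mul_one] at h4
      exact (hnegiff _).2 h4
  letI : MulAction P {q : Quotient R // Neg C C₀ u (rep C u q)} :=
    { smul := fun p q => ⟨p • q.1, hinv p q.1 q.2⟩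
      one_smul := fun q => Subtype.ext (one_smul P q.1)
      mul_smul := fun a b q => Subtype.ext (mul_smul a b q.1) }
  have h3 := hP.card_modEq_card_fixedPoints {q : Quotient R // Neg C C₀ u (rep C u q)}
  have h5 := even_card_neg hG hle h2 u
  have h6 : Even (Nat.card (MulAction.fixedPoints P {q : Quotient R // Neg C C₀ u (rep C u q)})) := by
    rw [Nat.even_iff] at h5 ⊢
    rw [← h5]
    exact h3.symm
  -- the invariant orbits of sign `-1` are fixed points
  have hfix : ∀ g : G, Neg C C₀ u g → (∀ p : P, p • Quotient.mk R (g : G ⧸ C) = Quotient.mk R (g : G ⧸ C)) →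
      u • (g : G ⧸ C) = (g : G ⧸ C) ∧ ∀ p ∈ P, p • (g : G ⧸ C) = (g : G ⧸ C) := by
    intro g hg hp
    obtain ⟨h7, h8⟩ := H g hg (by
      intro p hpP
      have h8 := hp ⟨p, hpP⟩
      rw [hsmul] at h8
      have h9 : R (g : G ⧸ C) ((p * g : G) : G ⧸ C) := (Quotient.eq (r := R)).1 h8.symm
      obtain ⟨⟨v, hv⟩, hvy⟩ := h9
      obtain ⟨i, hi⟩ := (Submonoid.mem_powers_iff _ _).1
        ((mem_powers_iff_mem_zpowers (x := u)).2 hv)
      subst hi
      have h10 : ((u ^ i * (p * g) : G) : G ⧸ C) = (g : G ⧸ C) := hvy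
      refine ⟨i, ?_⟩
      rw [eq_comm, QuotientGroup.eq] at h10
      have e : g⁻¹ * (u ^ i * p) * g = g⁻¹ * (u ^ i * (p * g)) := by group
      rw [e]
      exact h10)
    exact ⟨(smul_eq_iff C u g).2 h7, fun p hpP => (smul_eq_iff C p g).2 (h8 p hpP)⟩
  have hper1 : ∀ x : G ⧸ C, u • x = x → Function.minimalPeriod (u • ·) x = 1 := fun x hx =>
    Function.minimalPeriod_eq_one_iff_isFixedPt.2 hx
  have hsing : ∀ x y : G ⧸ C, u • x = x → R y x → y = x := by
    rintro x y hx ⟨⟨v, hv⟩, hvy⟩
    obtain ⟨m, rfl⟩ := Subgroup.mem_zpowers_iff.1 hv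
    have h3 : u ^ m • x = x := by
      have h4 : u ∈ MulAction.stabilizer G x := hx
      exact (MulAction.stabilizer G x).zpow_mem h4 m
    have h5 : u ^ m • x = y := hvy
    rw [← h5, h3]
  have hout : ∀ x : G ⧸ C, u • x = x → (Quotient.mk R x).out = x := by
    intro x hx
    exact hsing x _ hx (Quotient.mk_out (s := R) x)
  have hoddneg : ∀ x : G ⧸ C, Odd1 C C₀ u x → Neg C C₀ u x.out ∧ u • x = x := by
    intro x hx
    have h7 : u • x = x := by
      have := (smul_eq_iff C u x.out).2 hx.1
      rwa [QuotientGroup.out_eq'] at this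
    refine ⟨?_, h7⟩
    unfold TransferOrbit.Neg
    rw [QuotientGroup.out_eq', hper1 x h7, pow_one]
    exact hx.2
  have hcard : Nat.card (MulAction.fixedPoints P {q : Quotient R // Neg C C₀ u (rep C u q)}) =
      Nat.card {x : G ⧸ C // Odd1 C C₀ u x ∧ ∀ p ∈ P, p • x = x} := by
    have hfix' : ∀ q : MulAction.fixedPoints P {q : Quotient R // Neg C C₀ u (rep C u q)},
        u • q.1.1.out = q.1.1.out ∧ ∀ p ∈ P, p • q.1.1.out = q.1.1.out := by
      rintro ⟨⟨q, hq⟩, hqf⟩
      have h7 := hfix (rep C u q) hq (by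
        intro p
        have h8 := congrArg Subtype.val (hqf p)
        have e0 : Quotient.mk R ((rep C u q : G) : G ⧸ C) = q := by
          show Quotient.mk R ((q.out.out : G) : G ⧸ C) = q
          rw [QuotientGroup.out_eq', Quotient.out_eq]
        rw [e0]
        exact h8)
      have e1 : ((rep C u q : G) : G ⧸ C) = q.out := by
        show ((q.out.out : G) : G ⧸ C) = q.out
        rw [QuotientGroup.out_eq']
      rw [e1] at h7
      exact h7
    apply Nat.card_congr
    refine
      { toFun := fun q => ⟨q.1.1.out, ?_, (hfix' q).2⟩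
        invFun := fun x => ⟨⟨Quotient.mk R x.1, ?_⟩, ?_⟩
        left_inv := fun q => Subtype.ext (Subtype.ext (Quotient.out_eq q.1.1))
        right_inv := fun x => Subtype.ext (hout x.1 (hoddneg x.1 x.2.1).2) }
    · have h7 := (hfix' q).1
      have h8 : Neg C C₀ u (q.1.1.out.out) := q.1.2
      unfold TransferOrbit.Neg at h8
      rw [QuotientGroup.out_eq', hper1 _ h7, pow_one] at h8
      refine ⟨?_, h8⟩
      rw [← smul_eq_iff, QuotientGroup.out_eq']
      exact h7
    · have h7 := (hoddneg x.1 x.2.1).1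
      have h8 := (hnegiff x.1.out).2 h7
      rw [QuotientGroup.out_eq'] at h8
      exact h8
    · intro p
      apply Subtype.ext
      show p • Quotient.mk R x.1 = Quotient.mk R x.1
      have h7 := hsmul p x.1.out
      rw [QuotientGroup.out_eq'] at h7
      rw [h7]
      have h8 : ((p * x.1.out : G) : G ⧸ C) = (p : G) • x.1 := by
        conv_rhs => rw [← QuotientGroup.out_eq' x.1]
        rfl
      rw [h8, x.2.2 p p.2]
  rw [← hcard]
  exact h6

variable {z : G} {M : Subgroup G}

/-- squares of elements of `C_G(d)` are in `M_d` -/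
theorem inn_sq (hle : M ≤ Subgroup.centralizer ({z} : Set G))
    (h2 : M.relIndex (Subgroup.centralizer ({z} : Set G)) = 2) {d x : G}
    (hd : ∃ g : G, g * z * g⁻¹ = d) (hx : x * d = d * x) : Inn z M d (x * x) := by
  obtain ⟨g, hg⟩ := hd
  rw [inn_iff hle h2 hg]
  have e : g⁻¹ * (x * x) * g = (g⁻¹ * x * g) * (g⁻¹ * x * g) := by group
  have h3 := (comm_iff hg).2 hx
  rw [e, mul_mem_iff hle h2 h3 h3]

/-- products of squares of elements of `C_G(d)` are in `M_d` -/
theorem inn_closure (hle : M ≤ Subgroup.centralizer ({z} : Set G))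
    (h2 : M.relIndex (Subgroup.centralizer ({z} : Set G)) = 2) {d x : G}
    (hd : ∃ g : G, g * z * g⁻¹ = d) {X : Set G} (hX : ∀ w ∈ X, ∃ y : G, y * d = d * y ∧ y * y = w)
    (hx : x ∈ Subgroup.closure X) : Inn z M d x := by
  obtain ⟨g, hg⟩ := hd
  have h3 : Subgroup.closure X ≤ M.map (MulAut.conj g).toMonoidHom := by
    rw [Subgroup.closure_le]
    intro w hw
    obtain ⟨y, hy, rfl⟩ := hX w hw
    have h4 := (inn_iff hle h2 hg).1 (inn_sq hle h2 ⟨g, hg⟩ hy)
    refine ⟨_, h4, ?_⟩
    show g * (g⁻¹ * (y * y) * g) * g⁻¹ = y * y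
    group
  obtain ⟨y, hy, rfl⟩ := h3 hx
  rw [inn_iff hle h2 hg]
  show g⁻¹ * (g * y * g⁻¹) * g ∈ M
  have e : g⁻¹ * (g * y * g⁻¹) * g = y := by group
  rw [e]; exact hy

/-- PARITY for `u² ∈ {1, z}`, `P` generated by involutions. -/
theorem even_card2 [Finite G] (hG : ∀ H : Subgroup G, H.index ≠ 2) (hz : z * z = 1)
    (hle : M ≤ Subgroup.centralizer ({z} : Set G))
    (h2 : M.relIndex (Subgroup.centralizer ({z} : Set G)) = 2) {u : G}
    (hu : u * u = 1 ∨ u * u = z) (S : Set G) (hS2 : ∀ p ∈ S, p * p = 1) (hSu : ∀ p ∈ S, p * u = u * p)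
    (hP : IsPGroup 2 (Subgroup.closure S))
    (hC : ∀ x : G, x * z = z * x → (∀ p ∈ S, p * x = x * p) → x * u = u * x) :
    Even (Nat.card {d : G // Out z M d u ∧ ∀ p ∈ Subgroup.closure S, p * d = d * p}) := by
  classical
  set P := Subgroup.closure S with hPdef
  set C := Subgroup.centralizer ({z} : Set G) with hCdef
  have hPu : ∀ p ∈ P, p * u = u * p := by
    intro p hp
    have h3 : P ≤ Subgroup.centralizer ({u} : Set G) := by
      rw [hPdef, Subgroup.closure_le]
      intro p hp
      exact Subgroup.mem_centralizer_singleton_iff.2 (hSu p hp)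
    exact Subgroup.mem_centralizer_singleton_iff.1 (h3 hp)
  have hu4 : u ^ 4 = 1 := by
    rcases hu with h | h
    · rw [show (4 : ℕ) = 2 * 2 from rfl, pow_mul, pow_two u, h, one_pow]
    · rw [show (4 : ℕ) = 2 * 2 from rfl, pow_mul, pow_two u, h, pow_two, hz]
  have hsmul_pow : ∀ (j : ℕ) (x : G ⧸ C), (u • ·)^[j] x = u ^ j • x := fun j x => by rw [smul_iterate]
  have key := even_card_orbit hG hle h2 u P hP hPu (by
    intro g hneg hp
    -- `S` fixes `gC` implies `P` fixes it
    have hSP : (∀ p ∈ S, g⁻¹ * p * g ∈ C) → ∀ p ∈ P, g⁻¹ * p * g ∈ C := by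
      intro h p hpP
      have h3 : P ≤ MulAction.stabilizer G (g : G ⧸ C) := by
        rw [hPdef, Subgroup.closure_le]
        intro p hp
        exact (smul_eq_iff C p g).2 (h p hp)
      exact (smul_eq_iff C p g).1 (h3 hpP)
    have hper : u ^ Function.minimalPeriod (u • ·) (g : G ⧸ C) • (g : G ⧸ C) = (g : G ⧸ C) := by
      have h7 := Function.iterate_minimalPeriod (f := (u • · : G ⧸ C → G ⧸ C)) (x := (g : G ⧸ C))
      rw [smul_iterate] at h7
      exact h7
    have hdvd : Function.minimalPeriod (u • ·) (g : G ⧸ C) ∣ 4 := by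
      apply Function.IsPeriodicPt.minimalPeriod_dvd
      show (u • ·)^[4] (g : G ⧸ C) = (g : G ⧸ C)
      rw [smul_iterate, hu4]
      exact one_smul _ _
    -- if `u` fixes `gC` we are done
    have done : g⁻¹ * u * g ∈ C → g⁻¹ * u * g ∈ C ∧ ∀ p ∈ P, g⁻¹ * p * g ∈ C := by
      intro h
      refine ⟨h, fun p hpP => ?_⟩
      obtain ⟨i, hi⟩ := hp p hpP
      have e : g⁻¹ * p * g = ((g⁻¹ * u * g) ^ i)⁻¹ * (g⁻¹ * (u ^ i * p) * g) := by
        have e1 : (g⁻¹ * u * g) ^ i = g⁻¹ * u ^ i * g := by
          have := conj_pow (i := i) (a := g⁻¹) (b := u)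
          rwa [inv_inv] at this
        rw [e1]; group
      rw [e]
      exact C.mul_mem (C.inv_mem (C.pow_mem h i)) hi
    unfold TransferOrbit.Neg at hneg
    generalize hm : Function.minimalPeriod (u • ·) (g : G ⧸ C) = m at hneg hper hdvd
    have hm4 : m = 1 ∨ m = 2 ∨ m = 4 := by
      have h7 : m ≤ 4 := Nat.le_of_dvd (by norm_num) hdvd
      interval_cases m
      · exact absurd hdvd (by norm_num)
      · exact Or.inl rfl
      · exact Or.inr (Or.inl rfl)
      · exact absurd hdvd (by norm_num)
      · exact Or.inr (Or.inr rfl)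
    rcases hm4 with rfl | rfl | rfl
    · rw [pow_one] at hper
      exact done ((smul_eq_iff C u g).1 hper)
    · rcases hu with hu | hu
      · exfalso
        apply hneg
        rw [pow_two, hu, mul_one, inv_mul_cancel]
        exact M.one_mem
      · apply done
        rw [pow_two, hu] at hneg hper
        have hzg : g⁻¹ * z * g ∈ C := (smul_eq_iff C z g).1 hper
        -- all elements of `S` fix `gC`
        have hS : ∀ p ∈ S, g⁻¹ * p * g ∈ C := by
          intro p hpS
          obtain ⟨i, hi⟩ := hp p (Subgroup.subset_closure hpS)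
          have hup : ∀ j : ℕ, (g⁻¹ * z * g) ^ j * (g⁻¹ * p * g) = g⁻¹ * (u ^ (2 * j) * p) * g := by
            intro j
            have e1 : (g⁻¹ * z * g) ^ j = g⁻¹ * z ^ j * g := by
              have := conj_pow (i := j) (a := g⁻¹) (b := z)
              rwa [inv_inv] at this
            rw [e1, pow_mul, pow_two, hu]; group
          rcases Nat.even_or_odd' i with ⟨j, rfl | rfl⟩
          · rw [← hup] at hi
            exact (C.mul_mem_cancel_left (C.pow_mem hzg j)).1 hi
          · exfalso
            have h7 : g⁻¹ * (u * p) * g ∈ C := by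
              have e1 : (g⁻¹ * z * g) ^ j = g⁻¹ * z ^ j * g := by
                have := conj_pow (i := j) (a := g⁻¹) (b := z)
                rwa [inv_inv] at this
              have e2 : g⁻¹ * (u ^ (2 * j + 1) * p) * g = (g⁻¹ * z * g) ^ j * (g⁻¹ * (u * p) * g) := by
                rw [e1, pow_succ, pow_mul, pow_two, hu]; group
              rw [e2] at hi
              exact (C.mul_mem_cancel_left (C.pow_mem hzg j)).1 hi
            apply hneg
            have h8 : (u * p) * (u * p) = z := by
              calc (u * p) * (u * p) = u * (p * u) * p := by group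
                _ = u * (u * p) * p := by rw [hSu p hpS]
                _ = (u * u) * (p * p) := by group
                _ = z := by rw [hu, hS2 p hpS, mul_one]
            have e3 : g⁻¹ * z * g = (g⁻¹ * (u * p) * g) * (g⁻¹ * (u * p) * g) := by
              rw [← h8]; group
            rw [e3]
            have h9 := Subgroup.mem_centralizer_singleton_iff.1 h7
            rw [mul_mem_iff hle h2 h9 h9]
        -- hence `d` commutes with `u`
        have hcomm : ∀ p : G, g⁻¹ * p * g ∈ C → p * (g * z * g⁻¹) = (g * z * g⁻¹) * p := by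
          intro p hp
          exact (comm_iff rfl).1 (Subgroup.mem_centralizer_singleton_iff.1 hp)
        have h7 := hC (g * z * g⁻¹) (hcomm z hzg).symm (fun p hpS => hcomm p (hS p hpS))
        exact Subgroup.mem_centralizer_singleton_iff.2 ((comm_iff rfl).2 h7.symm)
    · exfalso
      apply hneg
      rw [hu4, mul_one, inv_mul_cancel]
      exact M.one_mem)
  convert key using 1
  symm
  have hkey : ∀ x : G ⧸ C, ∀ g : G, (g : G ⧸ C) = x → x.out * z * x.out⁻¹ = g * z * g⁻¹ := by
    intro x g hg
    have h1 : x.out⁻¹ * g ∈ C := by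
      rw [← QuotientGroup.eq, QuotientGroup.out_eq', hg]
    have h4 := Subgroup.mem_centralizer_singleton_iff.1 h1
    calc x.out * z * x.out⁻¹ = x.out * (z * (x.out⁻¹ * g)) * g⁻¹ := by group
      _ = x.out * ((x.out⁻¹ * g) * z) * g⁻¹ := by rw [h4]
      _ = _ := by group
  have hiff : ∀ (P : Subgroup G) (g : G), (∀ p ∈ P, p • (g : G ⧸ C) = g) ↔
      ∀ p ∈ P, p * (g * z * g⁻¹) = (g * z * g⁻¹) * p := by
    intro P g
    refine forall₂_congr fun p _ => ?_
    rw [smul_eq_iff, Subgroup.mem_centralizer_singleton_iff]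
    exact comm_iff rfl
  apply Nat.card_congr
  refine Equiv.ofBijective (fun x => ⟨x.1.out * z * x.1.out⁻¹, ?_, ?_⟩) ⟨?_, ?_⟩
  · exact ⟨x.1.out, rfl, Subgroup.mem_centralizer_singleton_iff.1 x.2.1.1, x.2.1.2⟩
  · rw [← hiff, QuotientGroup.out_eq']
    exact x.2.2
  · intro x y hxy
    have h4 : x.1.out * z * x.1.out⁻¹ = y.1.out * z * y.1.out⁻¹ := congrArg Subtype.val hxy
    apply Subtype.ext
    rw [← QuotientGroup.out_eq' x.1, ← QuotientGroup.out_eq' y.1, QuotientGroup.eq,
      Subgroup.mem_centralizer_singleton_iff]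
    calc x.1.out⁻¹ * y.1.out * z = x.1.out⁻¹ * (y.1.out * z * y.1.out⁻¹) * y.1.out := by group
      _ = x.1.out⁻¹ * (x.1.out * z * x.1.out⁻¹) * y.1.out := by rw [h4]
      _ = _ := by group
  · rintro ⟨d, ⟨g, hg, hgC, hgM⟩, hd⟩
    refine ⟨⟨(g : G ⧸ C), (odd1_iff hle h2 u g).2
      ⟨Subgroup.mem_centralizer_singleton_iff.2 hgC, hgM⟩, ?_⟩, ?_⟩
    · rw [hiff, hg]
      exact hd
    · apply Subtype.ext
      exact (hkey _ g rfl).trans hg

/-- **The fusion theorem.** `r`, `s` are the canonical lifts of the long and of the short highest root involution;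
`S` a set of involutions generating a 2-group, which centralises `u`, `z`, `r`, `s`, and whose centraliser is
`⟨z, u, r, s⟩`. -/
theorem exists_conj2 [Finite G] (hG : ∀ H : Subgroup G, H.index ≠ 2) (hz : z * z = 1) (hz1 : z ≠ 1)
    (hle : M ≤ Subgroup.centralizer ({z} : Set G))
    (h2 : M.relIndex (Subgroup.centralizer ({z} : Set G)) = 2) (hzM : z ∈ M) {u r s c n : G}
    (huz : u * z = z * u) (huM : u ∉ M) (hu : u * u = 1 ∨ u * u = z)
    (hrM : r ∈ M) (hsM : s ∈ M) (hr : r * r = 1) (hr1 : r ≠ 1) (hs : s * s = 1) (hs1 : s ≠ 1)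
    (hrs : r * s = s * r) (hru : r * u = u * r) (hsu : s * u = u * s)
    (S : Set G) (hS2 : ∀ p ∈ S, p * p = 1) (hP : IsPGroup 2 (Subgroup.closure S))
    (hSu : ∀ p ∈ S, p * u = u * p) (hSz : ∀ p ∈ S, p * z = z * p)
    (hSr : ∀ p ∈ S, p * r = r * p) (hSs : ∀ p ∈ S, p * s = s * p)
    (hCP : ∀ x : G, (∀ p ∈ S, p * x = x * p) → ∃ m a : G, (m = 1 ∨ m = z) ∧
      (a = 1 ∨ a = r ∨ a = s ∨ a = r * s) ∧ (x = m * a ∨ x = m * u * a))
    (hcz : c * z = z * c) (hcr : c * r = r * c) (hcs : c * s = s * c) (hcu : c * u * c⁻¹ = u * s)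
    (hnz : n * z = z * n) (hns : n * s * n⁻¹ = r * s)
    (h4 : u * (n⁻¹ * u * n) ∈ Subgroup.closure {w : G | ∃ y : G, y * z = z * y ∧ y * s = s * y ∧ y * y = w})
    (h5 : s ∈ Subgroup.closure {w : G | ∃ y : G, y * z = z * y ∧ y * u = u * y ∧ y * r = r * y ∧ y * y = w}) :
    ∃ g : G, g * z * g⁻¹ = r ∨ g * z * g⁻¹ = z * r := by
  classical
  by_contra hno
  push_neg at hno
  have hrz : r * z = z * r := Subgroup.mem_centralizer_singleton_iff.1 (hle hrM)
  have hsz : s * z = z * s := Subgroup.mem_centralizer_singleton_iff.1 (hle hsM)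
  have hzz : z * z = z * z := rfl
  set P := Subgroup.closure S with hPdef
  have hext : ∀ y : G, (∀ p ∈ S, p * y = y * p) → ∀ p ∈ P, p * y = y * p := by
    intro y hy p hp
    have h3 : P ≤ Subgroup.centralizer ({y} : Set G) := by
      rw [hPdef, Subgroup.closure_le]
      intro p hp
      exact Subgroup.mem_centralizer_singleton_iff.2 (hy p hp)
    exact Subgroup.mem_centralizer_singleton_iff.1 (h3 hp)
  have hPu := hext u hSu
  have hPz := hext z hSz
  have hPr := hext r hSr
  have hPs := hext s hSs
  -- the set `X` has even cardinality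
  have heven : Even (Nat.card {d : G // Out z M d u ∧ ∀ p ∈ P, p * d = d * p}) := by
    refine even_card2 hG hz hle h2 hu S hS2 hSu hP ?_
    intro x _ hx
    obtain ⟨m, a, hm, ha, hx⟩ := hCP x hx
    have e1 : m * u = u * m := by
      rcases hm with h | h
      · rw [h, one_mul, mul_one]
      · rw [h, huz]
    have e2 : a * u = u * a := by
      rcases ha with h | h | h | h
      · rw [h, one_mul, mul_one]
      · rw [h, hru]
      · rw [h, hsu]
      · rw [h, mul_assoc, hsu, ← mul_assoc, hru, mul_assoc]
    rcases hx with rfl | rfl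
    · rw [mul_assoc, e2, ← mul_assoc, e1, mul_assoc]
    · calc m * u * a * u = m * u * (a * u) := by group
        _ = (m * u) * u * a := by rw [e2]; group
        _ = (u * m) * u * a := by rw [e1]
        _ = u * (m * u * a) := by group
  -- conjugates of `z` are involutions
  have hinv : ∀ d, (∃ g : G, g * z * g⁻¹ = d) → d * d = 1 ∧ d ≠ 1 := by
    rintro d ⟨g, rfl⟩
    constructor
    · calc g * z * g⁻¹ * (g * z * g⁻¹) = g * (z * z) * g⁻¹ := by group
        _ = 1 := by rw [hz]; group
    · intro h
      apply hz1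
      calc z = g⁻¹ * (g * z * g⁻¹) * g := by group
        _ = 1 := by rw [h]; group
  -- the classification of the elements of `X`
  have hclass : ∀ d, Out z M d u → (∀ p ∈ P, p * d = d * p) → d ≠ z →
      (∃ m, (m = 1 ∨ m = z) ∧ (d = m * s ∨ d = m * (r * s))) ∨
      (∃ m a, (m = 1 ∨ m = z) ∧ (a = 1 ∨ a = r ∨ a = s ∨ a = r * s) ∧ d = m * u * a) := by
    intro d hd hdP hdz
    obtain ⟨g, hg⟩ := hd.isConj
    have hne := (hinv d ⟨g, hg⟩).2
    obtain ⟨m, a, hm, ha, rfl | rfl⟩ := hCP d (fun p hp => hdP p (Subgroup.subset_closure hp))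
    · left
      refine ⟨m, hm, ?_⟩
      rcases ha with rfl | rfl | rfl | rfl
      · rcases hm with rfl | rfl
        · exact absurd (mul_one 1) hne
        · exact absurd (mul_one _) hdz
      · rcases hm with rfl | rfl
        · exact absurd (hg.trans (one_mul _)) (hno g).1
        · exact absurd hg (hno g).2
      · exact Or.inl rfl
      · exact Or.inr rfl
    · right
      exact ⟨m, a, hm, ha, rfl⟩
  have hmM : ∀ m, (m = 1 ∨ m = z) → m ∈ M := by
    rintro m (rfl | rfl)
    · exact M.one_mem
    · exact hzM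
  have hmc : ∀ m, (m = 1 ∨ m = z) → ∀ w : G, w * z = z * w → w * m = m * w := by
    intro m hm w hw
    rcases hm with h | h
    · rw [h, mul_one, one_mul]
    · rw [h, hw]
  have hac : ∀ a, (a = 1 ∨ a = r ∨ a = s ∨ a = r * s) → ∀ w : G, w * r = r * w → w * s = s * w →
      w * a = a * w := by
    intro a ha w hw1 hw2
    rcases ha with h | h | h | h
    · rw [h, mul_one, one_mul]
    · rw [h, hw1]
    · rw [h, hw2]
    · rw [h, ← mul_assoc, hw1, mul_assoc, hw2, mul_assoc]
  have haM : ∀ a, (a = 1 ∨ a = r ∨ a = s ∨ a = r * s) → a ∈ M := by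
    rintro a (rfl | rfl | rfl | rfl)
    · exact M.one_mem
    · exact hrM
    · exact hsM
    · exact M.mul_mem hrM hsM
  -- inner elements
  have hA : ∀ m, (m = 1 ∨ m = z) → (∃ g : G, g * z * g⁻¹ = m * s) →
      (Out z M (m * s) u ↔ Out z M (m * (r * s)) u) := by
    intro m hm hg
    have hms : ∀ w : G, w * z = z * w → w * s = s * w → w * (m * s) = (m * s) * w := by
      intro w hwz hws
      rw [← mul_assoc, hmc m hm w hwz, mul_assoc, hws, mul_assoc]
    set y := n⁻¹ * u * n with hy
    have hnz' : n⁻¹ * z = z * n⁻¹ := by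
      rw [inv_mul_eq_iff_eq_mul, ← mul_assoc, hnz, mul_assoc, mul_inv_cancel, mul_one]
    have hyz : y * z = z * y := by
      calc n⁻¹ * u * n * z = n⁻¹ * u * (n * z) := by group
        _ = n⁻¹ * (u * z) * n := by rw [hnz]; group
        _ = (n⁻¹ * z) * u * n := by rw [huz]; group
        _ = z * n⁻¹ * u * n := by rw [hnz']
        _ = _ := by rw [hy]; group
    have hyM : y ∉ M := by
      rw [hy, normal_of_relIndex hle h2 (Subgroup.mem_centralizer_singleton_iff.2 hnz)]
      exact huM
    have hys : y * s = s * y := by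
      have h6 : u * (r * s) = (r * s) * u := by
        rw [← mul_assoc, ← hru, mul_assoc, ← hsu, mul_assoc]
      rw [← hns] at h6
      calc n⁻¹ * u * n * s = n⁻¹ * (u * (n * s * n⁻¹)) * n := by group
        _ = n⁻¹ * ((n * s * n⁻¹) * u) * n := by rw [h6]
        _ = _ := by rw [hy]; group
    have h7 : Inn z M (m * s) (u * y) := by
      refine inn_closure hle h2 hg ?_ h4
      rintro w ⟨x, hx1, hx2, hx3⟩
      exact ⟨x, hms x hx1 hx2, hx3⟩
    have hcu1 := hms u huz hsu.symm
    have hcy1 := hms y hyz hys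
    have h8 := out_mul hle h2 hg hcu1 hcy1
    have h9 : ¬ Out z M (m * s) (u * y) := by
      rw [out_iff_not hle h2 hg (by rw [mul_assoc, hcy1, ← mul_assoc, hcu1, mul_assoc])]
      exact not_not.2 h7
    have h10 : Out z M (m * s) y ↔ Out z M (m * (r * s)) u := by
      rw [← out_conj (h := n)]
      have e1 : n * (m * s) * n⁻¹ = m * (r * s) := by
        rw [← hns]
        calc n * (m * s) * n⁻¹ = (n * m) * s * n⁻¹ := by group
          _ = m * n * s * n⁻¹ := by rw [hmc m hm n hnz]
          _ = _ := by group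
      have e2 : n * y * n⁻¹ = u := by rw [hy]; group
      rw [e1, e2]
    (clear * - h8 h9 h10; tauto)
  -- outer elements
  have hB : ∀ m a, (m = 1 ∨ m = z) → (a = 1 ∨ a = r ∨ a = s ∨ a = r * s) →
      c * (m * u * a) * c⁻¹ = m * u * a * s := by
    intro m a hm ha
    have e1 : c * m * c⁻¹ = m := by rw [hmc m hm c hcz, mul_inv_cancel_right]
    have e2 : c * a * c⁻¹ = a := by rw [hac a ha c hcr hcs, mul_inv_cancel_right]
    have e3 : s * a = a * s := hac a ha s hrs.symm rfl
    calc c * (m * u * a) * c⁻¹ = (c * m * c⁻¹) * (c * u * c⁻¹) * (c * a * c⁻¹) := by group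
      _ = m * (u * s) * a := by rw [e1, e2, hcu]
      _ = m * u * (s * a) := by group
      _ = _ := by rw [e3, ← mul_assoc]
  have hC1 : ∀ m a, (m = 1 ∨ m = z) → (a = 1 ∨ a = r) → (∃ g : G, g * z * g⁻¹ = m * u * a) →
      Inn z M (m * u * a) s := by
    intro m a hm ha hg
    refine inn_closure hle h2 hg ?_ h5
    rintro w ⟨y, hyz, hyu, hyr, hyw⟩
    refine ⟨y, ?_, hyw⟩
    have e1 : y * m = m * y := hmc m hm y hyz
    have e2 : y * a = a * y := by
      rcases ha with h | h
      · rw [h, one_mul, mul_one]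
      · rw [h, hyr]
    rw [← mul_assoc, ← mul_assoc, e1, mul_assoc m y u, hyu, mul_assoc m (u * y) a, mul_assoc u y a, e2]
    group
  have hC : ∀ m a, (m = 1 ∨ m = z) → (a = 1 ∨ a = r ∨ a = s ∨ a = r * s) →
      (∃ g : G, g * z * g⁻¹ = m * u * a) → ¬ Out z M (m * u * a) s := by
    intro m a hm ha hg hO
    have hred : ∀ a', (a' = 1 ∨ a' = r) → a = a' * s → False := by
      intro a' ha' haa
      have ha4 : a' = 1 ∨ a' = r ∨ a' = s ∨ a' = r * s := by (clear * - ha'; tauto)
      have e1 := hB m a' hm ha4
      have e2 : m * u * a' * s = m * u * a := by rw [haa]; group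
      rw [e2] at e1
      have e3 : c * s * c⁻¹ = s := by rw [hcs, mul_inv_cancel_right]
      rw [← e1, ← e3, out_conj] at hO
      have hg' : ∃ g : G, g * z * g⁻¹ = m * u * a' := by
        obtain ⟨g, hg⟩ := hg
        refine ⟨c⁻¹ * g, ?_⟩
        calc c⁻¹ * g * z * (c⁻¹ * g)⁻¹ = c⁻¹ * (g * z * g⁻¹) * c := by group
          _ = c⁻¹ * (c * (m * u * a') * c⁻¹) * c := by rw [hg, e1]
          _ = _ := by group
      rw [out_iff_not hle h2 hg' hO.comm] at hO
      exact hO (hC1 m a' hm ha' hg')
    rcases ha with ha | ha | ha | ha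
    · rw [out_iff_not hle h2 hg hO.comm] at hO
      exact hO (hC1 m a hm (Or.inl ha) hg)
    · rw [out_iff_not hle h2 hg hO.comm] at hO
      exact hO (hC1 m a hm (Or.inr ha) hg)
    · exact hred 1 (Or.inl rfl) (by rw [ha, one_mul])
    · exact hred r (Or.inr rfl) ha
  have hcu' : c⁻¹ * u * c = u * s := by
    have h6 : c⁻¹ * (c * u * c⁻¹) * c = u := by group
    have h7 : c⁻¹ * (c * u * c⁻¹) * c = (c⁻¹ * u * c) * s := by
      rw [hcu]
      calc c⁻¹ * (u * s) * c = c⁻¹ * u * (s * c) := by group
        _ = c⁻¹ * u * (c * s) := by rw [hcs]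
        _ = _ := by group
    have h8 : (c⁻¹ * u * c) * s = u := h7.symm.trans h6
    calc c⁻¹ * u * c = (c⁻¹ * u * c) * s * s := by rw [mul_assoc _ s s, hs, mul_one]
      _ = _ := by rw [h8]
  -- the fixed point free involution
  have hstep : ∀ d, Out z M d u → (∀ p ∈ P, p * d = d * p) → d ≠ z →
      (d ∈ M ∧ Out z M (d * r) u ∧ d * r ≠ z) ∨ (d ∉ M ∧ Out z M (d * s) u ∧ d * s ∉ M) := by
    intro d hd hdP hdz
    rcases hclass d hd hdP hdz with ⟨m, hm, hms⟩ | ⟨m, a, hm, ha, rfl⟩
    · left
      have hdr : d * r ≠ z := by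
        intro h
        obtain ⟨g, hg⟩ := hd.isConj
        apply (hno g).2
        rw [hg]
        calc d = d * r * r := by rw [mul_assoc, hr, mul_one]
          _ = _ := by rw [h]
      rcases hms with rfl | rfl
      · refine ⟨M.mul_mem (hmM m hm) hsM, ?_, hdr⟩
        have e : m * s * r = m * (r * s) := by rw [mul_assoc, hrs]
        rw [e]
        exact (hA m hm hd.isConj).1 hd
      · refine ⟨M.mul_mem (hmM m hm) (M.mul_mem hrM hsM), ?_, hdr⟩
        have e : m * (r * s) * r = m * s := by rw [hrs, mul_assoc, mul_assoc, hr, mul_one]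
        rw [e]
        have hg' : ∃ g : G, g * z * g⁻¹ = m * s := by
          obtain ⟨g, hg⟩ := hd.isConj
          refine ⟨n⁻¹ * g, ?_⟩
          calc n⁻¹ * g * z * (n⁻¹ * g)⁻¹ = n⁻¹ * (g * z * g⁻¹) * n := by group
            _ = n⁻¹ * (m * (n * s * n⁻¹)) * n := by rw [hg, hns]
            _ = n⁻¹ * (m * n) * s := by group
            _ = n⁻¹ * (n * m) * s := by rw [hmc m hm n hnz]
            _ = m * s := by group
        exact (hA m hm hg').2 hd
    · right
      have hdM : ∀ b ∈ M, m * u * b ∉ M := by
        intro b hb h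
        apply huM
        have e : u = m⁻¹ * (m * u * b) * b⁻¹ := by group
        rw [e]
        exact M.mul_mem (M.mul_mem (M.inv_mem (hmM m hm)) h) (M.inv_mem hb)
      refine ⟨hdM a (haM a ha), ?_, ?_⟩
      · rw [← hB m a hm ha]
        have e : u = c * (c⁻¹ * u * c) * c⁻¹ := by group
        rw [e, out_conj, ← e, hcu']
        have h6 : s * (m * u * a) = (m * u * a) * s := by
          have e1 : s * m = m * s := hmc m hm s hsz
          have e2 : s * a = a * s := hac a ha s hrs.symm rfl
          rw [← mul_assoc, ← mul_assoc, e1, mul_assoc m s u, hsu, mul_assoc m (u * s) a, mul_assoc u s a, e2]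
          group
        rw [out_mul hle h2 hd.isConj hd.comm h6]
        exact ⟨fun _ => hC m a hm ha hd.isConj, fun _ => hd⟩
      · rw [mul_assoc (m * u) a s]
        exact hdM _ (M.mul_mem (haM a ha) hsM)
  have hz0 : Out z M z u ∧ ∀ p ∈ P, p * z = z * p := by
    refine ⟨⟨1, by group, ?_, ?_⟩, hPz⟩
    · rw [inv_one, one_mul, mul_one]; exact huz
    · rw [inv_one, one_mul, mul_one]; exact huM
  have hfX : ∀ x : {d : G // Out z M d u ∧ ∀ p ∈ P, p * d = d * p}, x.1 ≠ z →
      Out z M (if x.1 ∈ M then x.1 * r else x.1 * s) u ∧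
        ∀ p ∈ P, p * (if x.1 ∈ M then x.1 * r else x.1 * s) = (if x.1 ∈ M then x.1 * r else x.1 * s) * p := by
    intro x hx
    rcases hstep x.1 x.2.1 x.2.2 hx with ⟨h6, h7, h8⟩ | ⟨h6, h7, h8⟩
    · rw [if_pos h6]
      exact ⟨h7, fun p hp => by rw [← mul_assoc, x.2.2 p hp, mul_assoc, hPr p hp, mul_assoc]⟩
    · rw [if_neg h6]
      exact ⟨h7, fun p hp => by rw [← mul_assoc, x.2.2 p hp, mul_assoc, hPs p hp, mul_assoc]⟩
  let f : {d : G // Out z M d u ∧ ∀ p ∈ P, p * d = d * p} → {d : G // Out z M d u ∧ ∀ p ∈ P, p * d = d * p} :=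
    fun x => if hx : x.1 ≠ z then ⟨if x.1 ∈ M then x.1 * r else x.1 * s, hfX x hx⟩ else x
  have hf : ∀ x, x.1 ≠ z → (f x).1 = if x.1 ∈ M then x.1 * r else x.1 * s := by
    intro x hx
    show (if hx : x.1 ≠ z then (⟨if x.1 ∈ M then x.1 * r else x.1 * s, hfX x hx⟩ :
      {d : G // Out z M d u ∧ ∀ p ∈ P, p * d = d * p}) else x).1 = _
    rw [dif_pos hx]
  have hval : ∀ x : {d : G // Out z M d u ∧ ∀ p ∈ P, p * d = d * p}, x ≠ ⟨z, hz0⟩ → x.1 ≠ z :=
    fun x hx h => hx (Subtype.ext h)
  apply odd_of_involution (⟨z, hz0⟩ : {d : G // Out z M d u ∧ ∀ p ∈ P, p * d = d * p}) f ?_ ?_ ?_ heven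
  · intro x hx h
    have h1 := hf x (hval x hx)
    rw [h] at h1
    rcases hstep x.1 x.2.1 x.2.2 (hval x hx) with ⟨h6, h7, h8⟩ | ⟨h6, h7, h8⟩
    · rw [if_pos h6] at h1
      exact h8 h1.symm
    · rw [if_neg h6] at h1
      rw [← h1] at h8
      exact h8 hzM
  · intro x hx
    have h1 := hf x (hval x hx)
    apply Subtype.ext
    rcases hstep x.1 x.2.1 x.2.2 (hval x hx) with ⟨h6, h7, h8⟩ | ⟨h6, h7, h8⟩
    · rw [if_pos h6] at h1
      have h9 : (f x).1 ≠ z := by rw [h1]; exact h8
      rw [hf (f x) h9, h1, if_pos (M.mul_mem h6 hrM), mul_assoc, hr, mul_one]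
    · rw [if_neg h6] at h1
      have h9 : (f x).1 ≠ z := by
        rw [h1]; intro h; rw [h] at h8; exact h8 hzM
      rw [hf (f x) h9, h1, if_neg h8, mul_assoc, hs, mul_one]
  · intro x hx h
    have h1 := hf x (hval x hx)
    rw [h] at h1
    by_cases h6 : x.1 ∈ M
    · rw [if_pos h6] at h1
      exact hr1 (mul_eq_left.1 h1.symm)
    · rw [if_neg h6] at h1
      exact hs1 (mul_eq_left.1 h1.symm)

end Cfsg.Agent.BabyU.FusParity2
end

-- part: BabyU/FusRoot
section
/-!
# The fusion step: some lift of a root involution is conjugate to `t`  (R19U, U-B P3, helper234)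

`bridge`: from `Setup t M π` with an element of `C_G(t)` outside of `M`, by THEOREM OUT, an element `u` of
`C_G(t) ∖ M` with `u² ∈ {1, t}` and a projection `π' : M →* Γ` onto the model `Γ` of `²E₆(2)`, such that `u`
induces the field automorphism `σ` of the model.
-/

set_option autoImplicit false

namespace Cfsg.Agent.BabyU.FusRoot

open Cfsg.Agent.R01.Lifts Cfsg.Agent.TwoESix.Cox10 Cfsg.Agent.TwoESix.Lift Cfsg.Agent.TwoESix.Cover
open Cfsg.Agent.BabyU.OutFree Cfsg.Agent.BabyU.OutCount Cfsg.Agent.BabyU.Lab
open scoped Pointwise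

/-- A double cover with centre `{1, z}` and without section is a nonsplit double cover. -/
theorem nonsplit_of {M E : Type*} [Group M] [Group E] {π : M →* E} {z : M} (h : Ext π z)
    (hc : ∀ c : M, (∀ d, c * d = d * c) → c = 1 ∨ c = z) (hno : ∀ s : E →* M, ¬ ∀ x, π (s x) = x) :
    Cfsg.IsNonsplitDoubleCover M E := by
  have hcen : Subgroup.center M = π.ker := by
    ext c
    rw [Subgroup.mem_center_iff, MonoidHom.mem_ker, h.ker]
    constructor
    · intro h1
      exact hc c fun d => (h1 d).symm
    · rintro (rfl | rfl) d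
      · rw [mul_one, one_mul]
      · exact h.comm d
  refine ⟨?_, ?_, ?_⟩
  · have h3 : Nat.card π.ker = 2 := by
      have : (π.ker : Set M) = {1, z} := by
        ext c
        exact h.ker c
      have h4 : Nat.card π.ker = (π.ker : Set M).ncard := rfl
      rw [h4, this, Set.ncard_pair (Ne.symm h.zne)]
    rw [hcen, h3]
  · exact ⟨(QuotientGroup.quotientMulEquivOfEq hcen).trans (QuotientGroup.quotientKerEquivOfSurjective π h.surj)⟩
  · intro L hL
    have hinj : Function.Injective (π.comp L.subtype) := by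
      rw [← MonoidHom.ker_eq_bot_iff, eq_bot_iff]
      intro x hx
      have hx' : (x : M) ∈ Subgroup.center M := by rw [hcen]; exact hx
      exact Subtype.ext ((Subgroup.disjoint_def.1 hL.disjoint) hx' x.2)
    have hsurj : Function.Surjective (π.comp L.subtype) := by
      intro y
      obtain ⟨m, rfl⟩ := h.surj y
      have hm : m ∈ (Subgroup.center M : Set M) * (L : Set M) := by
        rw [hL.mul_eq]; trivial
      obtain ⟨c, hc', l, hl, rfl⟩ := hm
      refine ⟨⟨l, hl⟩, ?_⟩
      have : π c = 1 := by
        have h5 : c ∈ π.ker := hcen ▸ hc'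
        exact h5
      show π l = π (c * l)
      rw [map_mul, this, one_mul]
    let f : L ≃* E := MulEquiv.ofBijective (π.comp L.subtype) ⟨hinj, hsurj⟩
    exact hno (L.subtype.comp f.symm.toMonoidHom) fun x => f.apply_symm_apply x

/-- transport of the root facts -/
theorem roots_map {E Γ : Type*} [Group E] [Group Γ] {R : Set E} {T : Set Γ} (L : Roots E R) (f : E ≃* Γ)
    (hf : ∀ x, x ∈ R ↔ f x ∈ T) : Roots Γ T := by
  have hT : ∀ y, y ∈ T ↔ f.symm y ∈ R := fun y => by rw [hf, f.apply_symm_apply]
  have tr : ∀ {a b a' b' : Γ}, (∃ g : E, g * f.symm a * g⁻¹ = f.symm a' ∧ g * f.symm b * g⁻¹ = f.symm b') →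
      ∃ g : Γ, g * a * g⁻¹ = a' ∧ g * b * g⁻¹ = b' := by
    rintro a b a' b' ⟨g, h1, h2⟩
    refine ⟨f g, ?_, ?_⟩
    · have := congrArg f h1
      simpa only [map_mul, map_inv, f.apply_symm_apply] using this
    · have := congrArg f h2
      simpa only [map_mul, map_inv, f.apply_symm_apply] using this
  refine
    { ne_one := fun r hr h => L.ne_one _ ((hT r).1 hr) (by rw [h, map_one])
      sq := fun r hr => by
        have := congrArg f (L.sq _ ((hT r).1 hr))
        simpa only [map_mul, f.apply_symm_apply, map_one] using this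
      conj := fun r hr g => by
        rw [hT, map_mul, map_mul, map_inv]
        exact L.conj _ ((hT r).1 hr) _
      one := fun r hr s hs => by
        obtain ⟨g, hg⟩ := L.one _ ((hT r).1 hr) _ ((hT s).1 hs)
        obtain ⟨g', h1, -⟩ := tr (a := r) (b := r) (a' := s) (b' := s) ⟨g, hg, hg⟩
        exact ⟨g', h1⟩
      spe_ex := by
        obtain ⟨a, ha, b, hb, h⟩ := L.spe_ex
        refine ⟨f a, (hf a).1 ha, f b, (hf b).1 hb, ?_⟩
        rw [← map_mul, ← map_pow]
        exact (hf _).1 h
      spe := fun a ha b hb a' ha' b' hb' h h' => tr (L.spe _ ((hT a).1 ha) _ ((hT b).1 hb) _ ((hT a').1 ha') _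
        ((hT b').1 hb') (by rw [← map_mul, ← map_pow]; exact (hT _).1 h)
        (by rw [← map_mul, ← map_pow]; exact (hT _).1 h'))
      col := fun a ha b hb a' ha' b' hb' h h' => tr (L.col _ ((hT a).1 ha) _ ((hT b).1 hb) _ ((hT a').1 ha') _
        ((hT b').1 hb') (by rw [← map_mul]; exact (hT _).1 h)
        (by rw [← map_mul]; exact (hT _).1 h'))
      sym := fun a ha b hb a' ha' b' hb' h1 h2 h3 h1' h2' h3' => tr (L.sym _ ((hT a).1 ha) _ ((hT b).1 hb) _
        ((hT a').1 ha') _ ((hT b').1 hb') (fun h => h1 (f.symm.injective h))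
        (by rw [← map_mul, ← map_mul, h2]) (by rw [← map_mul]; exact fun h => h3 ((hT _).2 h))
        (fun h => h1' (f.symm.injective h))
        (by rw [← map_mul, ← map_mul, h2']) (by rw [← map_mul]; exact fun h => h3' ((hT _).2 h)))
      perf := fun r hr H hH => by
        apply L.perf _ ((hT r).1 hr) (H.comap f.toMonoidHom)
        have e : Subgroup.centralizer ({f.symm r} : Set E) =
            (Subgroup.centralizer ({r} : Set Γ)).comap f.toMonoidHom := by
          ext x
          rw [Subgroup.mem_comap, Subgroup.mem_centralizer_singleton_iff, Subgroup.mem_centralizer_singleton_iff]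
          constructor
          · intro h
            have := congrArg f h
            rw [map_mul, map_mul, f.apply_symm_apply] at this
            exact this
          · intro h
            apply f.injective
            rw [map_mul, map_mul, f.apply_symm_apply]
            exact h
        rw [e, Subgroup.relIndex_comap]
        have e2 : ((Subgroup.centralizer ({r} : Set Γ)).comap f.toMonoidHom).map f.toMonoidHom =
            Subgroup.centralizer ({r} : Set Γ) := Subgroup.map_comap_eq_self_of_surjective f.surjective _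
        rw [e2]
        exact hH
      cfg_line := by
        obtain ⟨a, ha, b, hb, x, hx, h1, h2, h3, h4, h5⟩ := L.cfg_line
        refine ⟨f a, (hf a).1 ha, f b, (hf b).1 hb, f x, (hf x).1 hx, ?_, ?_, ?_, ?_, ?_⟩
        · rw [← map_mul]; exact (hf _).1 h1
        · rw [← map_mul, ← map_pow]; exact (hf _).1 h2
        · rw [← map_mul, ← map_pow]; exact (hf _).1 h3
        · rw [← map_mul, ← map_mul, ← map_pow]; exact (hf _).1 h4
        · rw [← map_mul, ← map_pow, ← map_mul, ← map_mul, h5]
      cfg_sym := by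
        obtain ⟨a, ha, b, hb, x, hx, h1, h2, h3, h4, h5⟩ := L.cfg_sym
        refine ⟨f a, (hf a).1 ha, f b, (hf b).1 hb, f x, (hf x).1 hx, ?_, ?_, ?_, ?_, ?_⟩
        · exact fun h => h1 (f.injective h)
        · rw [← map_mul, ← map_mul, h2]
        · rw [← map_mul]; exact fun h => h3 ((hf _).2 h)
        · rw [← map_mul, ← map_pow, h4, map_one]
        · rw [← map_mul, ← map_pow, h5, map_one] }

theorem pBC_pBC : ∀ i, pBC (pBC i) = i := by decide

theorem gg_equiv {E Γ : Type*} [Group E] [Group Γ] {f : Fin 10 → E} (h : GG f) (φ : E ≃* Γ) :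
    GG (fun i => φ (f i)) := by
  refine ⟨h.1.map φ.toMonoidHom, ?_⟩
  have e : (Set.range fun i => φ (f i)) = φ.toMonoidHom '' Set.range f := by
    rw [← Set.range_comp]; rfl
  rw [e, ← MonoidHom.map_closure, h.2, ← MonoidHom.range_eq_map, MonoidHom.range_eq_top]
  exact φ.surjective

/-- **The bridge to the model.** -/
theorem bridge [Finite HB] {G : Type*} [Group G] {t : G} {M : Subgroup G} {E : Type*} [Group E] {π : M →* E}
    (S : Setup t M π) {F : Type*} [Field F] [Fintype F] {hF : Fintype.card F = 4} {R : Set E}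
    (hcard : Nat.card HB ≤ Nat.card E) (hE : ∃ a b : E, ¬ Commute a b) (hyp : Hyp hF R)
    (hinv : ∀ (g : G) (hg : g * t = t * g) (x : M), π x ∈ R → π ⟨g * x * g⁻¹, S.norm g hg x x.2⟩ ∈ R)
    {e : Fin 10 → E} (he : GG e) (heR : ∀ i, e i ∈ R)
    {Γ : Type*} [Group Γ] {T : Set Γ} (θ : E ≃* Γ) (hθ : ∀ x, x ∈ R ↔ θ x ∈ T)
    (hconj : ∀ r ∈ T, ∀ g : Γ, g * r * g⁻¹ ∈ T) (hone : ∀ r ∈ T, ∀ s ∈ T, ∃ g : Γ, g * r * g⁻¹ = s)
    {T' : Fin 10 → Γ} (hT' : GG T') (hT'm : ∀ i, T' i ∈ T) (σ : Γ →* Γ) (hσ : ∀ i, σ (T' i) = T' (pBC i))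
    {g : G} (hg : g * t = t * g) (hgM : g ∉ M) :
    ∃ (π' : M →* Γ) (u : G), Cover π' S.z ∧ (∀ m, π' m ∈ T ↔ π m ∈ R) ∧ FusCfg.Ind π' σ u ∧ u * t = t * u ∧
      u ∉ M ∧ (u * u = 1 ∨ u * u = t) := by
  classical
  have memC : ∀ x : G, x ∈ Subgroup.centralizer ({t} : Set G) ↔ x * t = t * x := fun x =>
    Subgroup.mem_centralizer_singleton_iff
  set C := Subgroup.centralizer ({t} : Set G) with hC
  have hle : M ≤ C := fun m hm => (memC m).2 (S.comm m hm)
  have hnormal : (M.subgroupOf C).Normal := by
    constructor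
    intro x hx y
    rw [Subgroup.mem_subgroupOf] at hx ⊢
    exact S.norm y ((memC y).1 y.2) x hx
  let ι : M.subgroupOf C ≃* M := Subgroup.subgroupOfEquivOfLe hle
  have hι : ∀ x : M.subgroupOf C, ((ι x : M) : G) = ((x : C) : G) := fun x => rfl
  let πN : M.subgroupOf C →* E := π.comp ι.toMonoidHom
  let zN : M.subgroupOf C := ι.symm S.z
  have hιz : ι zN = S.z := ι.apply_symm_apply _
  have hzN : ((zN : C) : G) = t := by
    rw [← hι, hιz]; rfl
  have hext : Ext πN zN := by
    have h := S.ext
    refine ⟨h.surj.comp ι.surjective, ?_, ?_, ?_, ?_⟩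
    · apply ι.injective
      rw [map_mul, hιz, h.zz, map_one]
    · intro h1
      apply h.zne
      rw [← hιz, h1, map_one]
    · intro c
      show π (ι c) = 1 ↔ _
      rw [h.ker, ← hιz, ι.injective.eq_iff, map_eq_one_iff ι ι.injective]
    · intro c
      apply ι.injective
      rw [map_mul, map_mul, hιz, h.comm]
  have hcenter : ∀ c : M.subgroupOf C, (∀ d, c * d = d * c) → c = 1 ∨ c = zN := by
    intro c hc
    rcases S.cent ((ι c : M) : G) (fun m hm => by
      have := congrArg (fun x => ((ι x : M) : G)) (hc (ι.symm ⟨m, hm⟩))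
      simpa only [map_mul, ι.apply_symm_apply, Subgroup.coe_mul] using this) with h1 | h1
    · left
      apply ι.injective
      rw [map_one]
      exact Subtype.ext h1
    · right
      apply ι.injective
      rw [hιz]
      exact Subtype.ext h1
  have hcov : Cfsg.IsNonsplitDoubleCover (M.subgroupOf C) E := by
    refine nonsplit_of hext hcenter fun s hs => ?_
    exact S.nosec (ι.toMonoidHom.comp s) fun x => hs x
  have hout : Subgroup.centralizer ((M.subgroupOf C : Subgroup C) : Set C) ≤ M.subgroupOf C := by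
    intro c hc
    rw [Subgroup.mem_subgroupOf]
    rcases S.cent (c : G) (fun m hm => by
      have := (Subgroup.mem_centralizer_iff.1 hc) ⟨m, hle hm⟩ (by
        show (⟨m, hle hm⟩ : C) ∈ M.subgroupOf C
        rw [Subgroup.mem_subgroupOf]; exact hm)
      exact (congrArg Subtype.val this).symm) with h1 | h1
    · rw [h1]; exact M.one_mem
    · rw [h1]; exact S.mem
  obtain ⟨p, hp, m, hm, hZ, htop⟩ := Cfsg.Agent.TwoESix.Cover.exists_gens hcov he.1 he.2 hcard hext
  have hp6 : ∃ k : Fin 6, p = P6 k := by
    rcases hp with rfl | rfl | rfl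
    · exact ⟨0, rfl⟩
    · exact ⟨1, rfl⟩
    · exact ⟨2, rfl⟩
  obtain ⟨k, rfl⟩ := hp6
  have hgN : (⟨g, (memC g).2 hg⟩ : C) ∉ M.subgroupOf C := by
    rw [Subgroup.mem_subgroupOf]; exact hgM
  obtain ⟨y, hy, hsq⟩ := Out.outer hout hcov hcard hE hyp hext hZ htop (fun i => by rw [hm]; exact heR _)
    (fun c x hx => by
      have h1 := hinv (c : G) ((memC c).1 c.2) (ι x) hx
      have e1 : (⟨(c : G) * (ι x : M) * (c : G)⁻¹, S.norm c ((memC c).1 c.2) (ι x) (ι x).2⟩ : M) =
          ι (MulAut.conjNormal c x) := by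
        apply Subtype.ext
        show (c : G) * ((x : C) : G) * (c : G)⁻¹ = (((MulAut.conjNormal c x : M.subgroupOf C) : C) : G)
        rw [MulAut.conjNormal_apply]
        rfl
      rw [e1] at h1
      exact h1) hgN
  set uC : C := ⟨g, (memC g).2 hg⟩ * y with huC
  set u : G := (uC : G) with hu
  have hut : u * t = t * u := (memC u).1 uC.2
  have huM : u ∉ M := by
    intro h
    apply hgN
    have h1 : uC ∈ M.subgroupOf C := by rw [Subgroup.mem_subgroupOf]; exact h
    exact (Subgroup.mul_mem_cancel_right _ y.2).1 h1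
  -- the isomorphism with the model
  have hGG : GG (fun i => θ (e (P6 k i))) := gg_equiv (he.P6 k) θ
  have hcardΓ : Nat.card HB ≤ Nat.card Γ := by rwa [← Nat.card_congr θ.toEquiv]
  obtain ⟨α, hα⟩ := exists_auto hGG hT' hcardΓ
  let π' : M →* Γ := (α.toMonoidHom.comp θ.toMonoidHom).comp π
  have hπ' : ∀ x, π' x = α (θ (π x)) := fun x => rfl
  let m' : Fin 10 → M := fun i => ι (m i)
  have hm' : ∀ i, π' (m' i) = T' i := by
    intro i
    rw [hπ', ← hα i]
    congr 2
    exact hm i
  have htop' : Subgroup.closure (Set.range m') = ⊤ := by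
    have e1 : Set.range m' = ι.toMonoidHom '' Set.range m := by rw [← Set.range_comp]; rfl
    rw [e1, ← MonoidHom.map_closure, htop, ← MonoidHom.range_eq_map, MonoidHom.range_eq_top]
    exact ι.surjective
  have hαT : ∀ x, α x ∈ T ↔ x ∈ T := by
    have h0 : θ (e (P6 k 0)) ∈ T := (hθ _).1 (heR _)
    intro x
    constructor
    · intro hx
      obtain ⟨v, hv⟩ := hone _ (hT'm 0) _ hx
      have h1 : x = (α.symm v) * θ (e (P6 k 0)) * (α.symm v)⁻¹ := by
        apply α.injective
        rw [map_mul, map_mul, map_inv, α.apply_symm_apply, hα 0, hv]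
      rw [h1]
      exact hconj _ h0 _
    · intro hx
      obtain ⟨v, rfl⟩ := hone _ h0 _ hx
      rw [map_mul, map_mul, map_inv, hα 0]
      exact hconj _ (hT'm 0) _
  -- the action of `u`
  have hum : ∀ i, u * (m' i : G) * u⁻¹ = m' (pBC i) := by
    intro i
    have h1 := congrArg (fun x : M.subgroupOf C => ((x : C) : G)) (hy i)
    simp only [MulAut.conjNormal_apply] at h1
    exact h1
  have hum' : ∀ i, u⁻¹ * (m' i : G) * u = m' (pBC i) := by
    intro i
    have h1 := hum (pBC i)
    rw [pBC_pBC i] at h1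
    rw [← h1]; group
  have humem : ∀ x : M, u⁻¹ * (x : G) * u ∈ M := by
    intro x
    have h1 : u⁻¹ * t = t * u⁻¹ := by
      rw [inv_mul_eq_iff_eq_mul, ← mul_assoc, hut, mul_assoc, mul_inv_cancel, mul_one]
    have := S.norm u⁻¹ h1 x x.2
    rwa [inv_inv] at this
  let φ : M →* M :=
    { toFun := fun x => ⟨u⁻¹ * x * u, humem x⟩
      map_one' := Subtype.ext (by simp)
      map_mul' := fun x y => Subtype.ext (by simp only [Subgroup.coe_mul]; group) }
  have hφ : ∀ i, φ (m' i) = m' (pBC i) := fun i => Subtype.ext (hum' i)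
  have hcomp : π'.comp φ = σ.comp π' := by
    refine MonoidHom.eq_of_eqOn_dense htop' ?_
    rintro _ ⟨i, rfl⟩
    show π' (φ (m' i)) = σ (π' (m' i))
    rw [hφ, hm', hm', hσ]
  refine ⟨π', u, ⟨?_, ?_, S.ext.zne⟩, ?_, ⟨humem, fun x => DFunLike.congr_fun hcomp x⟩, hut, huM, ?_⟩
  · exact α.surjective.comp (θ.surjective.comp S.surj)
  · intro x
    rw [hπ', map_eq_one_iff α α.injective, map_eq_one_iff θ θ.injective]
    exact S.ext.ker x
  · intro x
    rw [hπ', hαT, ← hθ]
  · rcases hsq with h1 | h1
    · left; exact congrArg Subtype.val h1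
    · right
      have := congrArg (fun x : C => (x : G)) h1
      rw [← hzN]
      exact this

end Cfsg.Agent.BabyU.FusRoot
end

-- part: TwoESix/FrameData
section
set_option autoImplicit false

namespace Cfsg.Agent.TwoESix.FrameData

/-- words (letters 10 .. 25) moving the first generator to the root involutions: b3, b3s, g, b3g, b3sg, a, as_, r, m, b, bs, h14, h34, k23, h24, c13, c23, b3k, b3sk -/
def rw : List (List ℕ) := [
  [22, 10, 11, 13, 12],
  [21, 10, 11, 13, 12],
  [17, 23, 14, 20, 13, 12],
  [15, 22, 17, 14, 10, 12, 20, 11, 13, 12],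
  [16, 21, 17, 14, 10, 12, 20, 11, 13, 12],
  [22, 17, 13, 23, 14, 12, 20, 13, 12],
  [21, 17, 13, 23, 14, 12, 20, 13, 12],
  [11, 13, 23, 19, 10, 12, 13, 24, 21, 14, 12, 20, 13, 12],
  [14, 20, 17, 23, 14, 20, 11, 13, 10, 12, 11],
  [21, 13, 12],
  [22, 13, 12],
  [17, 13, 23, 14, 12, 20, 13, 12],
  [23, 20, 10, 11, 13, 12],
  [],
  [13, 12],
  [13, 23, 19, 12, 13, 24, 21, 14, 12, 20, 13, 12],
  [13, 23, 12, 20, 13, 12],
  [22, 11, 13, 12],
  [21, 11, 13, 12]]

/-- packed matrices of the root involutions -/
def Rm : List ℕ := [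
  0x8000000000000800000100000000000000000002380000000000000000049000000000000000000a4000000000000000001700000000000000000020000000000000000000400000000000000000008000000000000000000100000000000000000002000000000004000000040000000000000000000812000000000000000010c40000000000000000223000000000000000004480000000000000000088900000000c009c0001110000000000008000020000000000000000000400000000000000000008200000000800000000104000000000000000002000000000000000000040000000000000000000a000000004000000000140000000000000000002000000000000000000040000000000000000000800000000400000000010000000000000000000218000000000000000004d000000000000000000ac000000000000000001600000000000000000020000000000000000000400000000000000000008000000000000000000100000000000000000002380000000000000000049000000000000000000a400000000000000000170000000000000000002000000000000000000040000000000000000000800000000000000000010000000000000000000200000200000000000004000000000000000000080000001000000000001c00000000000000000028000000000000000000600000000000000000008000000000000000000100000000100000000003800000000000000000050000000000000000000c000000000000000000100000000004100000002c00a400000140000000700210000000000000008000000000000000000100000000000400000003800000000000000000050000000000000000000c000000000000000000100000000000000000002000000000000004000070000000000000000000a00000000000000000018000000000000000000200000000000000000004000000010000000000080000000c000000010010000000000000000000200000000000000000004000000100000000c00080000000000000000001,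
  0x800000000000080000010000000000002000000218000000000000000004d000000000000000000ac0000000000000000016000000000000000000200000000000000000004000000000000000000080000000000000000001000000000000000000020000000000040000000400000000001000000008320000000000000000108400000000000000002210000000000000000044c0000000000000000088b00000000c00bc000111c000000030027000020000000000000000000400000000000000000008200000000800000000104000000020000000002000000000000000000040000000000000000000a0000000040000000001400000001000000000020000000000000000000400000000000000000008000000004000000000100000000100000000002380000000000000000049000000000000000000a400000000000000000170000000000000000002000000000000000000040000000000000000000800000000000000000010000000000000000000218000000000000000004d000000000000000000ac00000000000000000160000000000000000002000000000000000000040000000000000000000800000000000000000010000000000000000000200000200000000000004000008000000000000080000003000000000001c00000000000000000028000000000000000000600000000000000000008000000000000000000100000000300000000003800000000000000000050000000000000000000c00000000000000000010000000000c300000002c00a4000003c0000000700210000000000000008000000000000000000100000000000c00000003800000000000000000050000000000000000000c00000000000000000010000000000000000000200000000000000c000070000000000000000000a000000000000000000180000000000000000002000000000000000000040000000300000000000800000008000000010010000000000000000000200000000000000000004000000300000000c00080000000000000000001,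
  0x8000800000000000000100010000000000000002000000000000000000040000000000000000000800000000000000000010000000000000000000200000200000000000004000004000000000000080000080000000000001000001000000000000020000000000000000000400000000000000000008000000000000000000100000000000000000002000000000000000000040000000000000000000800000000000000000010000000000000000000200002000000000000004000040000000000000080000000000000000001000000000000000000020000800000000000000400010000000000000008000000000000000000100000000000000000002000020000000000000040000400000000000000800000000000000000010000000000000000000200000000000000000004000000000000000000080000000000000000001000000000000000000020000000000000000000400000000000000000008000000000000000000100000000000000000002000000000000000000040000000000000000000800000000000000000010000000000000000000200000000000000000004000000000000000000080000000000000000001000000000000000000020000000000000000000400000000000000000008200000000000000000100000000000000000002020000000000000000040400000000000000000800102c0000000000001008000000000000000020000000000000000000400000000000000000008000000000000000000100800000000000000002000000000000000000040000000000000000000808000000000000000010100000000000000000200000000000000000004000000000000000000080000000000000000001040000000000000000020000000000000000000400000000000000000008000000000000000000100000000000000000002000000000000000000040000000000000000000800000000000000000410000000000000000000200000000000000000404000000000000000010080000000000000000401,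
  0x800008900001080c0cb100001100000000000082380000380000000000049000009000000000000a40000240000000000017000007000000000000200000018000000000004000000d0000000000008000002c00000000000100000060000000000002000000000004020000040000000000000000000812000180000000000010c4000d0000000000002230002c0000000000004480006000000000000088900001000c1c9c0001110000000000008000020000038000000000000400000900000000000008200002000808000000104000040000000000002000024000000000000040000700000000000000a000020004040000000140000400000000000002000000000020000000040000000000000000000800000000410000000010000000000000000000218000000000000000004d000000000000000000ac000000000000000001600000000000000000020000000000000000000400000000000000000008000000000000000000100000000000000000002380000000000000000049000000000000000000a400000000000000000170000000000000000002000000000000000000040000000000000000000800000000000000000010000000000000000000200000200000000000004000000000100000000081800001000100000001c0c0000000004100001280c0c88000001400004603032a000000100000080c0000000000100000100600000100000000003800000000000000000050080000000000000000c020000000000000000100000000004100001002c1ca400000140000400707210000000000000008020000000000000000100800000000400000003800000000000000000050400000000000000000c100000000000000000100000000000000000002000000000000004000070000000000000000000a00000000000000000018000000000000000000200000000000000000004000000010000100000080000000c000080010210000000000000000000200000000000040000304000000100000000c00080000000000040000301,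
  0x800008b00003080c0c91000011c0000c203032c218000018000000000004d00000d000000000000ac00002c0000000000016000006000000000000200000038000000000004000000900000000000080000024000000000001000000700000000000020000000000040200000400000000001008000008320003800000000000108400090000000000002210002400000000000044c0007000000000000088b00003000c1cbc000111c0000c0030727000020000018000000000000400000d0000000000000820000200080800000010400004002020000000200002c000000000000040000600000000000000a0000200040400000001400004001010000000020000000000200000000400000000008000000008000000004100000000100000000104000000002380000000000000000049000000000000000000a400000000000000000170000000000000000002000000000000000000040000000000000000000800000000000000000010000000000000000000218000000000000000004d000000000000000000ac00000000000000000160000000000000000002000000000000000000040000000000000000000800000000000000000010000000000000000000200000200000000000004000008000300000000081800003000300000001c0c000000000c300003280c0c88000003c0000c603032a000000300000080c0000000000300000100600000300000000003800000000000000000050080000000000000000c02000000000000000010000000000c300003002c1ca4000003c0000c00707210000000000000008020000000000000000100800000000c00000003800000000000000000050400000000000000000c10000000000000000010000000000000000000200000000000000c000070000000000000000000a0000000000000000001800000000000000000020000000000000000000400000003000030000008000000080000400102100000000000000000002000000000000c0000304000000300000000c000800000000000c0000301,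
  0x80000880000100000cb100001100000000000082000000380000000000040000009000000000000800000240000000000010000007000000000000200000018000000000004000000d0000000000008000002c0000000000010000006000000000000200000000000002000004000000000000000000080000018000000000001000000d0000000000002000002c00000000000040000060000000000000800000000000100000010000000000000000000200000380000000000004000009000000000000080000020000080000001000000400000000000020000240000000000000400007000000000000008000020000040000000100000400000000000002000000000020000000040000000000000000000800000000010000000010000000000000000000200000000000000000004000000000000000000080000000000000000001000000000000000000020000000000000000000400000000000000000008000000000000000000100000000000000000002000000000000000000040000000000000000000800000000000000000010000000000000000000200000000000000000004000000000000000000080000000000000000001000000000000000000020000000000000000000400000000010000000008180000000010000000100c000000000400000120000c88000001000004400032a000000100000080c00000000001000001006000000000000000020000000000000000000400800000000000000008020000000000000000100000000000000000002010000000000000000040400000000000000000802000000000000000010080000000000000000200000000000000000004040000000000000000081000000000000000001000000000000000000020000000000000000000400000000000000000008000000000000000000100000000000000000002000000000000000000040000000000001000000800000000000080000210000000000000000000200000000000040000304000000000000000000080000000000040000301,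
  0x80000880000300000c9100001100000c000032c200000018000000000004000000d0000000000008000002c000000000001000000600000000000020000003800000000000400000090000000000008000002400000000000100000070000000000002000000000000020000040000000000000800000800000380000000000010000009000000000000200000240000000000004000007000000000000080000000000010000001000000000000400000020000018000000000000400000d0000000000000800000200000800000010000004000020000000200002c0000000000000400006000000000000008000020000040000000100000400001000000002000000000020000000040000000000800000000800000000010000000010000000000400000000200000000000000000004000000000000000000080000000000000000001000000000000000000020000000000000000000400000000000000000008000000000000000000100000000000000000002000000000000000000040000000000000000000800000000000000000010000000000000000000200000000000000000004000000000000000000080000000000000000001000000000000000000020000000000000000000400000000030000000008180000000030000000100c000000000c00000320000c8800000300000c400032a000000300000080c000000000030000010060000000000000000200000000000000000004008000000000000000080200000000000000001000000000000000000020100000000000000000404000000000000000008020000000000000000100800000000000000002000000000000000000040400000000000000000810000000000000000010000000000000000000200000000000000000004000000000000000000080000000000000000001000000000000000000020000000000000000000400000000000030000008000000000000400002100000000000000000002000000000000c00003040000000000000000000800000000000c0000301,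
  0x800000080000000000010000001000000000000200000000200000000004000000004000000000080000000080000000001000000001000000000020000000020000000000400000000400000000008000000008000000000100000000100000000002000000002000000000040000000040000000000800000000000000000010000000000000000000200000000000000000004000000000000000000080000000000000000001000000000000000000020000000000000000000400000000000000000008000000000000000000100000000000000000002000000000000000000040000000000000000000800000000000000000010000000000000000000200000000000000000004000000000000000000080000000000000000001000000000000000000020000000000000000000400000000000000000008000000000000000000100000000000000000002000000000000000000040000000000000000000800000000000000000010000000000000000000200000000000000000004000000000000000000080000000000000000001000000000000000000020000000000000000000400000000000000000008000000000000000000100000000000000000002000000000000000000040000000000000000000800001040000000000010008000000000000000200100000000000000004002000000000000000080040000000000000001000000000000000000020010000000000000000400200000000000000008004000000000000000100080000000000000002000000000000000000040000000000000000000800000000000000000010000000000000000000200000000000000000004000000000000000000080000000000000000001000000000000000000020000000000000000000400000000000000000008000000000000000000100000000000000000002000000000000000000040000000000000000000800000000000000000010000000000000000000200000000000000000044000000000000000001080000000000000000001,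
  0x200000000000000000004000000000000000020000000000000000000400000000000000000008000000000000000000100000000000000000002000000000000000000040000000000000000000800000000000000000010000000000000000080000000000000000001000000000000000000000000002000000000000000000040000000000000000000800000000000000000010000000000000008000000000000000000100000000000000000000000200000000000000000004000000000000000800000000000000000010000000000000000000000080000000000000000001000000000000000080000000000000000001000000000000000000020000000000000000000400000000000000000000000200000000000000000004000000000080000000000000000001000000000000000000020000000000000000000400000000000000000002000000000000000000040000000000000000000200000000000000000004000000000000000000000020000000000000000000400000000000000000008000000000000000000100000000000000000002000000000000000000040000000000000000000800000000000000000010000000000000008000000000000000000100000000000000000000000080000000000000000000080000000000000000001000000000000000000020000000000000000000400000000000000000000080000000000000040000000000000000000800000000000000000010000000000000000000200000000000000000000200000000000000000004000000000000000000080000000000000000001000000000000000000001000000000000000000020000000000000000000400000000000000000008000000000000004000000000000000000000800000000000000000010000000000000000000200000000000000000004000000000000000000004000000000000000000080000000000000000001900000000000000000020000000000000000000d0000000000000000002c0000000000000000001,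
  0x800000000000040000010000000000001000000200600000000000000004034000000000000000080b000000000000000010180000000000000000200320000000000000004008400000000000000080210000000000000001004c00000000000000020088c0000000180b40040113000000006025000800000000000000000010000000000000000000200000000000000000004000000000000000000080000000000200000001000000000008000000020000000000000000000400000000000000000008080000000100000000101000000004000000002000000000000000000040000000000000000000880000000080000000011000000002000000000200000000040000000004000000001000000000080000000000000000001000000000000000000020380000000000000000409000000000000000008240000000000000000107000000000000000002018000000000000000040d0000000000000000082c000000000000000010600000000000000000200000000000000000004000000000000000000080000000000000000001000000000000000000020000000000000000000400000000000000000008000000000000000000100000000000000000002000001000000000000040000040c00000000000b000000000000000000100000000000000000002400000000000000000050000000000000000000800000000000000000010000000000c000000002300000000030300000040602b000000cc00000081808c000000c00000013000000000000000000220000000000000000004800000000000000000084000000000000000001100000000000000000020000000000000000000400000000000000000008000000000000000000100000000000000300002c0000000000000000004000000000000000000090000000000000000001400000000000000000020000000000000000000400000000c00000000008000000020000000020100000000000000000002000000000000000000040000000c0000000180080000003000000006001,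
  0x800000000000040000010000000000000000000200e0000000000000000402400000000000000008090000000000000000101c000000000000000020012000000000000000400c4000000000000000802300000000000000010048000000000000000200884000000018094004011000000000000800080000000000000000001000000000000000000020000000000000000000400000000000000000008000000000020000000100000000000000000002000000000000000000040000000000000000000808000000010000000010100000000000000000200000000000000000004000000000000000000088000000008000000001100000000000000000020000000004000000000400000000000000000008000000000000000000100000000000000000002018000000000000000040d0000000000000000082c0000000000000000106000000000000000002038000000000000000040900000000000000000824000000000000000010700000000000000000200000000000000000004000000000000000000080000000000000000001000000000000000000020000000000000000000400000000000000000008000000000000000000100000000000000000002000001000000000000040000000400000000000b0000000000000000001000000000000000000024000000000000000000500000000000000000008000000000000000000100000000004000000002300000000010100000040602b0000004400000081808c000000400000013000000000000000000220000000000000000004800000000000000000084000000000000000001100000000000000000020000000000000000000400000000000000000008000000000000000000100000000000000100002c000000000000000000400000000000000000009000000000000000000140000000000000000002000000000000000000040000000040000000000800000003000000002010000000000000000000200000000000000000004000000040000000180080000001000000006001,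
  0x80000800000000000001000010000000000000020000000000000000000400000000000000000008000002000000000000100000040000000000002000000000000000000040000000000000000000800000200000000000010000004000000000000200000000000000000004000000000000000000080000000000000000001000000000000000000020000020000000000000400000400000000000008000000000000000000100000000000000000002000000000000000000040000000000000000000800000000000000000010000000000000000000200002000000000000004000040000000000000080000200000000000001000004000000000000020000000000000000000400000000000000000008000000000000000000100000000000000000002000000000000000000040000000000000000000800000000000000000010000000000000000000200000000000000000004000000000000000000080000000000000000001000000000000000000020000000000000000000400000000000000000008000000000000000000100000000000000000002000000000000000000040000000000000000000800000000000000000010000000000000000000200000000000000000004000000000000000000081000000000000000001008000000000000000020000000000000000000400022a000000000000080800000000000000001004000000000000000020000000000000000000400000000000000000008020000000000000000100000000000000000002000000000000000000040400000000000000000800000000000000000010080000000000000000200000000000000000004000000000000000000081000000000000000001000000000000000000020000000000000000000400000000000000000008000000000000000000100000000000000000002000000000000000000040000000000000000000800000000000000000210000000000000000000200000000000000000204000000000000000000080000000000000000201,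
  0x800000000000000000010000000000000000000208000000000000000004100000000000000000080000000000000000001000000000000000000020000000000000000000400000000000000000008000000000000000000100000000000000000002000000000000000000040000000000000000000802000000000000000010040000000000000000200000000000000000004000000000000000000080800000000000000001010000000000000000020000000000000000000400000000000000000008200000000000000000104000000000000000002000000000000000000040000000000000000000800000000000000000010000000000000000000200000000000000000004000000000000000000080000000000000000001000000000000000000020800000000000000000410000000000000000008000000000000000000100000000000000000002000000000000000000040000000000000000000800000000000000000010000000000000000000208000000000000000004100000000000000000080000000000000000001000000000000000000020000000000000000000400000000000000000008000000000000000000100000000000000000002000000000000000000040000000000000000000800000000000000000014000000000000000000280000000000000000004000000000000000000080000000000000000001000000000000000000028000000000000000000500000000000000000008000000000000000000100000000000000000002400a4000000000000004000000000000000000080000000000000000001000000000000000000028000000000000000000500000000000000000008000000000000000000100000000000000000002000000000000000000050000000000000000000a000000000000000000100000000000000000002000000000000000000040000000000000000000800000000000000010010000000000000000000200000000000000000004000000000000000400080000000000000000001,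
  0x800000000000000000010000000000000000000200000000000000000004000000000000000000080000000000000000001000000000000000000020800000000000000000410000000000000000008200000000000000000104000000000000000002080000000000000000041000000000000000000800000000000000000010000000000000000000200000000000000000004000000000000000000080000000000000000001000000000000000000020000000000000000000400000000000000000008000000000000000000100000000000000000002000000000000000000040000000000000000000800000000000000000010000000000000000000280000000000000000005000000000000000000080000000000000000001000000000000000000020000000000000000000400000000000000000008000000000000000000100000000000000000002200000000000000000044000000000000000000880000000000000000011000000000000000000200000000000000000004000000000000000000080000000000000000001000000000000000000020000000000000000000400000000000000000008000000000000000000100000000000000000002000000000000000000040000000000000000000c000000000000000000100000000000000000002000000000000000000040000000000000000000c0000000000000000001000000000000000000020000000000000000000480000000000000000009000000000000000000108002000000000000002000000000000000000040000000000000000000900000000000000000012000000000000000000200000000000000000004000000000000000000080000000000000000001000000000000000000030000000000000000000400000000000000000008000000000000000000100000000000000000003000000000000000000040000000000000000000800000000000000000010000000000000000000200000000000000000004000000000000000000080000000000000008001,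
  0x800000000000000000010000000000000000000200000000000000000004000000000000000000080800000000000000001010000000000000000020000000000000000000400000000000000000008020000000000000000100400000000000000002008000000000000000040100000000000000000800000000000000000010000000000000000000200000000000000000004000000000000000000080000000000000000001000000000000000000020000000000000000000400000000000000000008000000000000000000100000000000000000002000000000000000000040000000000000000000880000000000000000011000000000000000000200000000000000000004000000000000000000080000000000000000001000000000000000000020000000000000000000400000000000000000008200000000000000000104000000000000000002000000000000000000040000000000000000000820000000000000000010400000000000000000200000000000000000004000000000000000000080000000000000000001000000000000000000020000000000000000000400000000000000000008000000000000000000100000000000000000002000000000000000000040000000000000000000a000000000000000000100000000000000000002000000000000000000050000000000000000000800000000000000000010000000000000000000220000000000000000004000000000000000000081008c0000000000000120000000000000000002000000000000000000048000000000000000000800000000000000000011000000000000000000200000000000000000004000000000000000000080000000000000000001000000000000000000028000000000000000000400000000000000000008000000000000000000140000000000000000002000000000000000000040000000000000000000800000000000000000010000000000000000000200000000000000000004000000000000000100080000000000000004001,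
  0x800000200000000000010000004000000000000200000002000000000004000000040000000000080000000800000000001000000010000000000020000000000000000000400000000000000000008000000000000000000100000000000000000002000000000000000000040000000000000000000800000020000000000010000000400000000000200000008000000000004000000100000000000080000002000000000001000000040000000000020000000000000000000400000000000000000008000000000000000000100000000000000000002000000000000000000040000000000000000000800000000000000000010000000000000000000200000000000000000004000000000000000000080000000000000000001000000000000000000020000000000000000000400000000000000000008000000000000000000100000000000000000002000000000000000000040000000000000000000800000000000000000010000000000000000000200000000000000000004000000000000000000080000000000000000001000000000000000000020000000000000000000400000000000000000008000000000000000000100000000000000000002000000000000000000040000000000000000000804000000000000000010000083000000000000200800000000000000004010000000000000000080000000000000000001001000000000000000020020000000000000000400000000000000000008000000000000000000100000000000000000002008000000000000000040100000000000000000800000000000000000010000000000000000000201000000000000000004000000000000000000080000000000000000001000000000000000000020000000000000000000400000000000000000008000000000000000000100000000000000000002000000000000000000040000000000000000000800000000000000000010000000000000000000200000000000000000084000000000000000002080000000000000000081,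
  0x800000000000000000010000000000000000000200020000000000000004000400000000000000080002000000000000001000040000000000000020000000000000000000400000000000000000008000000000000000000100000000000000000002000200000000000000040004000000000000000800000000000000000010000000000000000000200000000000000000004000000000000000000080080000000000000001001000000000000000020000000000000000000400000000000000000008000000000000000000100000000000000000002000000000000000000040000000000000000000800000000000000000010000000000000000000200000000000000000004000000000000000000080000000000000000001000000000000000000020020000000000000000400400000000000000008008000000000000000100100000000000000002000000000000000000040000000000000000000800000000000000000010000000000000000000200000000000000000004000000000000000000080000000000000000001000000000000000000020000000000000000000400000000000000000008000000000000000000100000000000000000002000000000000000000040000000000000000000880000000000000000011000000000000000000200000000000000000004000000000000000000080000000000000000001000000000000000000020040280000000000000420000000000000000008400000000000000000100000000000000000002100000000000000000042000000000000000000800000000000000000010000000000000000000200000000000000000004000000000000000000080000000000000000001000000000000000000022000000000000000000440000000000000000008000000000000000000100000000000000000002000000000000000000040000000000000000000800000000000000001010000000000000000000200000000000000000004000000000000000000080000000000000001001,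
  0x8000000000000c0000010000000000000000000238e000000000000000049240000000000000000a490000000000000000171c000000000000000020012000000000000000400c40000000000000008023000000000000000100480000000000000002008940000004d80940040110000000000008000812000000000000000010c40000000000000000223000000000000000004480000000000000000088940000000f809c0001110000000000008000020000000000000000000400000000000000000008280000000900000000105000000000000000002000000000000000000040000000000000000000a800000004800000000150000000000000000002000000000400000000040000000000000000000800000000400000000010000000000000000000219800000000000000004dd00000000000000000aec00000000000000001660000000000000000020380000000000000000409000000000000000008240000000000000000107000000000000000002380000000000000000049000000000000000000a4000000000000000001700000000000000000020000000000000000000400000000000000000008000000000000000000100000000000000000002000003000000000000040000000400000000000b0000001000000000001c0000000000000000002c000000000000000000700000000000000000008000000000000000000100000000104000000003b00000000010500000053602b00000054000000cd808c0000004000000130000000004140000002f80a4000001500000007e0210000000000000008400000000000000000110000000000400000003800000000000000000050000000000000000000c000000000000000000100000000000000100002c00000000000004000070000000000000000000b0000000000000000001c000000000000000000200000000000000000004000000014000000000080000000f000000012010000000000000000000200000000000000000004000000140000000d80080000001000000006001,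
  0x8000000000000c0000010000000000003000000218600000000000000004d340000000000000000acb000000000000000016180000000000000000200320000000000000004008400000000000000080210000000000000001004c0000000000000002008bc0000004d80b4004011f0000001360250008320000000000000000108400000000000000002210000000000000000044c0000000000000000088bc0000000f80bc000111f00000003e027000020000000000000000000400000000000000000008280000000900000000105000000024000000002000000000000000000040000000000000000000a80000000480000000015000000012000000000200000000040000000004000000001000000000080000000040000000001000000001000000000023b8000000000000000049900000000000000000a640000000000000000177000000000000000002018000000000000000040d0000000000000000082c000000000000000010600000000000000000218000000000000000004d000000000000000000ac0000000000000000016000000000000000000200000000000000000004000000000000000000080000000000000000001000000000000000000020000030000000000000400000c0c00000000000b0000003000000000001c0000000000000000002c00000000000000000070000000000000000000800000000000000000010000000030c000000003b00000000030f00000053602b000000fc000000cd808c000000c00000013000000000c3c0000002f80a4000003f00000007e0210000000000000008400000000000000000110000000000c00000003800000000000000000050000000000000000000c000000000000000000100000000000000300002c0000000000000c000070000000000000000000b0000000000000000001c00000000000000000020000000000000000000400000003c000000000080000000a0000000120100000000000000000002000000000000000000040000003c0000000d80080000003000000006001]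

/-- commuting pairs -/
def commL : List (ℕ × ℕ) :=
  [(0, 1), (0, 3), (0, 5), (0, 7), (0, 8), (0, 10), (0, 12), (0, 15), (0, 16), (0, 17), (1, 4), (1, 6),
   (1, 7), (1, 8), (1, 9), (1, 12), (1, 15), (1, 16), (1, 18), (2, 5), (2, 6), (2, 7), (2, 9), (2, 10),
   (2, 11), (2, 13), (2, 14), (2, 15), (3, 4), (3, 5), (3, 7), (3, 10), (3, 15), (3, 16), (3, 17), (4, 6),
   (4, 7), (4, 9), (4, 15), (4, 16), (4, 18), (5, 6), (5, 7), (5, 10), (5, 11), (5, 13), (5, 15), (5, 16),
   (5, 17), (6, 7), (6, 9), (6, 11), (6, 13), (6, 15), (6, 16), (6, 18), (7, 8), (7, 9), (7, 10), (7, 11),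
   (7, 12), (7, 13), (7, 14), (7, 15), (7, 16), (7, 17), (7, 18), (8, 12), (9, 10), (9, 13), (9, 14),
   (9, 15), (9, 16), (9, 18), (10, 13), (10, 14), (10, 15), (10, 16), (10, 17), (11, 13), (11, 14), (11, 15),
   (11, 16), (12, 15), (12, 16), (13, 14), (13, 16), (14, 15), (14, 16), (15, 16), (15, 17), (15, 18),
   (16, 17), (16, 18), (17, 18)]

/-- lines: `R i * R j = R k` -/
def lineL : List (ℕ × ℕ × ℕ) :=
  [(0, 3, 5), (0, 5, 3), (0, 10, 17), (0, 17, 10), (1, 4, 6), (1, 6, 4), (1, 9, 18), (1, 18, 9), (3, 0, 5),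
   (3, 5, 0), (4, 1, 6), (4, 6, 1), (5, 0, 3), (5, 3, 0), (6, 1, 4), (6, 4, 1), (9, 1, 18), (9, 18, 1),
   (10, 0, 17), (10, 17, 0), (17, 0, 10), (17, 10, 0), (18, 1, 9), (18, 9, 1)]

/-- special pairs: `(R i * R j) ^ 2 = R k` -/
def speL : List (ℕ × ℕ × ℕ) :=
  [(0, 2, 5), (0, 4, 15), (0, 6, 15), (0, 9, 16), (0, 11, 15), (0, 13, 10), (0, 14, 16), (0, 18, 16),
   (1, 2, 6), (1, 3, 15), (1, 5, 15), (1, 10, 16), (1, 11, 15), (1, 13, 9), (1, 14, 16), (1, 17, 16),
   (2, 0, 5), (2, 1, 6), (2, 3, 5), (2, 4, 6), (2, 16, 7), (2, 17, 5), (2, 18, 6), (3, 1, 15), (3, 2, 5),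
   (3, 6, 15), (3, 11, 15), (3, 12, 15), (3, 13, 10), (4, 0, 15), (4, 2, 6), (4, 5, 15), (4, 11, 15),
   (4, 12, 15), (4, 13, 9), (5, 1, 15), (5, 4, 15), (5, 9, 7), (5, 12, 15), (5, 14, 7), (6, 0, 15),
   (6, 3, 15), (6, 10, 7), (6, 12, 15), (6, 14, 7), (9, 0, 16), (9, 5, 7), (9, 11, 7), (9, 12, 16),
   (9, 17, 16), (10, 1, 16), (10, 6, 7), (10, 11, 7), (10, 12, 16), (10, 18, 16), (11, 0, 15), (11, 1, 15),
   (11, 3, 15), (11, 4, 15), (11, 9, 7), (11, 10, 7), (11, 12, 15), (12, 3, 15), (12, 4, 15), (12, 5, 15),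
   (12, 6, 15), (12, 9, 16), (12, 10, 16), (12, 11, 15), (12, 14, 16), (12, 17, 16), (12, 18, 16),
   (13, 0, 10), (13, 1, 9), (13, 3, 10), (13, 4, 9), (13, 15, 7), (13, 17, 10), (13, 18, 9), (14, 0, 16),
   (14, 1, 16), (14, 5, 7), (14, 6, 7), (14, 12, 16), (14, 17, 16), (14, 18, 16), (15, 13, 7), (16, 2, 7),
   (17, 1, 16), (17, 2, 5), (17, 9, 16), (17, 12, 16), (17, 13, 10), (17, 14, 16), (18, 0, 16), (18, 2, 6),
   (18, 10, 16), (18, 12, 16), (18, 13, 9), (18, 14, 16)]

/-- conjugation by `R 8`: `R 8 * R i * R 8 = R j` -/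
def mL : List (ℕ × ℕ) :=
  [(0, 0), (1, 1), (2, 13), (3, 17), (4, 18), (5, 10), (6, 9), (7, 7), (8, 8), (9, 6), (10, 5), (11, 14),
   (12, 12), (13, 2), (14, 11), (15, 16), (16, 15), (17, 3), (18, 4)]

/-- conjugation by the field automorphism: `Phi * R i * Phi = R j` -/
def sL : List (ℕ × ℕ) :=
  [(0, 1), (1, 0), (2, 2), (3, 4), (4, 3), (5, 6), (6, 5), (7, 7), (8, 8), (9, 10), (10, 9), (11, 11),
   (12, 12), (13, 13), (14, 14), (15, 15), (16, 16), (17, 18), (18, 17)]

end Cfsg.Agent.TwoESix.FrameData
end

-- part: TwoESix/Frame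
section
set_option autoImplicit false

namespace Cfsg.Agent.TwoESix.Frame

open Cfsg.Agent.TwoESix.Data Cfsg.Agent.TwoESix.Words Cfsg.Agent.TwoESix.Iso Cfsg.Agent.TwoESix.Gens
open Cfsg.Agent.TwoESix.Rels Cfsg.Agent.TwoESix.Main Cfsg.Agent.TwoESix.RootsCfg Cfsg.Agent.TwoESix.Phi
open Cfsg.Agent.TwoESix.FrameData
open Cfsg.Agent.Lib Cfsg.Agent.Lib.F2MatGroup

/-- the root involutions of the configuration -/
def Rt (i : ℕ) : GL (Fin 78) (ZMod 2) := evG LG (cw (rw.getD i []))

theorem rw_lets : (rw.all fun w => lets w) = true := by decide +kernel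

theorem Rt_mem (i : ℕ) : Rt i ∈ TG := by
  apply cw_mem
  rcases Nat.lt_or_ge i rw.length with h | h
  · rw [List.getD_eq_getElem _ _ h]
    exact List.all_eq_true.1 rw_lets _ (List.getElem_mem h)
  · rw [List.getD_eq_default _ _ h]
    rfl

theorem Rt_check : ((List.range 19).all fun i =>
    Nat.beq (evW 78 (Ts ++ Ms) (cw (rw.getD i []))) (Rm.getD i 0)) = true := by decide +kernel

/-- the list of the root involutions, with the field automorphism at the end -/
def RL : List (GL (Fin 78) (ZMod 2)) := (List.range 19).map Rt ++ [Phi]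

theorem codes_Rt (i : ℕ) (h : i < 19) : Codes 78 (Rt i) (Rm.getD i 0) := by
  have h1 := List.all_eq_true.1 Rt_check i (List.mem_range.2 h)
  rw [← Nat.eq_of_beq_eq_true h1]
  exact codes_evW codes_LG _

theorem Rm_eq : Rm = (List.range 19).map fun i => Rm.getD i 0 := by decide +kernel

theorem codes_RL : List.Forall₂ (Codes 78) RL (Rm ++ [mPhi]) := by
  rw [Rm_eq]
  apply List.rel_append
  · rw [List.forall₂_map_left_iff, List.forall₂_map_right_iff, List.forall₂_same]
    intro i hi
    exact codes_Rt i (List.mem_range.1 hi)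
  · exact List.Forall₂.cons codes_Phi List.Forall₂.nil

theorem comm_check : eqs 78 (commL.map fun p => ([p.1, p.2], [p.2, p.1])) (Rm ++ [mPhi]) = true := by decide +kernel
theorem line_check : eqs 78 (lineL.map fun p => ([p.1, p.2.1], [p.2.2])) (Rm ++ [mPhi]) = true := by decide +kernel
theorem spe_check : eqs 78 (speL.map fun p => ([p.1, p.2.1, p.1, p.2.1], [p.2.2])) (Rm ++ [mPhi]) = true := by
  decide +kernel
theorem s_check : eqs 78 (sL.map fun p => ([19, p.1, 19], [p.2])) (Rm ++ [mPhi]) = true := by decide +kernel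
theorem ne_check : neqs 78 ((List.range 19).flatMap fun i => (List.range i).map fun j => ([i], [j]))
    (Rm ++ [mPhi]) = true := by decide +kernel

theorem get_Rt {i : ℕ} (h : i < 19) : getG RL i = Rt i := by
  unfold getG RL
  rw [List.getD_eq_getElem?_getD, List.getElem?_append_left (by simpa using h), List.getElem?_map,
    List.getElem?_range h]
  rfl

theorem get_Phi : getG RL 19 = Phi := by
  unfold getG RL
  rw [List.getD_eq_getElem?_getD, List.getElem?_append_right (by simp)]
  rfl

theorem ev1 {i : ℕ} (h : i < 19) : evG RL [i] = Rt i := by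
  rw [evG_cons, evG_nil, mul_one, get_Rt h]

theorem ev2 {i j : ℕ} (h : i < 19) (h' : j < 19) : evG RL [i, j] = Rt i * Rt j := by
  rw [evG_cons, ev1 h', get_Rt h]

theorem ok_lists : (commL.all fun p => Nat.blt p.1 19 && Nat.blt p.2 19) = true ∧
    (lineL.all fun p => Nat.blt p.1 19 && (Nat.blt p.2.1 19 && Nat.blt p.2.2 19)) = true ∧
    (speL.all fun p => Nat.blt p.1 19 && (Nat.blt p.2.1 19 && Nat.blt p.2.2 19)) = true ∧
    (mL.all fun p => Nat.blt p.1 19 && Nat.blt p.2 19) = true ∧
    (sL.all fun p => Nat.blt p.1 19 && Nat.blt p.2 19) = true := by decide +kernel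

theorem R_comm {i j : ℕ} (h : (i, j) ∈ commL) : Rt i * Rt j = Rt j * Rt i := by
  have h1 := eqs_sound codes_RL comm_check _ (List.mem_map.2 ⟨_, h, rfl⟩)
  have h2 := List.all_eq_true.1 ok_lists.1 _ h
  rw [Bool.and_eq_true, Nat.blt_eq, Nat.blt_eq] at h2
  rwa [ev2 h2.1 h2.2, ev2 h2.2 h2.1] at h1

theorem R_line {i j k : ℕ} (h : (i, j, k) ∈ lineL) : Rt i * Rt j = Rt k := by
  have h1 := eqs_sound codes_RL line_check _ (List.mem_map.2 ⟨_, h, rfl⟩)
  have h2 := List.all_eq_true.1 ok_lists.2.1 _ h
  rw [Bool.and_eq_true, Bool.and_eq_true, Nat.blt_eq, Nat.blt_eq, Nat.blt_eq] at h2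
  rwa [ev2 h2.1 h2.2.1, ev1 h2.2.2] at h1

theorem R_spe {i j k : ℕ} (h : (i, j, k) ∈ speL) : (Rt i * Rt j) ^ 2 = Rt k := by
  have h1 := eqs_sound codes_RL spe_check _ (List.mem_map.2 ⟨_, h, rfl⟩)
  have h2 := List.all_eq_true.1 ok_lists.2.2.1 _ h
  rw [Bool.and_eq_true, Bool.and_eq_true, Nat.blt_eq, Nat.blt_eq, Nat.blt_eq] at h2
  simp only [evG_cons, evG_nil, mul_one, get_Rt h2.1, get_Rt h2.2.1, get_Rt h2.2.2] at h1
  rw [pow_two, mul_assoc, h1]

theorem R_s {i j : ℕ} (h : (i, j) ∈ sL) : Phi * Rt i * Phi = Rt j := by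
  have h1 := eqs_sound codes_RL s_check _ (List.mem_map.2 ⟨_, h, rfl⟩)
  have h2 := List.all_eq_true.1 ok_lists.2.2.2.2 _ h
  rw [Bool.and_eq_true, Nat.blt_eq, Nat.blt_eq] at h2
  simp only [evG_cons, evG_nil, mul_one, get_Rt h2.1, get_Rt h2.2, get_Phi] at h1
  rw [mul_assoc, h1]

theorem R_ne {i j : ℕ} (hi : i < 19) (hij : j < i) : Rt i ≠ Rt j := by
  have h1 := neqs_sound (by norm_num) codes_RL ne_check ([i], [j])
    (List.mem_flatMap.2 ⟨i, List.mem_range.2 hi, List.mem_map.2 ⟨j, List.mem_range.2 hij, rfl⟩⟩)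
  rwa [ev1 hi, ev1 (hij.trans hi)] at h1

end Cfsg.Agent.TwoESix.Frame
end

-- part: TwoESix/FrameCfg
section
set_option autoImplicit false

namespace Cfsg.Agent.TwoESix.FrameCfg

open Cfsg.Agent.TwoESix.Data Cfsg.Agent.TwoESix.Iso Cfsg.Agent.TwoESix.Gens
open Cfsg.Agent.TwoESix.RootsCfg Cfsg.Agent.TwoESix.Phi Cfsg.Agent.TwoESix.FrameData Cfsg.Agent.TwoESix.Frame
open Cfsg.Agent.BabyU.FusCfg

/-- root involutions as elements of the subgroup `Gam` -/
def TS : Set ↥Gam := {x | (x : GL (Fin 78) (ZMod 2)) ∈ TG}

/-- the field automorphism as an automorphism of `Gam` -/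
def sig : ↥Gam →* ↥Gam where
  toFun x := ⟨Phi * x * Phi, Phi_conj_mem x.2⟩
  map_one' := Subtype.ext (by show Phi * 1 * Phi = 1; rw [mul_one, Phi_sq])
  map_mul' x y := Subtype.ext (by
    show Phi * (x * y : GL (Fin 78) (ZMod 2)) * Phi = Phi * x * Phi * (Phi * y * Phi)
    calc Phi * (x * y : GL (Fin 78) (ZMod 2)) * Phi = Phi * x * 1 * y * Phi := by rw [mul_one]; group
      _ = Phi * x * (Phi * Phi) * y * Phi := by rw [Phi_sq]
      _ = _ := by group)

theorem sig_sig (x : ↥Gam) : sig (sig x) = x := by
  apply Subtype.ext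
  show Phi * (Phi * x * Phi) * Phi = x
  calc Phi * (Phi * (x : GL (Fin 78) (ZMod 2)) * Phi) * Phi = (Phi * Phi) * x * (Phi * Phi) := by group
    _ = x := by rw [Phi_sq, one_mul, mul_one]

theorem sig_TS {x : ↥Gam} (hx : x ∈ TS) : sig x ∈ TS := Phi_TG hx

/-- the root involutions in `Gam` -/
def S (i : ℕ) : ↥Gam := ⟨Rt i, TG_mem (Rt_mem i)⟩

theorem S_mem (i : ℕ) : S i ∈ TS := Rt_mem i

theorem S_comm {i j : ℕ} (h : (i, j) ∈ commL) : S i * S j = S j * S i := Subtype.ext (R_comm h)
theorem S_line {i j k : ℕ} (h : (i, j, k) ∈ lineL) : S i * S j = S k := Subtype.ext (R_line h)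
theorem S_spe {i j k : ℕ} (h : (i, j, k) ∈ speL) : (S i * S j) ^ 2 = S k := Subtype.ext (R_spe h)
theorem S_s {i j : ℕ} (h : (i, j) ∈ sL) : sig (S i) = S j := Subtype.ext (R_s h)

/-- conjugation inside the configuration from a special pair and a line: `x y x = (x y)² y` -/
theorem S_conj {i j k l : ℕ} (h : (i, j, k) ∈ speL) (h' : (k, j, l) ∈ lineL) : S i * S j * S i = S l := by
  rw [← S_line h', ← S_spe h, pow_two]
  have h1 : (S j) * (S j) = 1 := Subtype.ext (TG_sq (Rt_mem j))
  calc S i * S j * S i = S i * S j * S i * (S j * S j) := by rw [h1, mul_one]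
    _ = _ := by group

/-- the configuration -/
def cfg : Cfg ↥Gam TS sig where
  b3 := S 0
  b3s := S 1
  g := S 2
  b3g := S 3
  b3sg := S 4
  a := S 5
  as_ := S 6
  r := S 7
  b := S 9
  bs := S 10
  h14 := S 11
  h34 := S 12
  k23 := S 13
  h24 := S 14
  c13 := S 15
  c23 := S 16
  b3k := S 17
  b3sk := S 18
  m_b3 := S_mem _
  m_b3s := S_mem _
  m_g := S_mem _
  m_b3g := S_mem _
  m_b3sg := S_mem _
  m_a := S_mem _
  m_as := S_mem _
  m_r := S_mem _
  m_b := S_mem _
  m_bs := S_mem _
  m_h14 := S_mem _
  m_h34 := S_mem _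
  m_k23 := S_mem _
  m_h24 := S_mem _
  m_c13 := S_mem _
  m_c23 := S_mem _
  m_b3k := S_mem _
  m_b3sk := S_mem _
  σ_b3 := S_s (by decide)
  σ_b3s := S_s (by decide)
  σ_g := S_s (by decide)
  σ_a := S_s (by decide)
  σ_as := S_s (by decide)
  σ_r := S_s (by decide)
  σ_b := S_s (by decide)
  σ_bs := S_s (by decide)
  σ_h14 := S_s (by decide)
  σ_h34 := S_s (by decide)
  g_b3 := S_conj (k := 5) (by decide) (by decide)
  g_b3s := S_conj (k := 6) (by decide) (by decide)
  k_b3 := S_conj (k := 10) (by decide) (by decide)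
  k_b3s := S_conj (k := 9) (by decide) (by decide)
  l_a := S_line (by decide)
  l_as := S_line (by decide)
  l_bs := S_line (by decide)
  l_b := S_line (by decide)
  s_b3g := S_spe (by decide)
  s_h14 := S_spe (by decide)
  s_b3k := S_spe (by decide)
  s_h24 := S_spe (by decide)
  s_ab := S_spe (by decide)
  s_b3s_a := S_spe (by decide)
  s_b3_as := S_spe (by decide)
  s_h24_a := S_spe (by decide)
  s_h24_as := S_spe (by decide)
  s_h34_a := S_spe (by decide)
  s_h34_as := S_spe (by decide)
  c_b3 := S_comm (by decide)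
  c_a := S_comm (by decide)
  c_b_as := (S_comm (i := 6) (j := 9) (by decide)).symm
  c_r_a := (S_comm (i := 5) (j := 7) (by decide)).symm
  c_r_as := (S_comm (i := 6) (j := 7) (by decide)).symm
  c_r_b3 := (S_comm (i := 0) (j := 7) (by decide)).symm
  c_r_b3s := (S_comm (i := 1) (j := 7) (by decide)).symm
  c_r_g := (S_comm (i := 2) (j := 7) (by decide)).symm
  c_r_h14 := S_comm (by decide)
  c_r_h34 := S_comm (by decide)
  c_c13_a := (S_comm (i := 5) (j := 15) (by decide)).symm
  c_c13_as := (S_comm (i := 6) (j := 15) (by decide)).symm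
  c_c13_b3g := (S_comm (i := 3) (j := 15) (by decide)).symm
  c_c23_b := (S_comm (i := 9) (j := 16) (by decide)).symm
  c_c23_bs := (S_comm (i := 10) (j := 16) (by decide)).symm
  c_c23_b3k := S_comm (by decide)
  c_k_a := (S_comm (i := 5) (j := 13) (by decide)).symm
  c_k_as := (S_comm (i := 6) (j := 13) (by decide)).symm
  c_b3_a := S_comm (by decide)
  c_b3s_as := S_comm (by decide)
  ne_a := fun h => R_ne (i := 6) (j := 5) (by norm_num) (by norm_num) (congrArg Subtype.val h).symm

end Cfsg.Agent.TwoESix.FrameCfg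
end
end

-- part: BabyU/FusGood
section
prune_inst 0x2030300440020000001885100000204400000002006b000111a00702000f530120050f014ae01e10113a2a7020008040001000d9423800002a008a0040040000042a60c60240b00021000040f807180c00000000000000000000000000041004000000000
set_option linter.all false
open scoped Cfsg.Agent.FastGrp

/-!
# U-B, fusion, second half: good lifts  (pieces (a) and (u1*)-(u3))

`Flag T R S b a c`: facts about one flag of `E = 2E6(2)`: `b` the top root, `c` the second root of the
line, `R = O_2(C_E(b))`, `S` a Sylow 2-subgroup, `a` a root symplectic to `b`, central in `S / R`.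

`Hyp`: the setup, the laws of the canonical lifts, the flag, and the three facts on `M`.

Results (with `D = t^G`): `w_not` (no canonical lift is in `D`), `lab_mem` (all good lifts are in `D`),
`nb_symm`, `closed` (two commuting good neighbours of `c` are good neighbours of each other).
-/

set_option autoImplicit false

namespace Cfsg.Agent.BabyU.FusGood

open Cfsg.Agent.BabyU Cfsg.Agent.BabyU.Lab
open scoped commutatorElement Pointwise

universe u v

/-- Facts about one flag of `E`. -/
structure Flag {E : Type v} [Group E] (T : Set E) (R S : Subgroup E) (b a c : E) : Prop where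
  b_mem : b ∈ T
  a_mem : a ∈ T
  c_mem : c ∈ T
  bc : b * c ∈ T
  ab : a * b = b * a
  ab_not : a * b ∉ T
  a_ne : a ≠ b
  R_le : R ≤ S
  S_le : ∀ x ∈ S, x * b = b * x
  S_two : IsPGroup 2 S
  S_odd : ¬ 2 ∣ S.index
  R_norm : ∀ y, y * b = b * y → ∀ x ∈ R, y * x * y⁻¹ ∈ R
  R_gen : R ≤ Subgroup.closure ((R : Set E) ∩ T)
  R_comm : ∀ x ∈ R, x ∈ T → ∀ y ∈ R, y ∈ T → x * y = y * x ∨ ⁅x, y⁆ = b
  R_non : ∃ x ∈ R, x ∈ T ∧ ∃ y ∈ R, y ∈ T ∧ ⁅x, y⁆ = b
  R_max : ∀ N : Subgroup E, (∀ x ∈ N, x * b = b * x) → IsPGroup 2 N →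
    (∀ y, y * b = b * y → ∀ x ∈ N, y * x * y⁻¹ ∈ N) → N ≤ R
  S_cen : ∀ x ∈ S, (∀ y ∈ S, y * x = x * y) → x = 1 ∨ x = b
  c_R : c ∈ R
  c_fix : ∀ y ∈ S, y * c * y⁻¹ = c ∨ y * c * y⁻¹ = b * c
  c_uni : ∀ x ∈ R, (∀ y ∈ S, y * x * y⁻¹ = x ∨ y * x * y⁻¹ = b * x) →
    x = 1 ∨ x = b ∨ x = c ∨ x = b * c
  a_S : a ∈ S
  a_R : a ∉ R
  a_fix : ∀ y ∈ S, y * a * y⁻¹ * a⁻¹ ∈ R
  a_uni : ∀ x ∈ S, (∀ y ∈ S, y * x * y⁻¹ * x⁻¹ ∈ R) → x ∈ R ∨ x * a⁻¹ ∈ R
  a_bor : ∀ y, y * b = b * y → (∀ x ∈ S, y * x * y⁻¹ ∈ S) → ∃ q ∈ R, y * a * y⁻¹ = q * a * q⁻¹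
  a_van : ∀ x ∈ R, (∀ y, y * b = b * y → (∀ x ∈ S, y * x * y⁻¹ ∈ S) →
      ∃ q ∈ R, y * x * y⁻¹ * x⁻¹ = ⁅q, a⁆ ∨ y * x * y⁻¹ * x⁻¹ = b * ⁅q, a⁆) →
    ∃ q ∈ R, x = ⁅q, a⁆ ∨ x = b * ⁅q, a⁆

/-- The hypotheses of the second half of the fusion step. -/
structure Hyp {G : Type u} [Group G] {E : Type v} [Group E] (t : G) (M : Subgroup G) (π : M →* E)
    (T : Set E) (R S : Subgroup E) (b a c : E) : Prop where
  set : Setup t M π
  roots : Roots E T
  flag : Flag T R S b a c
  /-- (e2) for `b` -/
  perf : ∀ H : Subgroup M, H.relIndex (Subgroup.centralizer ({w π T b} : Set M)) ≠ 2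
  /-- `T` is invariant under `C_G(t)` -/
  out : ∀ h : G, h * t = t * h → ∀ m m' : M, (m' : G) = h * m * h⁻¹ → π m ∈ T → π m' ∈ T
  /-- output of the first half of the fusion step -/
  fuse : ∃ m : M, π m ∈ T ∧ ∃ g : G, g * t * g⁻¹ = m
  /-- pairwise commuting roots whose canonical lifts have product `t` -/
  chain : ∃ l : List E, (∀ r ∈ l, r ∈ T) ∧ l.Pairwise (fun r s => r * s = s * r ∧ r ≠ s) ∧
    (((l.map (w π T)).prod : M) : G) = t

section

variable {G : Type u} [Group G] {t : G} {M : Subgroup G} {E : Type v} [Group E] {π : M →* E}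
  {T : Set E} {R S : Subgroup E} {b a c : E}

theorem _root_.Cfsg.Agent.BabyU.Setup.cover (h : Setup t M π) : Cover π h.z where
  surj := h.surj
  ker := fun m => by
    rw [h.ker]
    constructor
    · rintro (h1 | h1)
      · exact Or.inl (Subtype.ext h1)
      · exact Or.inr (Subtype.ext h1)
    · rintro (h1 | h1)
      · exact Or.inl (congrArg Subtype.val h1)
      · exact Or.inr (congrArg Subtype.val h1)
  ne := fun h1 => h.ne (congrArg Subtype.val h1)

/-- the canonical lift as an element of `G` -/
noncomputable def W (π : M →* E) (T : Set E) (r : E) : G := ((w π T r : M) : G)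

/-- `x` is a canonical lift relative to `c` -/
def Cn (t : G) (π : M →* E) (T : Set E) (c x : G) : Prop :=
  ∃ g : G, g * t * g⁻¹ = c ∧ ∃ r ∈ T, g * W π T r * g⁻¹ = x

/-- `x` is a good lift relative to `c` -/
def Nb (t : G) (π : M →* E) (T : Set E) (c x : G) : Prop :=
  ∃ g : G, g * t * g⁻¹ = c ∧ ∃ r ∈ T, g * (t * W π T r) * g⁻¹ = x

theorem nb_iff (ht : t * t = 1) (c x : G) : Nb t π T c x ↔ Cn t π T c (c * x) := by
  constructor
  · rintro ⟨g, rfl, r, hr, rfl⟩
    refine ⟨g, rfl, r, hr, ?_⟩
    calc g * W π T r * g⁻¹ = g * (1 * W π T r) * g⁻¹ := by rw [one_mul]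
      _ = g * (t * t * W π T r) * g⁻¹ := by rw [ht]
      _ = g * t * g⁻¹ * (g * (t * W π T r) * g⁻¹) := by group
  · rintro ⟨g, rfl, r, hr, h⟩
    refine ⟨g, rfl, r, hr, ?_⟩
    have ht' : t⁻¹ = t := inv_eq_iff_mul_eq_one.2 ht
    have : x = (g * t * g⁻¹)⁻¹ * (g * W π T r * g⁻¹) := by rw [h]; group
    rw [this]
    calc g * (t * W π T r) * g⁻¹ = g * (t⁻¹ * W π T r) * g⁻¹ := by rw [ht']
      _ = (g * t * g⁻¹)⁻¹ * (g * W π T r * g⁻¹) := by group

theorem Nb.conj {x y : G} (h : Nb t π T x y) (g : G) : Nb t π T (g * x * g⁻¹) (g * y * g⁻¹) := by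
  obtain ⟨k, rfl, r, hr, rfl⟩ := h
  exact ⟨g * k, by group, r, hr, by group⟩

theorem Cn.conj {x y : G} (h : Cn t π T x y) (g : G) : Cn t π T (g * x * g⁻¹) (g * y * g⁻¹) := by
  obtain ⟨k, rfl, r, hr, rfl⟩ := h
  exact ⟨g * k, by group, r, hr, by group⟩

end

/-- commutators of a group generated by elements with commutators in a central `{1, z}` -/
theorem comm_closure {A : Type*} [Group A] {z : A} {X : Set A} (hz : ∀ x ∈ X, x * z = z * x)
    (hzz : z * z = 1) (hX : ∀ x ∈ X, ∀ y ∈ X, ⁅x, y⁆ = 1 ∨ ⁅x, y⁆ = z) :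
    ∀ x ∈ Subgroup.closure X, ∀ y ∈ Subgroup.closure X, ⁅x, y⁆ = 1 ∨ ⁅x, y⁆ = z := by
  have hcl : ∀ x ∈ Subgroup.closure X, x * z = z * x := by
    intro x hx
    have : Subgroup.closure X ≤ Subgroup.centralizer ({z} : Set A) := by
      rw [Subgroup.closure_le]
      intro x hx
      rw [SetLike.mem_coe, Subgroup.mem_centralizer_iff]
      rintro _ rfl
      exact (hz x hx).symm
    exact ((Subgroup.mem_centralizer_iff.1 (this hx)) z rfl).symm
  have hzi : z⁻¹ = z := inv_eq_iff_mul_eq_one.2 hzz
  -- the right argument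
  have step : ∀ x : A, x * z = z * x → (∀ y ∈ X, ⁅x, y⁆ = 1 ∨ ⁅x, y⁆ = z) →
      ∀ y ∈ Subgroup.closure X, ⁅x, y⁆ = 1 ∨ ⁅x, y⁆ = z := by
    intro x hx h y hy
    induction hy using Subgroup.closure_induction with
    | mem y hy => exact h y hy
    | one => left; simp
    | mul y y' hy hy' ih ih' =>
      have e : ⁅x, y * y'⁆ = ⁅x, y⁆ * (y * ⁅x, y'⁆ * y⁻¹) := by
        simp only [commutatorElement_def]; group
      have hyz := hcl y hy
      rw [e]
      rcases ih with h1 | h1 <;> rcases ih' with h2 | h2 <;> rw [h1, h2]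
      · left; simp
      · right; rw [hyz]; group
      · right; simp
      · left; rw [hyz]; rw [show z * (z * y * y⁻¹) = z * z by group, hzz]
    | inv y hy ih =>
      have e : ⁅x, y⁻¹⁆ = y⁻¹ * ⁅x, y⁆⁻¹ * y := by
        simp only [commutatorElement_def]; group
      have hyz := hcl y hy
      rw [e]
      rcases ih with h1 | h1 <;> rw [h1]
      · left; simp
      · right; rw [hzi, mul_assoc, ← hyz]; group
  intro x hx y hy
  have hflip : ∀ x y : A, (⁅x, y⁆ = 1 ∨ ⁅x, y⁆ = z) → (⁅y, x⁆ = 1 ∨ ⁅y, x⁆ = z) := by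
    intro x y h
    rw [← commutatorElement_inv x y]
    rcases h with h | h <;> rw [h]
    · left; simp
    · right; exact hzi
  apply step x (hcl x hx) _ y hy
  intro y hy
  apply hflip
  exact step y (hz y hy) (fun x hx => hX y hy x hx) x hx

section flag

variable {E : Type v} [Group E] {T : Set E} {R S : Subgroup E} {b a c : E}

theorem Flag.comm (F : Flag T R S b a c) (hT : Roots E T) :
    ∀ x ∈ R, ∀ y ∈ R, ⁅x, y⁆ = 1 ∨ ⁅x, y⁆ = b := by
  have := comm_closure (z := b) (X := (R : Set E) ∩ T)
    (fun x hx => F.S_le x (F.R_le hx.1)) (hT.sq b F.b_mem)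
    (fun x hx y hy => by
      rcases F.R_comm x hx.1 hx.2 y hy.1 hy.2 with h | h
      · left; rw [commutatorElement_def, h]; group
      · right; exact h)
  exact fun x hx y hy => this x (F.R_gen hx) y (F.R_gen hy)

theorem Flag.van (F : Flag T R S b a c) (hT : Roots E T) {x y q₁ q₂ : E} (hxa : x * a⁻¹ ∈ R)
    (hq₁ : q₁ ∈ R) (hq₂ : q₂ ∈ R) (ha : y * a * y⁻¹ = q₁ * a * q₁⁻¹)
    (hx : y * x * y⁻¹ = q₂ * x * q₂⁻¹) :
    ∃ q ∈ R, y * (x * a⁻¹) * y⁻¹ * (x * a⁻¹)⁻¹ = ⁅q, a⁆ ∨
      y * (x * a⁻¹) * y⁻¹ * (x * a⁻¹)⁻¹ = b * ⁅q, a⁆ := by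
  have hb2 := hT.sq b F.b_mem
  have hbR : ∀ u ∈ R, u * b = b * u := fun u hu => F.S_le u (F.R_le hu)
  have swap : ∀ u ∈ R, ∀ v ∈ R, u * v = v * u ∨ u * v = b * (v * u) := by
    intro u hu v hv
    rcases F.comm hT u hu v hv with h | h
    · left
      rw [commutatorElement_def] at h
      calc u * v = u * v * u⁻¹ * v⁻¹ * (v * u) := by group
        _ = v * u := by rw [h, one_mul]
    · right
      rw [commutatorElement_def] at h
      calc u * v = u * v * u⁻¹ * v⁻¹ * (v * u) := by group
        _ = b * (v * u) := by rw [h]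
  set Y := x * a⁻¹ with hY
  set p := q₂⁻¹ * q₁ with hp
  have hpR : p ∈ R := R.mul_mem (R.inv_mem hq₂) hq₁
  set A := a * p * a⁻¹ with hA
  have hAR : A ∈ R := F.R_norm a F.ab p hpR
  have trans : ∀ u v w : E, (u = v ∨ u = b * v) → (v = w ∨ v = b * w) → (u = w ∨ u = b * w) := by
    intro u v w h1 h2
    rcases h1 with h1 | h1 <;> rcases h2 with h2 | h2 <;> rw [h1, h2]
    · left; rfl
    · right; rfl
    · right; rfl
    · left; rw [← mul_assoc, hb2, one_mul]
  have e0 : y * Y * y⁻¹ * Y⁻¹ = (q₂ * Y * A * q₁⁻¹) * Y⁻¹ := by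
    have e1 : y * Y * y⁻¹ = (y * x * y⁻¹) * (y * a * y⁻¹)⁻¹ := by rw [hY]; group
    rw [e1, ha, hx, hA, hp, hY]
    group
  have m1 : q₂ * Y * A * q₁⁻¹ ∈ R :=
    R.mul_mem (R.mul_mem (R.mul_mem hq₂ hxa) hAR) (R.inv_mem hq₁)
  have s1 := swap _ m1 _ (R.inv_mem hxa)
  have e2 : Y⁻¹ * (q₂ * Y * A * q₁⁻¹) = (Y⁻¹ * q₂) * (Y * A * q₁⁻¹) := by group
  have s2 : Y⁻¹ * (q₂ * Y * A * q₁⁻¹) = q₂ * A * q₁⁻¹ ∨
      Y⁻¹ * (q₂ * Y * A * q₁⁻¹) = b * (q₂ * A * q₁⁻¹) := by
    rw [e2]
    rcases swap _ (R.inv_mem hxa) _ hq₂ with h | h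
    · left; rw [h]; group
    · right; rw [h]; group
  have s3 := swap _ (R.mul_mem hq₂ hAR) _ (R.inv_mem hq₁)
  have e3 : q₁⁻¹ * (q₂ * A) = ⁅p⁻¹, a⁆ := by
    rw [commutatorElement_def, hA, hp]; group
  refine ⟨p⁻¹, R.inv_mem hpR, ?_⟩
  rw [e0, ← e3]
  exact trans _ _ _ s1 (trans _ _ _ s2 s3)

end flag

namespace Hyp

variable {G : Type u} [Group G] {t : G} {M : Subgroup G} {E : Type v} [Group E] {π : M →* E}
  {T : Set E} {R S : Subgroup E} {b a c : E}

section basic

variable (H : Hyp t M π T R S b a c)
include H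

theorem tt : t * t = 1 := H.set.sq

theorem tinv : t⁻¹ = t := inv_eq_iff_mul_eq_one.2 H.tt

omit H in
theorem mem_W (r : E) : (W π T r : G) ∈ M := (w π T r : M).2

theorem t_comm {m : G} (hm : m ∈ M) : m * t = t * m := H.set.comm m hm

theorem W_comm_t (r : E) : (W π T r : G) * t = t * W π T r := H.t_comm (mem_W r)

theorem pi_W {r : E} (hr : r ∈ T) : π (w π T r) = r := map_w H.set.cover H.roots hr

theorem W_sq {r : E} (hr : r ∈ T) : (W π T r : G) * W π T r = 1 :=
  congrArg Subtype.val (w_sq H.set.cover H.roots hr)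

theorem W_conj (m : M) {r : E} (hr : r ∈ T) :
    (m : G) * W π T r * (m : G)⁻¹ = W π T (π m * r * (π m)⁻¹) :=
  congrArg Subtype.val (w_conj H.set.cover H.roots m hr)

/-- conjugation by an arbitrary element of `C_G(t)` -/
theorem W_conj_out {g : G} (hg : g * t = t * g) {r : E} (hr : r ∈ T) :
    ∃ r' ∈ T, g * W π T r * g⁻¹ = W π T r' := by
  -- the automorphism `φ` of `M` and the automorphism `ψ` of `E`
  have hn := H.set.norm g hg
  let φ : M →* M :=
    { toFun := fun m => ⟨g * m * g⁻¹, hn m m.2⟩
      map_one' := Subtype.ext (by simp)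
      map_mul' := fun x y => Subtype.ext (by simp only [mul_assoc, _root_.Subgroup.coe_mul, _root_.MulMemClass.mk_mul_mk, _root_.inv_mul_cancel_left]) }
  have hφ : ∀ m : M, ((φ m : M) : G) = g * m * g⁻¹ := fun _ => rfl
  have hker : ∀ x y : M, π x = π y → π (φ x) = π (φ y) := by
    intro x y hxy
    rcases H.set.cover.eq_or hxy with h | h
    · rw [h]
    · rw [h, map_mul, map_mul]
      have : φ H.set.z = H.set.z := Subtype.ext (by
        rw [hφ]; show g * t * g⁻¹ = t; rw [hg]; group)
      rw [this, H.set.cover.map_t, one_mul]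
  let ψ : E →* E :=
    { toFun := fun e => π (φ (Function.surjInv H.set.surj e))
      map_one' := by
        have h1 : π (Function.surjInv H.set.surj (1 : E)) = π 1 := by
          rw [Function.surjInv_eq H.set.surj, map_one]
        rw [hker _ _ h1, map_one, map_one]
      map_mul' := fun x y => by
        have h1 : π (Function.surjInv H.set.surj (x * y)) =
            π (Function.surjInv H.set.surj x * Function.surjInv H.set.surj y) := by
          rw [Function.surjInv_eq H.set.surj, map_mul, Function.surjInv_eq H.set.surj,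
            Function.surjInv_eq H.set.surj]
        rw [hker _ _ h1, map_mul, map_mul] }
  have hψ : ∀ m : M, π (φ m) = ψ (π m) := by
    intro m
    show π (φ m) = π (φ (Function.surjInv H.set.surj (π m)))
    exact hker _ _ (Function.surjInv_eq H.set.surj (π m)).symm
  have hT : ∀ r ∈ T, ψ r ∈ T := by
    intro r hr
    have := H.out g hg (w π T r) (φ (w π T r)) (hφ _) (by rw [H.pi_W hr]; exact hr)
    rwa [hψ, H.pi_W hr] at this
  refine ⟨ψ r, hT r hr, ?_⟩
  exact congrArg Subtype.val (w_aut H.set.cover H.roots φ ψ hψ hT hr)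

/-- `Cn t x` does not depend on the conjugating element -/
theorem Cn_t {x : G} (h : Cn t π T t x) : ∃ r ∈ T, x = W π T r := by
  obtain ⟨g, hg, r, hr, rfl⟩ := h
  obtain ⟨r', hr', h'⟩ := H.W_conj_out (g := g) (mul_inv_eq_iff_eq_mul.1 hg) hr
  exact ⟨r', hr', h'⟩

theorem Cn_conj {g x : G} (h : Cn t π T (g * t * g⁻¹) x) :
    ∃ r ∈ T, x = g * W π T r * g⁻¹ := by
  have h1 := h.conj g⁻¹
  rw [show g⁻¹ * (g * t * g⁻¹) * g⁻¹⁻¹ = t by group] at h1
  obtain ⟨r, hr, he⟩ := H.Cn_t h1
  refine ⟨r, hr, ?_⟩
  rw [← he]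
  group

theorem Nb_conj {g x : G} (h : Nb t π T (g * t * g⁻¹) x) :
    ∃ r ∈ T, x = g * (t * W π T r) * g⁻¹ := by
  rw [nb_iff H.tt] at h
  obtain ⟨r, hr, he⟩ := H.Cn_conj h
  refine ⟨r, hr, ?_⟩
  have : x = (g * t * g⁻¹)⁻¹ * (g * W π T r * g⁻¹) := by rw [← he]; group
  rw [this]
  calc (g * t * g⁻¹)⁻¹ * (g * W π T r * g⁻¹) = g * (t⁻¹ * W π T r) * g⁻¹ := by group
    _ = _ := by rw [H.tinv]

end basic

/-- full preimage in `G` of a subgroup of `E` -/
def pre (π : M →* E) (X : Subgroup E) : Subgroup G := (X.comap π).map M.subtype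

theorem mem_pre {X : Subgroup E} {g : G} : g ∈ pre π X ↔ ∃ h : g ∈ M, π ⟨g, h⟩ ∈ X := by
  rw [pre, Subgroup.mem_map]
  constructor
  · rintro ⟨x, hx, rfl⟩
    exact ⟨x.2, hx⟩
  · rintro ⟨h, hx⟩
    exact ⟨⟨g, h⟩, hx, rfl⟩

theorem pre_mem_iff {X : Subgroup E} {m : M} : (m : G) ∈ pre π X ↔ π m ∈ X := by
  rw [mem_pre]
  exact ⟨fun ⟨_, h⟩ => h, fun h => ⟨m.2, h⟩⟩

theorem pre_mono {X Y : Subgroup E} (h : X ≤ Y) : (pre π X : Subgroup G) ≤ pre π Y := by
  intro g hg
  obtain ⟨h1, h2⟩ := mem_pre.1 hg
  exact mem_pre.2 ⟨h1, h h2⟩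

theorem pre_le {X : Subgroup E} : (pre π X : Subgroup G) ≤ M := fun _ hg => (mem_pre.1 hg).1

section two

variable (H : Hyp t M π T R S b a c)
include H

theorem t_mem_pre (X : Subgroup E) : t ∈ pre π X :=
  mem_pre.2 ⟨H.set.mem, by
    have : π ⟨t, H.set.mem⟩ = 1 := H.set.cover.map_t
    rw [this]; exact X.one_mem⟩

/-- the centraliser of the canonical lift -/
theorem mem_K {r : E} (hr : r ∈ T) {g : G} :
    g ∈ pre π (Subgroup.centralizer ({r} : Set E)) ↔ g ∈ M ∧ g * W π T r = W π T r * g := by
  constructor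
  · intro hg
    obtain ⟨h1, h2⟩ := mem_pre.1 hg
    have := (mem_centralizer_w H.set.cover H.roots hr ⟨g, h1⟩).2 h2
    exact ⟨h1, (congrArg Subtype.val (Subgroup.mem_centralizer_iff.1 this _ rfl)).symm⟩
  · rintro ⟨h1, h2⟩
    refine mem_pre.2 ⟨h1, (mem_centralizer_w H.set.cover H.roots hr ⟨g, h1⟩).1 ?_⟩
    rw [Subgroup.mem_centralizer_iff]
    rintro _ rfl
    exact Subtype.ext h2.symm

theorem R_mem_K {x : E} (hx : x ∈ S) : x ∈ Subgroup.centralizer ({b} : Set E) := by
  rw [Subgroup.mem_centralizer_iff]
  rintro _ rfl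
  exact (H.flag.S_le x hx).symm

theorem S_le_K : (pre π S : Subgroup G) ≤ pre π (Subgroup.centralizer ({b} : Set E)) :=
  pre_mono fun _ hx => H.R_mem_K hx

theorem R_le_S : (pre π R : Subgroup G) ≤ pre π S := pre_mono H.flag.R_le

theorem K_comm_t {k : G} (hk : k ∈ pre π (Subgroup.centralizer ({b} : Set E))) : k * t = t * k :=
  H.t_comm (pre_le hk)

theorem K_comm_z {k : G} (hk : k ∈ pre π (Subgroup.centralizer ({b} : Set E))) :
    k * W π T b = W π T b * k := ((H.mem_K H.flag.b_mem).1 hk).2

/-- if a conjugate of `K₀ = C_M(w b)` lies in `C_G(t)`, then in `M` -/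
theorem perf' {g : G} (hg : ∀ k ∈ pre π (Subgroup.centralizer ({b} : Set E)),
    g * k * g⁻¹ * t = t * (g * k * g⁻¹)) {k : G}
    (hk : k ∈ pre π (Subgroup.centralizer ({b} : Set E))) : g * k * g⁻¹ ∈ M := by
  by_contra hcon
  apply H.perf ((M.comap (MulAut.conj g).toMonoidHom).comap M.subtype)
  rw [Subgroup.relIndex_eq_two_iff_exists_notMem_and]
  obtain ⟨hkM, hk2⟩ := (H.mem_K H.flag.b_mem).1 hk
  have memc : ∀ m : M, m ∈ Subgroup.centralizer ({w π T b} : Set M) ↔
      (m : G) ∈ pre π (Subgroup.centralizer ({b} : Set E)) := by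
    intro m
    rw [mem_centralizer_w H.set.cover H.roots H.flag.b_mem, pre_mem_iff]
  refine ⟨⟨k, hkM⟩, (memc _).2 hk, hcon, ?_⟩
  intro m hm
  rw [memc] at hm
  by_cases h1 : g * m * g⁻¹ ∈ M
  · right; exact h1
  · left
    show g * (m * k) * g⁻¹ ∈ M
    rw [show g * (m * k) * g⁻¹ = g * m * g⁻¹ * (g * k * g⁻¹) by group]
    exact H.set.index _ _ (hg _ hm) (hg _ hk) h1 hcon

theorem z_ne_one : (W π T b : G) ≠ 1 := fun h =>
  w_ne_one H.set.cover H.roots H.flag.b_mem (Subtype.ext h)

theorem z_ne_t : (W π T b : G) ≠ t := by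
  intro h
  have h1 : w π T b = H.set.z := Subtype.ext h
  have h2 := H.pi_W H.flag.b_mem
  rw [h1, H.set.cover.map_t] at h2
  exact H.roots.ne_one b H.flag.b_mem h2.symm

theorem eq_of_pi_one {g : G} (hg : g ∈ M) (h : π ⟨g, hg⟩ = 1) : g = 1 ∨ g = t :=
  (H.set.ker _).1 h

theorem eq_of_pi {g g' : G} (hg : g ∈ M) (hg' : g' ∈ M) (h : π ⟨g, hg⟩ = π ⟨g', hg'⟩) :
    g = g' ∨ g = t * g' := by
  rcases H.set.cover.eq_or h with h1 | h1
  · exact Or.inl (congrArg Subtype.val h1)
  · exact Or.inr (congrArg Subtype.val h1)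

/-- the centre of `S₀` -/
theorem S_center {x : G} (hx : x ∈ pre π S) (h : ∀ y ∈ pre π S, y * x = x * y) :
    x = 1 ∨ x = t ∨ x = W π T b ∨ x = t * W π T b := by
  obtain ⟨hxM, hxS⟩ := mem_pre.1 hx
  have h1 : π ⟨x, hxM⟩ = 1 ∨ π ⟨x, hxM⟩ = b := by
    apply H.flag.S_cen _ hxS
    intro y hy
    obtain ⟨m, rfl⟩ := H.set.surj y
    have := h m (pre_mem_iff.2 hy)
    rw [← map_mul, ← map_mul]
    congr 1
    exact Subtype.ext this
  rcases h1 with h1 | h1
  · rcases H.eq_of_pi_one hxM h1 with h2 | h2
    · exact Or.inl h2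
    · exact Or.inr (Or.inl h2)
  · have h2 : π ⟨x, hxM⟩ = π ⟨W π T b, mem_W b⟩ := by
      rw [h1]; exact (H.pi_W H.flag.b_mem).symm
    rcases H.eq_of_pi _ _ h2 with h3 | h3
    · exact Or.inr (Or.inr (Or.inl h3))
    · exact Or.inr (Or.inr (Or.inr h3))

theorem z_mem_S : (W π T b : G) ∈ pre π S := by
  obtain ⟨x, hx, -, y, hy, -, h⟩ := H.flag.R_non
  have hb : b ∈ S := by
    rw [← h, commutatorElement_def]
    exact H.flag.R_le (R.mul_mem (R.mul_mem (R.mul_mem hx hy) (R.inv_mem hx)) (R.inv_mem hy))
  refine mem_pre.2 ⟨mem_W b, ?_⟩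
  have := H.pi_W H.flag.b_mem
  rw [show (⟨W π T b, mem_W b⟩ : M) = w π T b from rfl, this]
  exact hb

/-- Sylow: if `t` is conjugate to an element `u` centralised by `K₀`, then by an element
normalising `S₀`. -/
theorem exists_norm [Finite G] {u : G}
    (hu : ∀ k ∈ pre π (Subgroup.centralizer ({b} : Set E)), k * u = u * k)
    (hg : ∃ g : G, g * t * g⁻¹ = u) :
    ∃ n : G, n * t * n⁻¹ = u ∧ ∀ x, x ∈ pre π S ↔ n * x * n⁻¹ ∈ pre π S := by
  classical
  obtain ⟨g, rfl⟩ := hg
  have h1 : ∀ k ∈ pre π (Subgroup.centralizer ({b} : Set E)), g⁻¹ * k * g ∈ M := by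
    intro k hk
    have := H.perf' (g := g⁻¹) (fun k hk => by
      have h2 := hu k hk
      calc g⁻¹ * k * g⁻¹⁻¹ * t = g⁻¹ * (k * (g * t * g⁻¹)) * g := by group
        _ = g⁻¹ * (g * t * g⁻¹ * k) * g := by rw [h2]
        _ = t * (g⁻¹ * k * g⁻¹⁻¹) := by group) hk
    simpa using this
  have : Fact (Nat.Prime 2) := ⟨Nat.prime_two⟩
  -- the Sylow subgroup `P`
  have hP1 : IsPGroup 2 (S.comap π) := by
    apply H.flag.S_two.comap_of_ker_isPGroup
    intro x
    refine ⟨1, ?_⟩
    have hx : π x = 1 := x.2
    apply Subtype.ext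
    show (x : M) ^ 2 ^ 1 = 1
    rcases (H.set.cover.ker _).1 hx with h | h
    · rw [h, one_pow]
    · rw [h, pow_one, pow_two, H.set.cover.t_mul_t]
  have hP2 : ¬ 2 ∣ (S.comap π).index := by
    rw [Subgroup.index_comap_of_surjective _ H.set.surj]
    exact H.flag.S_odd
  set P : Sylow 2 M := hP1.toSylow hP2 with hP
  let Q2 : Subgroup M := ((pre π S).comap (MulAut.conj g).toMonoidHom).comap M.subtype
  have memQ2 : ∀ m : M, m ∈ Q2 ↔ g * m * g⁻¹ ∈ pre π S := fun _ => Iff.rfl
  have hcard : Nat.card Q2 = Nat.card (S.comap π) := by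
    have e1 : Nat.card (pre π S) = Nat.card (S.comap π) :=
      Subgroup.card_map_of_injective M.subtype_injective
    rw [← e1]
    refine Nat.card_congr (Equiv.ofBijective
      (fun x : Q2 => (⟨g * x * g⁻¹, (memQ2 _).1 x.2⟩ : pre π S)) ⟨?_, ?_⟩)
    · intro x y hxy
      have h3 : g * (x : M) * g⁻¹ = g * (y : M) * g⁻¹ := congrArg Subtype.val hxy
      have h4 : (((x : M) : G)) = ((y : M) : G) := by
        have := congrArg (fun z => g⁻¹ * z * g) h3
        simpa only [mul_assoc, _root_.SetLike.coe_eq_coe, _root_.inv_mul_cancel_left, _root_.inv_mul_cancel, _root_.mul_one] using this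
      exact Subtype.ext (Subtype.ext h4)
    · rintro ⟨y, hy⟩
      have h5 := h1 y (H.S_le_K hy)
      refine ⟨⟨⟨g⁻¹ * y * g, h5⟩, (memQ2 _).2 ?_⟩, ?_⟩
      · show g * (g⁻¹ * y * g) * g⁻¹ ∈ pre π S
        rw [show g * (g⁻¹ * y * g) * g⁻¹ = y by group]
        exact hy
      · apply Subtype.ext
        show g * (g⁻¹ * y * g) * g⁻¹ = y
        group
  have hcard' : Nat.card Q2 = 2 ^ (Nat.card M).factorization 2 := by
    rw [hcard]
    exact P.card_eq_multiplicity
  obtain ⟨m, hm⟩ := MulAction.exists_smul_eq M P (Sylow.ofCard Q2 hcard')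
  have hm' : ∀ x : M, x ∈ S.comap π ↔ m * x * m⁻¹ ∈ Q2 := by
    intro x
    have h6 : (MulAut.conj m • ((P : Subgroup M) : Set M)) = (Q2 : Set M) := by
      rw [← Sylow.coe_ofCard Q2 hcard', ← hm]
      rfl
    have h7 : m * x * m⁻¹ ∈ (Q2 : Set M) ↔ x ∈ ((P : Subgroup M) : Set M) := by
      rw [← h6]
      have : m * x * m⁻¹ = MulAut.conj m • x := rfl
      rw [this, Set.smul_mem_smul_set_iff]
    exact h7.symm
  refine ⟨g * m, ?_, ?_⟩
  · have h8 : (m : G) * t * (m : G)⁻¹ = t := by
      rw [H.t_comm m.2]; group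
    calc g * m * t * (g * m)⁻¹ = g * (m * t * (m : G)⁻¹) * g⁻¹ := by group
      _ = g * t * g⁻¹ := by rw [h8]
  · intro x
    constructor
    · intro hx
      obtain ⟨hxM, hxS⟩ := mem_pre.1 hx
      have := (memQ2 _).1 ((hm' ⟨x, hxM⟩).1 hxS)
      rw [show g * m * x * (g * m)⁻¹ = g * (m * x * (m : G)⁻¹) * g⁻¹ by group]
      exact this
    · intro hx
      have h9 := h1 _ (H.S_le_K hx)
      have h10 : (m : G) * x * (m : G)⁻¹ ∈ M := by
        rw [show (m : G) * x * (m : G)⁻¹ = g⁻¹ * (g * m * x * (g * m)⁻¹) * g by group]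
        exact h9
      have hxM : x ∈ M := by
        have := M.mul_mem (M.mul_mem (M.inv_mem m.2) h10) m.2
        simpa [mul_assoc] using this
      refine mem_pre.2 ⟨hxM, (hm' ⟨x, hxM⟩).2 ((memQ2 _).2 ?_)⟩
      show g * (m * x * (m : G)⁻¹) * g⁻¹ ∈ pre π S
      rw [show g * (m * x * (m : G)⁻¹) * g⁻¹ = g * m * x * (g * m)⁻¹ by group]
      exact hx

theorem pre_two {X : Subgroup E} (hX : IsPGroup 2 X) : IsPGroup 2 (pre π X : Subgroup G) := by
  have hP1 : IsPGroup 2 (X.comap π) := by
    apply hX.comap_of_ker_isPGroup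
    intro x
    refine ⟨1, ?_⟩
    have hx : π x = 1 := x.2
    apply Subtype.ext
    show (x : M) ^ 2 ^ 1 = 1
    rcases (H.set.cover.ker _).1 hx with h | h
    · rw [h, one_pow]
    · rw [h, pow_one, pow_two, H.set.cover.t_mul_t]
  exact hP1.map _

/-- commutators in `Q₀` -/
theorem Q_comm {x y : G} (hx : x ∈ pre π R) (hy : y ∈ pre π R) : ⁅x, y⁆ = 1 ∨ ⁅x, y⁆ = W π T b := by
  set X : Set M := {m | ∃ r ∈ (R : Set E) ∩ T, m = w π T r} ∪ {H.set.z} with hX
  have hgen : ∀ e ∈ Subgroup.closure ((R : Set E) ∩ T), ∀ m : M, π m = e →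
      m ∈ Subgroup.closure X := by
    intro e he
    have hz : H.set.z ∈ Subgroup.closure X := Subgroup.subset_closure (Or.inr rfl)
    have lift : ∀ m m' : M, π m = π m' → m' ∈ Subgroup.closure X → m ∈ Subgroup.closure X := by
      intro m m' h hm'
      rcases H.set.cover.eq_or h with h1 | h1
      · rw [h1]; exact hm'
      · rw [h1]; exact (Subgroup.closure X).mul_mem hz hm'
    induction he using Subgroup.closure_induction with
    | mem r hr =>
      intro m hm
      refine lift m (w π T r) ?_ (Subgroup.subset_closure (Or.inl ⟨r, hr, rfl⟩))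
      rw [hm, H.pi_W hr.2]
    | one =>
      intro m hm
      exact lift m 1 (by rw [hm, map_one]) (Subgroup.one_mem _)
    | mul e e' _ _ ih ih' =>
      intro m hm
      obtain ⟨m1, rfl⟩ := H.set.surj e
      obtain ⟨m2, rfl⟩ := H.set.surj e'
      exact lift m (m1 * m2) (by rw [hm, map_mul])
        (Subgroup.mul_mem _ (ih m1 rfl) (ih' m2 rfl))
    | inv e _ ih =>
      intro m hm
      obtain ⟨m1, rfl⟩ := H.set.surj e
      exact lift m m1⁻¹ (by rw [hm, map_inv]) (Subgroup.inv_mem _ (ih m1 rfl))
  have hb := H.flag.b_mem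
  have hcomm := comm_closure (z := w π T b) (X := X) ?_ (w_sq H.set.cover H.roots hb) ?_
  · obtain ⟨hxM, hxR⟩ := mem_pre.1 hx
    obtain ⟨hyM, hyR⟩ := mem_pre.1 hy
    have := hcomm ⟨x, hxM⟩ (hgen _ (H.flag.R_gen hxR) _ rfl) ⟨y, hyM⟩
      (hgen _ (H.flag.R_gen hyR) _ rfl)
    rcases this with h | h
    · exact Or.inl (congrArg Subtype.val h)
    · exact Or.inr (congrArg Subtype.val h)
  · rintro x (⟨r, hr, rfl⟩ | rfl)
    · exact w_comm H.set.cover H.roots hr.2 hb (H.flag.S_le _ (H.flag.R_le hr.1))
    · exact (H.set.cover.central _).symm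
  · rintro x (⟨r, hr, rfl⟩ | rfl) y (⟨s, hs, rfl⟩ | rfl)
    · rcases H.flag.R_comm r hr.1 hr.2 s hs.1 hs.2 with h | h
      · left
        rw [commutatorElement_def, w_comm H.set.cover H.roots hr.2 hs.2 h]; group
      · right
        have := w_commutator H.set.cover H.roots (x := w π T r) (y := w π T s)
          (by rw [H.pi_W hr.2]; exact hr.2) (by rw [H.pi_W hs.2]; exact hs.2)
          (by rw [H.pi_W hr.2, H.pi_W hs.2, h]; exact hb)
        rw [← this, H.pi_W hr.2, H.pi_W hs.2, h]
    · left
      rw [commutatorElement_def, H.set.cover.central]; group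
    · left
      rw [commutatorElement_def, ← H.set.cover.central]; group
    · left
      rw [commutatorElement_def]; group

/-- a noncommuting pair in `Q₀` -/
theorem Q_non : ∃ x ∈ pre π R, ∃ y ∈ pre π R, ⁅x, y⁆ = (W π T b : G) := by
  obtain ⟨r, hr, hrT, s, hs, hsT, h⟩ := H.flag.R_non
  refine ⟨W π T r, ?_, W π T s, ?_, ?_⟩
  · exact pre_mem_iff.2 (by rw [H.pi_W hrT]; exact hr)
  · exact pre_mem_iff.2 (by rw [H.pi_W hsT]; exact hs)
  · have := w_commutator H.set.cover H.roots (x := w π T r) (y := w π T s)
      (by rw [H.pi_W hrT]; exact hrT) (by rw [H.pi_W hsT]; exact hsT)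
      (by rw [H.pi_W hrT, H.pi_W hsT, h]; exact H.flag.b_mem)
    rw [H.pi_W hrT, H.pi_W hsT, h] at this
    exact (congrArg Subtype.val this).symm

end two

/-- `n` normalises `S₀` -/
def Nn (π : M →* E) (S : Subgroup E) (n : G) : Prop := ∀ x : G, x ∈ pre π S ↔ n * x * n⁻¹ ∈ pre π S

theorem Nn.inv {n : G} (h : Nn π S n) : Nn π S n⁻¹ := by
  intro x
  have := h (n⁻¹ * x * n)
  rw [show n * (n⁻¹ * x * n) * n⁻¹ = x by group] at this
  rw [inv_inv]
  exact this.symm

section three

variable (H : Hyp t M π T R S b a c)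
include H

/-- `n` permutes the centre of `S₀` -/
theorem Nn_center {n : G} (hn : Nn π S n) {x : G}
    (hx : x = 1 ∨ x = t ∨ x = W π T b ∨ x = t * W π T b) :
    n * x * n⁻¹ = 1 ∨ n * x * n⁻¹ = t ∨ n * x * n⁻¹ = W π T b ∨ n * x * n⁻¹ = t * W π T b := by
  have ht : t ∈ pre π S := H.t_mem_pre S
  have hxS : x ∈ pre π S := by
    rcases hx with rfl | rfl | rfl | rfl
    · exact Subgroup.one_mem _
    · exact ht
    · exact H.z_mem_S
    · exact Subgroup.mul_mem _ ht H.z_mem_S
  have hxc : ∀ k ∈ pre π S, k * x = x * k := by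
    intro k hk
    have hk' := H.S_le_K hk
    have h1 := H.K_comm_t hk'
    have h2 := H.K_comm_z hk'
    rcases hx with rfl | rfl | rfl | rfl
    · simp
    · exact h1
    · exact h2
    · rw [← mul_assoc, h1, mul_assoc, h2, mul_assoc]
  apply H.S_center ((hn x).1 hxS)
  intro y hy
  have h3 := (hn.inv y).1 hy
  rw [inv_inv] at h3
  have h4 := hxc _ h3
  calc y * (n * x * n⁻¹) = n * (n⁻¹ * y * n * x) * n⁻¹ := by group
    _ = n * (x * (n⁻¹ * y * n)) * n⁻¹ := by rw [h4]
    _ = n * x * n⁻¹ * y := by group

/-- `n` normalises `K₀` -/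
theorem Nn_K {n : G} (hn : Nn π S n) {k : G} (hk : k ∈ pre π (Subgroup.centralizer ({b} : Set E))) :
    n * k * n⁻¹ ∈ pre π (Subgroup.centralizer ({b} : Set E)) := by
  have key : ∀ k ∈ pre π (Subgroup.centralizer ({b} : Set E)), ∀ x : G,
      (x = 1 ∨ x = t ∨ x = W π T b ∨ x = t * W π T b) → n * k * n⁻¹ * x = x * (n * k * n⁻¹) := by
    intro k hk x hx
    have h1 := H.Nn_center hn.inv hx
    rw [inv_inv] at h1
    have h2 : k * (n⁻¹ * x * n) = n⁻¹ * x * n * k := by
      have e1 := H.K_comm_t hk
      have e2 := H.K_comm_z hk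
      rcases h1 with h | h | h | h <;> rw [h]
      · simp
      · exact e1
      · exact e2
      · rw [← mul_assoc, e1, mul_assoc, e2, mul_assoc]
    calc n * k * n⁻¹ * x = n * (k * (n⁻¹ * x * n)) * n⁻¹ := by group
      _ = n * (n⁻¹ * x * n * k) * n⁻¹ := by rw [h2]
      _ = x * (n * k * n⁻¹) := by group
  rw [H.mem_K H.flag.b_mem]
  exact ⟨H.perf' (fun k hk => key k hk t (Or.inr (Or.inl rfl))) hk,
    key k hk _ (Or.inr (Or.inr (Or.inl rfl)))⟩

/-- `n` normalises `Q₀` -/
theorem Nn_Q {n : G} (hn : Nn π S n) {x : G} (hx : x ∈ pre π R) : n * x * n⁻¹ ∈ pre π R := by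
  set N : Subgroup E := (((pre π R).map (MulAut.conj n).toMonoidHom).comap M.subtype).map π with hN
  have memN : ∀ e : E, e ∈ N ↔ ∃ m : M, (∃ q ∈ pre π R, n * q * n⁻¹ = m) ∧ π m = e := by
    intro e
    rw [hN, Subgroup.mem_map]
    constructor
    · rintro ⟨m, hm, he⟩
      obtain ⟨q, hq, h⟩ := hm
      exact ⟨m, ⟨q, hq, h⟩, he⟩
    · rintro ⟨m, ⟨q, hq, h⟩, he⟩
      exact ⟨m, ⟨q, hq, h⟩, he⟩
  have hNK : ∀ q ∈ pre π R, n * q * n⁻¹ ∈ pre π (Subgroup.centralizer ({b} : Set E)) :=
    fun q hq => H.Nn_K hn (H.S_le_K (H.R_le_S hq))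
  have hNR : N ≤ R := by
    apply H.flag.R_max
    · intro e he
      obtain ⟨m, ⟨q, hq, h⟩, rfl⟩ := (memN e).1 he
      have := hNK q hq
      rw [h, pre_mem_iff, Subgroup.mem_centralizer_iff] at this
      exact (this b rfl).symm
    · rw [hN]
      apply IsPGroup.map
      apply IsPGroup.comap_of_injective _ _ M.subtype_injective
      apply IsPGroup.map
      exact H.pre_two (H.flag.S_two.to_le H.flag.R_le)
    · intro y hy e he
      obtain ⟨m, ⟨q, hq, h⟩, rfl⟩ := (memN e).1 he
      obtain ⟨k, rfl⟩ := H.set.surj y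
      rw [memN]
      have hk : (k : G) ∈ pre π (Subgroup.centralizer ({b} : Set E)) := by
        rw [pre_mem_iff, Subgroup.mem_centralizer_iff]
        rintro _ rfl
        exact hy.symm
      -- `n⁻¹ k n ∈ K₀` normalises `Q₀`
      have hk' := H.Nn_K hn.inv hk
      rw [inv_inv] at hk'
      refine ⟨k * m * k⁻¹, ⟨n⁻¹ * k * n * q * (n⁻¹ * k * n)⁻¹, ?_, ?_⟩, by simp only [_root_.map_mul, _root_.map_inv]⟩
      · obtain ⟨hM1, hC1⟩ := mem_pre.1 hk'
        obtain ⟨hM2, hC2⟩ := mem_pre.1 hq
        refine mem_pre.2 ⟨M.mul_mem (M.mul_mem hM1 hM2) (M.inv_mem hM1), ?_⟩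
        have h5 : π ⟨n⁻¹ * k * n, hM1⟩ * b = b * π ⟨n⁻¹ * k * n, hM1⟩ :=
          ((Subgroup.mem_centralizer_iff.1 hC1) b rfl).symm
        have h6 := H.flag.R_norm _ h5 _ hC2
        rw [← map_mul, ← map_inv, ← map_mul] at h6
        exact h6
      · show n * (n⁻¹ * k * n * q * (n⁻¹ * k * n)⁻¹) * n⁻¹ = k * m * (k : G)⁻¹
        rw [← h]; group
  have hM := pre_le (hNK x hx)
  refine mem_pre.2 ⟨hM, hNR ((memN _).2 ⟨⟨_, hM⟩, ⟨x, hx, rfl⟩, rfl⟩)⟩

/-- `n` centralises `z = w b` -/
theorem Nn_z {n : G} (hn : Nn π S n) : n * W π T b * n⁻¹ = W π T b := by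
  obtain ⟨x, hx, y, hy, h⟩ := H.Q_non
  have h1 := H.Q_comm (H.Nn_Q hn hx) (H.Nn_Q hn hy)
  have h2 : ⁅n * x * n⁻¹, n * y * n⁻¹⁆ = n * ⁅x, y⁆ * n⁻¹ := by
    simp only [commutatorElement_def]; group
  rw [h2, h] at h1
  rcases h1 with h1 | h1
  · exfalso
    apply H.z_ne_one
    have := congrArg (fun g => n⁻¹ * g * n) h1
    simpa [mul_assoc] using this
  · exact h1

/-- (a) for `b` -/
theorem not_z [Finite G] (g : G) : g * t * g⁻¹ ≠ W π T b := by
  intro h
  obtain ⟨n, hn1, hn⟩ := H.exists_norm (u := W π T b) (fun k hk => H.K_comm_z hk) ⟨g, h⟩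
  have h1 := H.Nn_z hn
  rw [← h1] at hn1
  have : t = W π T b := by
    have := congrArg (fun g => n⁻¹ * g * n) hn1
    simpa only [mul_assoc, _root_.inv_mul_cancel_left, _root_.inv_mul_cancel, _root_.mul_one] using this
  exact H.z_ne_t this.symm

/-- every root is conjugate to `b` -/
theorem exists_conj_b {r : E} (hr : r ∈ T) : ∃ m : M, (m : G) * W π T r * (m : G)⁻¹ = W π T b := by
  obtain ⟨e, he⟩ := H.roots.one r hr b H.flag.b_mem
  obtain ⟨m, rfl⟩ := H.set.surj e
  exact ⟨m, by rw [H.W_conj m hr, he]⟩

/-- (a): a canonical lift is never conjugate to `t` -/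
theorem w_not [Finite G] {r : E} (hr : r ∈ T) (g : G) : g * t * g⁻¹ ≠ W π T r := by
  intro h
  obtain ⟨m, hm⟩ := H.exists_conj_b hr
  apply H.not_z (m * g)
  rw [← hm, ← h]
  group

/-- all good lifts are conjugate to `t` -/
theorem lab_mem [Finite G] {r : E} (hr : r ∈ T) : ∃ g : G, g * t * g⁻¹ = t * W π T r := by
  obtain ⟨m, hm, g, hg⟩ := H.fuse
  have h1 : (m : G) = t * W π T (π m) := by
    rcases eq_w_or_lab H.set.cover H.roots hm with h | h
    · exfalso
      apply H.w_not hm g
      rw [hg]
      exact congrArg Subtype.val h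
    · exact congrArg Subtype.val h
  obtain ⟨e, he⟩ := H.roots.one (π m) hm r hr
  obtain ⟨k, rfl⟩ := H.set.surj e
  refine ⟨k * g, ?_⟩
  have h2 := H.W_conj k hm
  rw [he] at h2
  have h3 := H.t_comm k.2
  calc k * g * t * (k * g)⁻¹ = k * (g * t * g⁻¹) * (k : G)⁻¹ := by group
    _ = k * (t * W π T (π m)) * (k : G)⁻¹ := by rw [hg, ← h1]
    _ = (k * t) * W π T (π m) * (k : G)⁻¹ := by group
    _ = t * (k * W π T (π m) * (k : G)⁻¹) := by rw [h3]; group
    _ = t * W π T r := by rw [h2]

/-- the swap `t ↔ t z` -/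
theorem exists_swap [Finite G] : ∃ n : G, Nn π S n ∧ n * t * n⁻¹ = t * W π T b ∧
    n * (t * W π T b) * n⁻¹ = t ∧ n * W π T b * n⁻¹ = W π T b := by
  obtain ⟨n, hn1, hn⟩ := H.exists_norm (u := t * W π T b) (fun k hk => by
    have e1 := H.K_comm_t hk
    have e2 := H.K_comm_z hk
    rw [← mul_assoc, e1, mul_assoc, e2, mul_assoc]) (H.lab_mem H.flag.b_mem)
  have h1 := H.Nn_z hn
  refine ⟨n, hn, hn1, ?_, h1⟩
  calc n * (t * W π T b) * n⁻¹ = (n * t * n⁻¹) * (n * W π T b * n⁻¹) := by group
    _ = t * (W π T b * W π T b) := by rw [hn1, h1, mul_assoc]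
    _ = t := by rw [H.W_sq H.flag.b_mem, mul_one]

theorem lab_eq_of_pi {x : G} (hx : x ∈ M) {r : E} (hr : r ∈ T) (h : π ⟨x, hx⟩ = r) :
    x = W π T r ∨ x = t * W π T r := by
  have h2 : π ⟨x, hx⟩ = π ⟨W π T r, mem_W r⟩ := by rw [h]; exact (H.pi_W hr).symm
  exact H.eq_of_pi _ _ h2

theorem pi_lab {r : E} (hr : r ∈ T) (h : t * W π T r ∈ M) : π ⟨t * W π T r, h⟩ = r := by
  have : (⟨t * W π T r, h⟩ : M) = H.set.z * w π T r := rfl
  rw [this, H.set.cover.map_t_mul, H.pi_W hr]

theorem lab_in_M (r : E) : t * W π T r ∈ M := M.mul_mem H.set.mem (mem_W r)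

theorem W_inj {r s : E} (hr : r ∈ T) (hs : s ∈ T) (h : (W π T r : G) = W π T s) : r = s := by
  have h1 : w π T r = w π T s := Subtype.ext h
  rw [← H.pi_W hr, h1, H.pi_W hs]

theorem W_line {r s : E} (hr : r ∈ T) (hs : s ∈ T) (h : r * s ∈ T) :
    (W π T r : G) * W π T s = W π T (r * s) :=
  congrArg Subtype.val (w_line H.set.cover H.roots hr hs h)

theorem W_comm_iff {r s : E} (hr : r ∈ T) (hs : s ∈ T) :
    (W π T r : G) * W π T s = W π T s * W π T r ↔ r * s = s * r := by
  constructor
  · intro h
    have h1 : w π T r * w π T s = w π T s * w π T r := Subtype.ext h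
    have := congrArg π h1
    rwa [map_mul, map_mul, H.pi_W hr, H.pi_W hs] at this
  · intro h
    exact congrArg Subtype.val (w_comm H.set.cover H.roots hr hs h)

/-- conjugating good and canonical lifts by elements of `M` -/
theorem lab_conj_M (m : M) {r : E} (hr : r ∈ T) :
    (m : G) * (t * W π T r) * (m : G)⁻¹ = t * W π T (π m * r * (π m)⁻¹) := by
  rw [← H.W_conj m hr]
  have hmt := H.t_comm m.2
  calc (m : G) * (t * W π T r) * (m : G)⁻¹ = (m * t) * W π T r * (m : G)⁻¹ := by group
    _ = _ := by rw [hmt]; group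

/-- the collinear case for the flag -/
theorem nb_col_flag [Finite G] : Nb t π T (t * W π T b) (t * W π T c) := by
  obtain ⟨n, hn, h1, h2, h3⟩ := H.exists_swap
  have hc := H.flag.c_mem
  have hb := H.flag.b_mem
  have hbc : b ≠ c := by
    intro h
    apply H.roots.ne_one _ H.flag.bc
    rw [← h]; exact H.roots.sq b hb
  have hcQ : t * W π T c ∈ pre π R :=
    mem_pre.2 ⟨H.lab_in_M c, by rw [H.pi_lab hc]; exact H.flag.c_R⟩
  set x := n⁻¹ * (t * W π T c) * n with hx
  have hxQ : x ∈ pre π R := by
    have := H.Nn_Q hn.inv hcQ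
    rwa [inv_inv] at this
  have hxn : n * x * n⁻¹ = t * W π T c := by rw [hx]; group
  obtain ⟨hxM, hxR⟩ := mem_pre.1 hxQ
  -- conjugates of `x` under `S₀`
  have hfix : ∀ y ∈ pre π S, y * (t * W π T c) * y⁻¹ = t * W π T c ∨
      y * (t * W π T c) * y⁻¹ = W π T b * (t * W π T c) := by
    intro y hy
    obtain ⟨hyM, hyS⟩ := mem_pre.1 hy
    have e := H.lab_conj_M ⟨y, hyM⟩ hc
    change y * (t * W π T c) * y⁻¹ = _ at e
    rw [e]
    rcases H.flag.c_fix _ hyS with h | h
    · left; rw [h]
    · right
      rw [h, ← H.W_line hb hc H.flag.bc, ← mul_assoc, ← mul_assoc, H.W_comm_t]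
  have hfix' : ∀ y ∈ S, y * π ⟨x, hxM⟩ * y⁻¹ = π ⟨x, hxM⟩ ∨
      y * π ⟨x, hxM⟩ * y⁻¹ = b * π ⟨x, hxM⟩ := by
    intro y hy
    obtain ⟨m, rfl⟩ := H.set.surj y
    have hm : (m : G) ∈ pre π S := pre_mem_iff.2 hy
    have hm' := (hn m).1 hm
    have key : (m : G) * x * (m : G)⁻¹ = x ∨ (m : G) * x * (m : G)⁻¹ = W π T b * x := by
      have e : (m : G) * x * (m : G)⁻¹ =
          n⁻¹ * (n * m * n⁻¹ * (t * W π T c) * (n * m * n⁻¹)⁻¹) * n := by rw [hx]; group
      rw [e]
      rcases hfix _ hm' with h | h
      · left; rw [h]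
      · right
        rw [h]
        have h4 : n⁻¹ * W π T b * n = W π T b := by
          conv_lhs => rw [← h3]
          group
        calc n⁻¹ * (W π T b * (t * W π T c)) * n
            = (n⁻¹ * W π T b * n) * (n⁻¹ * (t * W π T c) * n) := by group
          _ = W π T b * x := by rw [h4]
    rcases key with h | h
    · left
      rw [← map_mul, ← map_inv, ← map_mul]
      congr 1
      exact Subtype.ext h
    · right
      have h5 : m * ⟨x, hxM⟩ * m⁻¹ = w π T b * ⟨x, hxM⟩ := Subtype.ext h
      rw [← map_mul, ← map_inv, ← map_mul, h5, map_mul, H.pi_W hb]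
  have hconj : ∀ y : G, y = n⁻¹ * (t * W π T c) * n → ∃ g : G, g * t * g⁻¹ = y := by
    rintro y rfl
    obtain ⟨g, hg⟩ := H.lab_mem hc
    exact ⟨n⁻¹ * g, by rw [← hg]; group⟩
  have fin : ∀ r ∈ T, x = t * W π T r → Nb t π T (t * W π T b) (t * W π T c) := by
    intro r hr h
    exact ⟨n, h1, r, hr, by rw [← h, hxn]⟩
  rcases H.flag.c_uni _ hxR hfix' with h | h | h | h
  · exfalso
    rcases H.eq_of_pi_one hxM h with h4 | h4
    · rw [h4] at hxn
      have h5 : t * W π T c = 1 := by rw [← hxn]; group
      have h6 : (W π T c : G) = t := by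
        rw [← inv_eq_of_mul_eq_one_right h5, H.tinv]
      have h7 : w π T c = H.set.z := Subtype.ext h6
      have h8 := H.pi_W hc
      rw [h7, H.set.cover.map_t] at h8
      exact H.roots.ne_one c hc h8.symm
    · rw [h4, h1] at hxn
      exact hbc (H.W_inj hb hc (mul_left_cancel hxn))
  · exfalso
    rcases H.lab_eq_of_pi hxM hb h with h4 | h4
    · rw [h4, h3] at hxn
      have h5 : w π T b = H.set.z * w π T c := Subtype.ext hxn
      have h6 := congrArg π h5
      rw [H.set.cover.map_t_mul, H.pi_W hb, H.pi_W hc] at h6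
      exact hbc h6
    · rw [h4, h2] at hxn
      have h5 : (W π T c : G) = 1 := by
        have := congrArg (fun g => t⁻¹ * g) hxn
        simpa using this.symm
      exact w_ne_one H.set.cover H.roots hc (Subtype.ext h5)
  · rcases H.lab_eq_of_pi hxM hc h with h4 | h4
    · exfalso
      obtain ⟨g, hg⟩ := hconj x rfl
      exact H.w_not hc g (hg.trans h4)
    · exact fin c hc h4
  · rcases H.lab_eq_of_pi hxM H.flag.bc h with h4 | h4
    · exfalso
      obtain ⟨g, hg⟩ := hconj x rfl
      exact H.w_not H.flag.bc g (hg.trans h4)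
    · exact fin _ H.flag.bc h4

/-- the collinear case -/
theorem nb_col [Finite G] {r s : E} (hr : r ∈ T) (hs : s ∈ T) (h : r * s ∈ T) :
    Nb t π T (t * W π T r) (t * W π T s) := by
  obtain ⟨e, h1, h2⟩ := H.roots.col b H.flag.b_mem c H.flag.c_mem r hr s hs H.flag.bc h
  obtain ⟨m, rfl⟩ := H.set.surj e
  have h3 := H.nb_col_flag.conj (m : G)
  rwa [H.lab_conj_M m H.flag.b_mem, H.lab_conj_M m H.flag.c_mem, h1, h2] at h3

/-- the dichotomy for the symplectic pair of the flag -/
theorem dicho [Finite G] : ∃ n : G, n * t * n⁻¹ = t * W π T b ∧ n * W π T b * n⁻¹ = W π T b ∧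
    (n * (t * W π T a) * n⁻¹ = t * W π T a ∨
      n * (t * W π T a) * n⁻¹ = W π T b * (t * W π T a)) := by
  obtain ⟨n, hn, h1, h2, h3⟩ := H.exists_swap
  have ha := H.flag.a_mem
  have hb := H.flag.b_mem
  have haM := H.lab_in_M a
  have haS : t * W π T a ∈ pre π S :=
    mem_pre.2 ⟨haM, by rw [H.pi_lab ha]; exact H.flag.a_S⟩
  set a' := t * W π T a with ha'
  have hpia : π ⟨a', haM⟩ = a := H.pi_lab ha haM
  -- `[a', S₀] ≤ Q₀`
  have hfix : ∀ y ∈ pre π S, y * a' * y⁻¹ * a'⁻¹ ∈ pre π R := by
    intro y hy
    obtain ⟨hyM, hyS⟩ := mem_pre.1 hy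
    refine mem_pre.2 ⟨M.mul_mem (M.mul_mem (M.mul_mem hyM haM) (M.inv_mem hyM)) (M.inv_mem haM), ?_⟩
    have := H.flag.a_fix _ hyS
    rw [← hpia, ← map_mul, ← map_inv, ← map_mul, ← map_inv, ← map_mul] at this
    exact this
  set x := n * a' * n⁻¹ with hx
  have hxS : x ∈ pre π S := (hn a').1 haS
  obtain ⟨hxM, hxS'⟩ := mem_pre.1 hxS
  have hfix' : ∀ y ∈ S, y * π ⟨x, hxM⟩ * y⁻¹ * (π ⟨x, hxM⟩)⁻¹ ∈ R := by
    intro y hy
    obtain ⟨m, rfl⟩ := H.set.surj y
    have hm : (m : G) ∈ pre π S := pre_mem_iff.2 hy
    have hm' := (hn.inv m).1 hm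
    rw [inv_inv] at hm'
    have h4 := H.Nn_Q hn (hfix _ hm')
    have e : n * (n⁻¹ * m * n * a' * (n⁻¹ * m * n)⁻¹ * a'⁻¹) * n⁻¹ =
        ((m * ⟨x, hxM⟩ * m⁻¹ * (⟨x, hxM⟩ : M)⁻¹ : M) : G) := by
      show _ = (m : G) * x * (m : G)⁻¹ * x⁻¹
      rw [hx]; group
    rw [e, pre_mem_iff, map_mul, map_mul, map_mul, map_inv, map_inv] at h4
    exact h4
  -- `x ∈ Q₀ a'`
  have hxa : π ⟨x, hxM⟩ * a⁻¹ ∈ R := by
    rcases H.flag.a_uni _ hxS' hfix' with h | h
    · exfalso
      have h4 : x ∈ pre π R := mem_pre.2 ⟨hxM, h⟩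
      have h5 := H.Nn_Q hn.inv h4
      rw [inv_inv, show n⁻¹ * x * n = a' by rw [hx]; group] at h5
      obtain ⟨_, h6⟩ := mem_pre.1 h5
      rw [hpia] at h6
      exact H.flag.a_R h6
    · exact h
  -- the element `x a'⁻¹` is fixed by the Borel group modulo `[Q₀, a']`
  have hvan := H.flag.a_van _ hxa (by
    intro y hyb hyS
    obtain ⟨k, rfl⟩ := H.set.surj y
    have hk : (k : G) ∈ pre π (Subgroup.centralizer ({b} : Set E)) := by
      rw [pre_mem_iff, Subgroup.mem_centralizer_iff]
      rintro _ rfl
      exact hyb.symm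
    have hkS : ∀ y ∈ pre π S, (k : G) * y * (k : G)⁻¹ ∈ pre π S := by
      intro y hy
      obtain ⟨hyM, hyS'⟩ := mem_pre.1 hy
      have := hyS _ hyS'
      rw [← map_mul, ← map_inv, ← map_mul] at this
      exact pre_mem_iff.2 this
    -- `k' = n⁻¹ k n`
    have hk' := H.Nn_K hn.inv hk
    rw [inv_inv] at hk'
    obtain ⟨hk'M, hk'C⟩ := mem_pre.1 hk'
    have hk'S : ∀ y ∈ S, π ⟨n⁻¹ * k * n, hk'M⟩ * y * (π ⟨n⁻¹ * k * n, hk'M⟩)⁻¹ ∈ S := by
      intro y hy
      obtain ⟨m, rfl⟩ := H.set.surj y
      have hm : (m : G) ∈ pre π S := pre_mem_iff.2 hy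
      have h5 := hkS _ ((hn m).1 hm)
      have h6 := (hn.inv _).1 h5
      rw [inv_inv] at h6
      have e : n⁻¹ * (k * (n * m * n⁻¹) * (k : G)⁻¹) * n =
          ((⟨n⁻¹ * k * n, hk'M⟩ * m * (⟨n⁻¹ * k * n, hk'M⟩ : M)⁻¹ : M) : G) := by
        show _ = n⁻¹ * k * n * m * (n⁻¹ * k * n)⁻¹
        group
      rw [e, pre_mem_iff, map_mul, map_mul, map_inv] at h6
      exact h6
    obtain ⟨q₁, hq₁, e₁⟩ := H.flag.a_bor _ hyb hyS
    obtain ⟨q₂, hq₂, e₂⟩ := H.flag.a_bor _
      ((Subgroup.mem_centralizer_iff.1 hk'C) b rfl).symm hk'S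
    obtain ⟨m₂, rfl⟩ := H.set.surj q₂
    have f₂ := H.lab_conj_M ⟨n⁻¹ * k * n, hk'M⟩ ha
    rw [e₂, ← H.lab_conj_M m₂ ha] at f₂
    change n⁻¹ * k * n * a' * (n⁻¹ * k * n)⁻¹ = m₂ * a' * (m₂ : G)⁻¹ at f₂
    have hm₂ : n * m₂ * n⁻¹ ∈ pre π R := H.Nn_Q hn (pre_mem_iff.2 hq₂)
    obtain ⟨hm₂M, hm₂R⟩ := mem_pre.1 hm₂
    apply H.flag.van H.roots hxa hq₁ hm₂R e₁
    have g1 : (k : G) * x * (k : G)⁻¹ = n * m₂ * n⁻¹ * x * (n * m₂ * n⁻¹)⁻¹ := by
      calc (k : G) * x * (k : G)⁻¹ = n * (n⁻¹ * k * n * a' * (n⁻¹ * k * n)⁻¹) * n⁻¹ := by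
            rw [hx]; group
        _ = n * (m₂ * a' * (m₂ : G)⁻¹) * n⁻¹ := by rw [f₂]
        _ = _ := by rw [hx]; group
    have g2 : k * ⟨x, hxM⟩ * k⁻¹ =
        ⟨n * m₂ * n⁻¹, hm₂M⟩ * ⟨x, hxM⟩ * (⟨n * m₂ * n⁻¹, hm₂M⟩ : M)⁻¹ := Subtype.ext g1
    have g3 := congrArg π g2
    rw [map_mul, map_mul, map_inv, map_mul, map_mul, map_inv] at g3
    exact g3)
  obtain ⟨q, hq, hvan⟩ := hvan
  obtain ⟨m, rfl⟩ := H.set.surj q
  have hmQ : (m : G) ∈ pre π R := pre_mem_iff.2 hq
  have hmK := H.S_le_K (H.R_le_S hmQ)
  have hmt := H.K_comm_t hmK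
  have hmz := H.K_comm_z hmK
  have hzt := H.W_comm_t (π := π) b
  have hzz := H.W_sq hb
  have htt := H.tt
  -- `x = e m a' m⁻¹` with `e ∈ {1, t, z, t z}`
  have hpx : π ⟨x, hxM⟩ = π (m * ⟨a', haM⟩ * m⁻¹) ∨
      π ⟨x, hxM⟩ = π (w π T b * (m * ⟨a', haM⟩ * m⁻¹)) := by
    rcases hvan with h | h
    · left
      rw [map_mul, map_mul, map_inv, hpia]
      rw [commutatorElement_def] at h
      calc π ⟨x, hxM⟩ = π ⟨x, hxM⟩ * a⁻¹ * a := by group
        _ = _ := by rw [h]; group
    · right
      rw [map_mul, map_mul, map_mul, map_inv, hpia, H.pi_W hb]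
      rw [commutatorElement_def] at h
      calc π ⟨x, hxM⟩ = π ⟨x, hxM⟩ * a⁻¹ * a := by group
        _ = _ := by rw [h]; group
  have hx4 : x = m * a' * (m : G)⁻¹ ∨ x = t * (m * a' * (m : G)⁻¹) ∨
      x = W π T b * (m * a' * (m : G)⁻¹) ∨ x = t * (W π T b * (m * a' * (m : G)⁻¹)) := by
    rcases hpx with h | h
    · rcases H.set.cover.eq_or h with h4 | h4
      · exact Or.inl (congrArg Subtype.val h4)
      · exact Or.inr (Or.inl (congrArg Subtype.val h4))
    · rcases H.set.cover.eq_or h with h4 | h4
      · exact Or.inr (Or.inr (Or.inl (congrArg Subtype.val h4)))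
      · exact Or.inr (Or.inr (Or.inr (congrArg Subtype.val h4)))
  obtain ⟨g₀, hg₀⟩ := H.lab_mem ha
  have hmt' : (m : G)⁻¹ * t = t * (m : G)⁻¹ := by
    rw [inv_mul_eq_iff_eq_mul, ← mul_assoc, hmt]; group
  have hmz' : (m : G)⁻¹ * W π T b = W π T b * (m : G)⁻¹ := by
    rw [inv_mul_eq_iff_eq_mul, ← mul_assoc, hmz]; group
  refine ⟨(m : G)⁻¹ * n, ?_, ?_, ?_⟩
  · calc (m : G)⁻¹ * n * t * ((m : G)⁻¹ * n)⁻¹ = (m : G)⁻¹ * (n * t * n⁻¹) * m := by group
      _ = ((m : G)⁻¹ * t) * W π T b * m := by rw [h1]; group
      _ = t * ((m : G)⁻¹ * W π T b) * m := by rw [hmt']; group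
      _ = t * W π T b := by rw [hmz']; group
  · calc (m : G)⁻¹ * n * W π T b * ((m : G)⁻¹ * n)⁻¹
        = (m : G)⁻¹ * (n * W π T b * n⁻¹) * m := by group
      _ = ((m : G)⁻¹ * W π T b) * m := by rw [h3]
      _ = W π T b := by rw [hmz']; group
  · have e0 : (m : G)⁻¹ * n * a' * ((m : G)⁻¹ * n)⁻¹ = (m : G)⁻¹ * x * m := by rw [hx]; group
    rw [e0]
    rcases hx4 with h | h | h | h
    · left; rw [h]; group
    · exfalso
      -- `W a` would be conjugate to `t`
      apply H.w_not ha ((m : G)⁻¹ * n * g₀)
      calc (m : G)⁻¹ * n * g₀ * t * ((m : G)⁻¹ * n * g₀)⁻¹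
          = (m : G)⁻¹ * n * (g₀ * t * g₀⁻¹) * ((m : G)⁻¹ * n)⁻¹ := by group
        _ = (m : G)⁻¹ * x * m := by rw [hg₀, ← e0]
        _ = ((m : G)⁻¹ * t) * (m * a' * (m : G)⁻¹) * m := by rw [h]; group
        _ = t * a' := by rw [hmt']; group
        _ = W π T a := by rw [ha', ← mul_assoc, htt, one_mul]
    · right
      rw [h]
      calc (m : G)⁻¹ * (W π T b * (m * a' * (m : G)⁻¹)) * m
          = ((m : G)⁻¹ * W π T b) * (m * a') := by group
        _ = _ := by rw [hmz']; group
    · exfalso
      apply H.w_not ha (n⁻¹ * m * g₀)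
      -- `n (W a) n⁻¹ = m a' m⁻¹`
      have e1 : n * W π T a * n⁻¹ = m * a' * (m : G)⁻¹ := by
        calc n * W π T a * n⁻¹ = n * (1 * W π T a) * n⁻¹ := by rw [one_mul]
          _ = (n * t * n⁻¹) * (n * (t * W π T a) * n⁻¹) := by rw [← htt]; group
          _ = t * W π T b * (t * (W π T b * (m * a' * (m : G)⁻¹))) := by rw [h1, ← ha', ← hx, h]
          _ = t * (W π T b * t) * W π T b * (m * a' * (m : G)⁻¹) := by group
          _ = (t * t) * (W π T b * W π T b) * (m * a' * (m : G)⁻¹) := by rw [hzt]; group
          _ = _ := by rw [htt, hzz, one_mul, one_mul]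
      calc n⁻¹ * m * g₀ * t * (n⁻¹ * m * g₀)⁻¹ = n⁻¹ * (m * (g₀ * t * g₀⁻¹) * (m : G)⁻¹) * n := by
            group
        _ = n⁻¹ * (n * W π T a * n⁻¹) * n := by rw [hg₀, ← ha', ← e1]
        _ = W π T a := by group

/-- pairs of distinct commuting roots: good neighbours in the collinear case, and in the symplectic
case as soon as this holds for the flag -/
theorem nb_of_flag [Finite G] (hgood : Nb t π T (t * W π T b) (t * W π T a)) {r s : E} (hr : r ∈ T)
    (hs : s ∈ T) (h : r * s = s * r) (hne : r ≠ s) : Nb t π T (t * W π T r) (t * W π T s) := by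
  by_cases hT : r * s ∈ T
  · exact H.nb_col hr hs hT
  · obtain ⟨e, h1, h2⟩ := H.roots.sym b H.flag.b_mem a H.flag.a_mem r hr s hs H.flag.a_ne.symm
      H.flag.ab.symm (by rw [← H.flag.ab]; exact H.flag.ab_not) hne h hT
    obtain ⟨m, rfl⟩ := H.set.surj e
    have h3 := hgood.conj (m : G)
    rwa [H.lab_conj_M m H.flag.b_mem, H.lab_conj_M m H.flag.a_mem, h1, h2] at h3

/-- the bad case: canonical lifts are inherited -/
theorem bad_step [Finite G] (hbad : Cn t π T (t * W π T b) (W π T a)) {c x y : G}
    (hx : Cn t π T c x) (hy : Cn t π T c y) (hxy : x * y = y * x) (hne : x ≠ y) :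
    Cn t π T (c * x) y := by
  obtain ⟨g, rfl, r, hr, rfl⟩ := hx
  obtain ⟨s, hs, rfl⟩ := H.Cn_conj hy
  have hcom : (W π T r : G) * W π T s = W π T s * W π T r := by
    have := congrArg (fun x => g⁻¹ * x * g) hxy
    simpa only [mul_assoc, _root_.inv_mul_cancel_left, _root_.inv_mul_cancel, _root_.mul_one] using this
  have hrs : r * s = s * r := (H.W_comm_iff hr hs).1 hcom
  have hrs' : r ≠ s := by rintro rfl; exact hne rfl
  have base : Cn t π T (t * W π T r) (W π T s) := by
    by_cases hT : r * s ∈ T
    · have hrr := H.roots.sq r hr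
      have h1 : r * (r * s) = s := by rw [← mul_assoc, hrr, one_mul]
      have h2 := H.nb_col hr hT (by rw [h1]; exact hs)
      rw [nb_iff H.tt] at h2
      have h3 : t * W π T r * (t * W π T (r * s)) = W π T s := by
        have e1 := H.W_comm_t (π := π) r
        rw [← H.W_line hr hs hT]
        calc t * W π T r * (t * (W π T r * W π T s))
            = t * (W π T r * t) * (W π T r * W π T s) := by group
          _ = (t * t) * (W π T r * W π T r) * W π T s := by rw [e1]; group
          _ = W π T s := by rw [H.tt, H.W_sq hr, one_mul, one_mul]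
      rwa [h3] at h2
    · obtain ⟨e, h1, h2⟩ := H.roots.sym b H.flag.b_mem a H.flag.a_mem r hr s hs H.flag.a_ne.symm
        H.flag.ab.symm (by rw [← H.flag.ab]; exact H.flag.ab_not) hrs' hrs hT
      obtain ⟨m, rfl⟩ := H.set.surj e
      have h3 := hbad.conj (m : G)
      rwa [H.lab_conj_M m H.flag.b_mem, H.W_conj m H.flag.a_mem, h1, h2] at h3
  have h4 := base.conj g
  rwa [show g * (t * W π T r) * g⁻¹ = g * t * g⁻¹ * (g * W π T r * g⁻¹) by group] at h4

theorem bad_chain [Finite G] (hbad : Cn t π T (t * W π T b) (W π T a)) (l : List G) :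
    ∀ c : G, (∃ g : G, g * t * g⁻¹ = c) → (∀ x ∈ l, Cn t π T c x) →
      l.Pairwise (fun x y => x * y = y * x ∧ x ≠ y) → ∃ g : G, g * t * g⁻¹ = c * l.prod := by
  induction l with
  | nil => intro c hc _ _; simpa only [_root_.List.prod_nil, _root_.mul_one] using hc
  | cons x l ih =>
    intro c hc hl hp
    rw [List.prod_cons, ← mul_assoc]
    rw [List.pairwise_cons] at hp
    apply ih (c * x) _ _ hp.2
    · obtain ⟨g, rfl, r, hr, rfl⟩ := hl x List.mem_cons_self
      obtain ⟨k, hk⟩ := H.lab_mem hr
      exact ⟨g * k, by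
        calc g * k * t * (g * k)⁻¹ = g * (k * t * k⁻¹) * g⁻¹ := by group
          _ = g * (t * W π T r) * g⁻¹ := by rw [hk]
          _ = _ := by group⟩
    · intro y hy
      exact H.bad_step hbad (hl x List.mem_cons_self) (hl y (List.mem_cons_of_mem _ hy))
        (hp.1 y hy).1 (hp.1 y hy).2

theorem not_bad [Finite G] : ¬ Cn t π T (t * W π T b) (W π T a) := by
  intro hbad
  obtain ⟨l, hl, hp, hprod⟩ := H.chain
  obtain ⟨g, hg⟩ := H.bad_chain hbad (l.map (W π T)) t ⟨1, by simp⟩
    (by
      intro x hx
      obtain ⟨r, hr, rfl⟩ := List.mem_map.1 hx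
      exact ⟨1, by simp, r, hl r hr, by simp⟩)
    (by
      rw [List.pairwise_map]
      apply hp.imp_of_mem
      intro r s hr hs h
      exact ⟨(H.W_comm_iff (hl r hr) (hl s hs)).2 h.1, fun h' => h.2 (H.W_inj (hl r hr) (hl s hs) h')⟩)
  have h1 : (l.map (W π T)).prod = t := by
    rw [← hprod]
    have : (l.map (W π T) : List G) = (l.map (w π T)).map M.subtype := by
      rw [List.map_map]; rfl
    rw [this, ← map_list_prod]
    rfl
  rw [h1, H.tt] at hg
  apply H.set.ne
  have := congrArg (fun x => g⁻¹ * x * g) hg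
  simpa [mul_assoc] using this

/-- the good case for the flag -/
theorem good_flag [Finite G] : Nb t π T (t * W π T b) (t * W π T a) := by
  obtain ⟨n, h1, h3, h | h⟩ := H.dicho
  · exact ⟨n, h1, a, H.flag.a_mem, h⟩
  · exfalso
    apply H.not_bad
    refine ⟨n, h1, a, H.flag.a_mem, ?_⟩
    calc n * W π T a * n⁻¹ = n * (1 * W π T a) * n⁻¹ := by rw [one_mul]
      _ = (n * t * n⁻¹) * (n * (t * W π T a) * n⁻¹) := by rw [← H.tt]; group
      _ = t * (W π T b * W π T b) * t * W π T a := by rw [h1, h]; group
      _ = W π T a := by rw [H.W_sq H.flag.b_mem, mul_one, H.tt, one_mul]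

/-- **(u1\*)**: two distinct commuting good lifts relative to `c` are good relative to each other -/
theorem closed [Finite G] {c x y : G} (hx : Nb t π T c x) (hy : Nb t π T c y) (hxy : x * y = y * x)
    (hne : x ≠ y) : Nb t π T x y := by
  obtain ⟨g, rfl, r, hr, rfl⟩ := hx
  obtain ⟨s, hs, rfl⟩ := H.Nb_conj hy
  have hcom : t * (W π T r : G) * (t * W π T s) = t * W π T s * (t * W π T r) := by
    have := congrArg (fun x => g⁻¹ * x * g) hxy
    simpa only [mul_assoc, _root_.mul_right_inj, _root_.inv_mul_cancel_left, _root_.inv_mul_cancel, _root_.mul_one] using this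
  have hcom' : (W π T r : G) * W π T s = W π T s * W π T r := by
    have e1 : ∀ u v : E, t * (W π T u : G) * (t * W π T v) = W π T u * W π T v := by
      intro u v
      calc t * (W π T u : G) * (t * W π T v) = t * (W π T u * t) * W π T v := by group
        _ = (t * t) * W π T u * W π T v := by rw [H.W_comm_t]; group
        _ = _ := by rw [H.tt, one_mul]
    rwa [e1, e1] at hcom
  have hrs : r * s = s * r := (H.W_comm_iff hr hs).1 hcom'
  have hrs' : r ≠ s := by rintro rfl; exact hne rfl
  exact (H.nb_of_flag H.good_flag hr hs hrs hrs').conj g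

end three

end Hyp

/-- The output of the fusion step in the form used by the identification (helper444's `FusW`). -/
theorem Hyp.fusW {G : Type u} [Group G] [Finite G] {E : Type v} [Group E] {t : G} {M : Subgroup G}
    {π : M →* E} {T : Set E} {R S : Subgroup E} {b a c : E} (H : Hyp t M π T R S b a c) :
    (∀ m : M, π m ∈ T → Xor (∃ g : G, g * t * g⁻¹ = m) (∃ g : G, g * t * g⁻¹ = t * m)) ∧
    (∀ g : G, g * t = t * g → ∀ m m' : M, (m' : G) = g * m * g⁻¹ → π m ∈ T → π m' ∈ T) ∧
    (∀ x y : M, π x ∈ T → π y ∈ T → x ≠ y → x * y = y * x → (∃ g : G, g * t * g⁻¹ = y) →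
      ∀ g : G, (x : G) = g * t * g⁻¹ → ∃ h : g⁻¹ * y * g ∈ M, π ⟨g⁻¹ * y * g, h⟩ ∈ T) := by
  have dich : ∀ m : M, π m ∈ T → (m : G) = W π T (π m) ∨ (m : G) = t * W π T (π m) := by
    intro m hm
    rcases eq_w_or_lab H.set.cover H.roots hm with h | h
    · exact Or.inl (congrArg Subtype.val h)
    · exact Or.inr (congrArg Subtype.val h)
  have good : ∀ m : M, π m ∈ T → (∃ g : G, g * t * g⁻¹ = m) → (m : G) = t * W π T (π m) := by
    rintro m hm ⟨g, hg⟩
    rcases dich m hm with h | h
    · exact absurd (hg.trans h) (H.w_not hm g)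
    · exact h
  refine ⟨?_, H.out, ?_⟩
  · intro m hm
    rcases dich m hm with h | h
    · right
      refine ⟨by rw [h]; exact H.lab_mem hm, ?_⟩
      rintro ⟨g, hg⟩
      exact H.w_not hm g (hg.trans h)
    · left
      refine ⟨by rw [h]; exact H.lab_mem hm, ?_⟩
      rintro ⟨g, hg⟩
      apply H.w_not hm g
      rw [hg, h, ← mul_assoc, H.tt, one_mul]
  · intro x y hx hy hne hxy hyD g hg
    have hx' := good x hx ⟨g, hg.symm⟩
    have hy' := good y hy hyD
    have n1 : Nb t π T t (x : G) := ⟨1, by simp, π x, hx, by rw [hx']; simp⟩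
    have n2 : Nb t π T t (y : G) := ⟨1, by simp, π y, hy, by rw [hy']; simp⟩
    have n3 := H.closed n1 n2 (congrArg Subtype.val hxy) (fun h => hne (Subtype.ext h))
    rw [hg] at n3
    obtain ⟨r, hr, h⟩ := H.Nb_conj n3
    have e : g⁻¹ * y * g = t * W π T r := by rw [h]; group
    have hM : g⁻¹ * y * g ∈ M := by rw [e]; exact H.lab_in_M r
    refine ⟨hM, ?_⟩
    have : (⟨g⁻¹ * y * g, hM⟩ : M) = ⟨t * W π T r, H.lab_in_M r⟩ := Subtype.ext e
    rw [this, H.pi_lab hr]
    exact hr

end Cfsg.Agent.BabyU.FusGood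

private theorem dce_ef6ea9b6e0ff : _root_.True := by
  try have : _root_.True := by simp only [_root_.Cfsg.Agent.BabyU.Setup.z.congr_simp]
  try have : _root_.True := by simp only [_root_.Cfsg.Agent.BabyU.FusGood.Hyp.pre.eq_1]
  exact _root_.True.intro
end

-- part: BabyU/Chain
section
set_option linter.all false
open scoped Cfsg.Agent.FastGrp

/-!
# U-B (S1662), fusion: `perf` and `chain` from the relations of the double cover

`m : Fin 10 → M` satisfies `ZRels m z` and lies over the class `T` of root involutions.  The seven nodes of an `E₇`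
subdiagram give `-1 ∈ W(E₇)` as ninth power of a Coxeter word and as product of seven commuting reflections.

* `perf`: the centraliser of a canonical lift has no subgroup of index two.
* `chain`: the canonical lifts of seven pairwise commuting different roots have product `z`.
-/

set_option autoImplicit false

namespace Cfsg.Agent.BabyU.Chain

open Cfsg.Agent.TwoESix.Cox10 Cfsg.Agent.TwoESix.Lift Cfsg.Agent.BabyU.Lab

/-! a faster evaluation of `Cox10.chk` -/

private def FvT : Type := ℤ → ℤ → ℤ → ℤ → ℤ → ℤ → ℤ → ℤ → ℤ → ℤ → List ℤ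

private noncomputable def fvStep (i : ℕ) (K : FvT) : FvT := fun a0 a1 a2 a3 a4 a5 a6 a7 a8 a9 =>
  (Bool.rec (motive := fun _ => List ℤ)
   (Bool.rec (motive := fun _ => List ℤ)
    (Bool.rec (motive := fun _ => List ℤ)
     (Bool.rec (motive := fun _ => List ℤ)
      (K a0 a1 a2 a3 a4 a5 a6 a7 a8 (Int.sub a8 a9))
      (K a0 a1 a2 a3 a4 a5 a6 a7 (Int.sub (Int.add a7 a9) a8) a9) (Nat.blt i 9))
     (K a0 a1 a2 a3 a4 a5 a6 (Int.sub (Int.add a3 a8) a7) a8 a9) (Nat.blt i 8))
    (Bool.rec (motive := fun _ => List ℤ)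
     (K a0 a1 a2 a3 a4 a5 (Int.sub a5 a6) a7 a8 a9)
     (K a0 a1 a2 a3 a4 (Int.sub (Int.add a4 a6) a5) a6 a7 a8 a9) (Nat.blt i 6)) (Nat.blt i 7))
   (Bool.rec (motive := fun _ => List ℤ)
    (Bool.rec (motive := fun _ => List ℤ)
     (Bool.rec (motive := fun _ => List ℤ)
      (K a0 a1 a2 a3 (Int.sub (Int.add a3 a5) a4) a5 a6 a7 a8 a9)
      (K a0 a1 a2 (Int.sub (Int.add (Int.add a2 a4) a7) a3) a4 a5 a6 a7 a8 a9) (Nat.blt i 4))
     (K a0 a1 (Int.sub (Int.add a1 a3) a2) a3 a4 a5 a6 a7 a8 a9) (Nat.blt i 3))
    (Bool.rec (motive := fun _ => List ℤ)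
     (K a0 (Int.sub (Int.add a0 a2) a1) a2 a3 a4 a5 a6 a7 a8 a9)
     (K (Int.sub a1 a0) a1 a2 a3 a4 a5 a6 a7 a8 a9) (Nat.blt i 1)) (Nat.blt i 2)) (Nat.blt i 5))

private noncomputable def fvAct (w : List (Fin 10)) : FvT → FvT :=
  List.rec (motive := fun _ => FvT → FvT) (fun K => K) (fun i _ ih K => ih (fvStep i.1 K)) w

private theorem fv_rows : Cfsg.Agent.ChevalleyStructure.CoxeterWordCheck.rows Cfsg.Agent.TwoESix.Cox10.A10 =
    [[2, -1, 0, 0, 0, 0, 0, 0, 0, 0],
     [-1, 2, -1, 0, 0, 0, 0, 0, 0, 0],
     [0, -1, 2, -1, 0, 0, 0, 0, 0, 0],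
     [0, 0, -1, 2, -1, 0, 0, -1, 0, 0],
     [0, 0, 0, -1, 2, -1, 0, 0, 0, 0],
     [0, 0, 0, 0, -1, 2, -1, 0, 0, 0],
     [0, 0, 0, 0, 0, -1, 2, 0, 0, 0],
     [0, 0, 0, -1, 0, 0, 0, 2, -1, 0],
     [0, 0, 0, 0, 0, 0, 0, -1, 2, -1],
     [0, 0, 0, 0, 0, 0, 0, 0, -1, 2]] := by decide +kernel

private theorem fv_step (i : Fin 10) (K : FvT) (F : List ℤ → List ℤ)
    (h : ∀ a0 a1 a2 a3 a4 a5 a6 a7 a8 a9 : ℤ, K a0 a1 a2 a3 a4 a5 a6 a7 a8 a9 = F [a0, a1, a2, a3, a4, a5, a6, a7, a8, a9]) (a0 a1 a2 a3 a4 a5 a6 a7 a8 a9 : ℤ) :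
    fvStep i.1 K a0 a1 a2 a3 a4 a5 a6 a7 a8 a9 = F (Cfsg.Agent.ChevalleyStructure.CoxeterWordCheck.reflList
      (Cfsg.Agent.ChevalleyStructure.CoxeterWordCheck.rows Cfsg.Agent.TwoESix.Cox10.A10) i.1 [a0, a1, a2, a3, a4, a5, a6, a7, a8, a9]) := by
  rw [fv_rows]
  obtain ⟨i, hi⟩ := i
  match i, hi with
  | 0, _ =>
    exact (h _ _ _ _ _ _ _ _ _ _).trans (congrArg (fun x : ℤ => F [x, a1, a2, a3, a4, a5, a6, a7, a8, a9])
      (show a1 - a0 = a0 - ((2) * a0 + ((-1) * a1 + ((0) * a2 + ((0) * a3 + ((0) * a4 + ((0) * a5 + ((0) * a6 + ((0) * a7 + ((0) * a8 + ((0) * a9 + 0)))))))))) by omega))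
  | 1, _ =>
    exact (h _ _ _ _ _ _ _ _ _ _).trans (congrArg (fun x : ℤ => F [a0, x, a2, a3, a4, a5, a6, a7, a8, a9])
      (show a0 + a2 - a1 = a1 - ((-1) * a0 + ((2) * a1 + ((-1) * a2 + ((0) * a3 + ((0) * a4 + ((0) * a5 + ((0) * a6 + ((0) * a7 + ((0) * a8 + ((0) * a9 + 0)))))))))) by omega))
  | 2, _ =>
    exact (h _ _ _ _ _ _ _ _ _ _).trans (congrArg (fun x : ℤ => F [a0, a1, x, a3, a4, a5, a6, a7, a8, a9])
      (show a1 + a3 - a2 = a2 - ((0) * a0 + ((-1) * a1 + ((2) * a2 + ((-1) * a3 + ((0) * a4 + ((0) * a5 + ((0) * a6 + ((0) * a7 + ((0) * a8 + ((0) * a9 + 0)))))))))) by omega))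
  | 3, _ =>
    exact (h _ _ _ _ _ _ _ _ _ _).trans (congrArg (fun x : ℤ => F [a0, a1, a2, x, a4, a5, a6, a7, a8, a9])
      (show a2 + a4 + a7 - a3 = a3 - ((0) * a0 + ((0) * a1 + ((-1) * a2 + ((2) * a3 + ((-1) * a4 + ((0) * a5 + ((0) * a6 + ((-1) * a7 + ((0) * a8 + ((0) * a9 + 0)))))))))) by omega))
  | 4, _ =>
    exact (h _ _ _ _ _ _ _ _ _ _).trans (congrArg (fun x : ℤ => F [a0, a1, a2, a3, x, a5, a6, a7, a8, a9])
      (show a3 + a5 - a4 = a4 - ((0) * a0 + ((0) * a1 + ((0) * a2 + ((-1) * a3 + ((2) * a4 + ((-1) * a5 + ((0) * a6 + ((0) * a7 + ((0) * a8 + ((0) * a9 + 0)))))))))) by omega))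
  | 5, _ =>
    exact (h _ _ _ _ _ _ _ _ _ _).trans (congrArg (fun x : ℤ => F [a0, a1, a2, a3, a4, x, a6, a7, a8, a9])
      (show a4 + a6 - a5 = a5 - ((0) * a0 + ((0) * a1 + ((0) * a2 + ((0) * a3 + ((-1) * a4 + ((2) * a5 + ((-1) * a6 + ((0) * a7 + ((0) * a8 + ((0) * a9 + 0)))))))))) by omega))
  | 6, _ =>
    exact (h _ _ _ _ _ _ _ _ _ _).trans (congrArg (fun x : ℤ => F [a0, a1, a2, a3, a4, a5, x, a7, a8, a9])
      (show a5 - a6 = a6 - ((0) * a0 + ((0) * a1 + ((0) * a2 + ((0) * a3 + ((0) * a4 + ((-1) * a5 + ((2) * a6 + ((0) * a7 + ((0) * a8 + ((0) * a9 + 0)))))))))) by omega))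
  | 7, _ =>
    exact (h _ _ _ _ _ _ _ _ _ _).trans (congrArg (fun x : ℤ => F [a0, a1, a2, a3, a4, a5, a6, x, a8, a9])
      (show a3 + a8 - a7 = a7 - ((0) * a0 + ((0) * a1 + ((0) * a2 + ((-1) * a3 + ((0) * a4 + ((0) * a5 + ((0) * a6 + ((2) * a7 + ((-1) * a8 + ((0) * a9 + 0)))))))))) by omega))
  | 8, _ =>
    exact (h _ _ _ _ _ _ _ _ _ _).trans (congrArg (fun x : ℤ => F [a0, a1, a2, a3, a4, a5, a6, a7, x, a9])
      (show a7 + a9 - a8 = a8 - ((0) * a0 + ((0) * a1 + ((0) * a2 + ((0) * a3 + ((0) * a4 + ((0) * a5 + ((0) * a6 + ((-1) * a7 + ((2) * a8 + ((-1) * a9 + 0)))))))))) by omega))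
  | 9, _ =>
    exact (h _ _ _ _ _ _ _ _ _ _).trans (congrArg (fun x : ℤ => F [a0, a1, a2, a3, a4, a5, a6, a7, a8, x])
      (show a8 - a9 = a9 - ((0) * a0 + ((0) * a1 + ((0) * a2 + ((0) * a3 + ((0) * a4 + ((0) * a5 + ((0) * a6 + ((0) * a7 + ((-1) * a8 + ((2) * a9 + 0)))))))))) by omega))
  | n + 10, h => exact absurd h (by omega)

private theorem fv_act (w : List (Fin 10)) (K : FvT) (F : List ℤ → List ℤ)
    (h : ∀ a0 a1 a2 a3 a4 a5 a6 a7 a8 a9 : ℤ, K a0 a1 a2 a3 a4 a5 a6 a7 a8 a9 = F [a0, a1, a2, a3, a4, a5, a6, a7, a8, a9]) (a0 a1 a2 a3 a4 a5 a6 a7 a8 a9 : ℤ) :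
    fvAct w K a0 a1 a2 a3 a4 a5 a6 a7 a8 a9 = F (Cfsg.Agent.ChevalleyStructure.CoxeterWordCheck.actList
      (Cfsg.Agent.ChevalleyStructure.CoxeterWordCheck.rows Cfsg.Agent.TwoESix.Cox10.A10) (w.map (·.val)) [a0, a1, a2, a3, a4, a5, a6, a7, a8, a9]) := by
  induction w generalizing K F with
  | nil => exact h _ _ _ _ _ _ _ _ _ _
  | cons i w ih =>
    exact ih (fvStep i.1 K) (fun v => F (Cfsg.Agent.ChevalleyStructure.CoxeterWordCheck.reflList (Cfsg.Agent.ChevalleyStructure.CoxeterWordCheck.rows Cfsg.Agent.TwoESix.Cox10.A10) i.1 v)) (fv_step i K F h)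

private def fvId : FvT := fun a0 a1 a2 a3 a4 a5 a6 a7 a8 a9 => [a0, a1, a2, a3, a4, a5, a6, a7, a8, a9]

private theorem fv_id (w : List (Fin 10)) (a0 a1 a2 a3 a4 a5 a6 a7 a8 a9 : ℤ) :
    fvAct w fvId a0 a1 a2 a3 a4 a5 a6 a7 a8 a9 = Cfsg.Agent.ChevalleyStructure.CoxeterWordCheck.actList
      (Cfsg.Agent.ChevalleyStructure.CoxeterWordCheck.rows Cfsg.Agent.TwoESix.Cox10.A10) (w.map (·.val)) [a0, a1, a2, a3, a4, a5, a6, a7, a8, a9] :=
  fv_act w fvId (fun v => v) (fun _ _ _ _ _ _ _ _ _ _ => rfl) a0 a1 a2 a3 a4 a5 a6 a7 a8 a9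

private noncomputable def fvChk (w w' : List (Fin 10)) : Bool :=
  ((fvAct w fvId 1 0 0 0 0 0 0 0 0 0 == fvAct w' fvId 1 0 0 0 0 0 0 0 0 0) &&
  ((fvAct w fvId 0 1 0 0 0 0 0 0 0 0 == fvAct w' fvId 0 1 0 0 0 0 0 0 0 0) &&
  ((fvAct w fvId 0 0 1 0 0 0 0 0 0 0 == fvAct w' fvId 0 0 1 0 0 0 0 0 0 0) &&
  ((fvAct w fvId 0 0 0 1 0 0 0 0 0 0 == fvAct w' fvId 0 0 0 1 0 0 0 0 0 0) &&
  ((fvAct w fvId 0 0 0 0 1 0 0 0 0 0 == fvAct w' fvId 0 0 0 0 1 0 0 0 0 0) &&
  ((fvAct w fvId 0 0 0 0 0 1 0 0 0 0 == fvAct w' fvId 0 0 0 0 0 1 0 0 0 0) &&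
  ((fvAct w fvId 0 0 0 0 0 0 1 0 0 0 == fvAct w' fvId 0 0 0 0 0 0 1 0 0 0) &&
  ((fvAct w fvId 0 0 0 0 0 0 0 1 0 0 == fvAct w' fvId 0 0 0 0 0 0 0 1 0 0) &&
  ((fvAct w fvId 0 0 0 0 0 0 0 0 1 0 == fvAct w' fvId 0 0 0 0 0 0 0 0 1 0) &&
  ((fvAct w fvId 0 0 0 0 0 0 0 0 0 1 == fvAct w' fvId 0 0 0 0 0 0 0 0 0 1) &&
  true))))))))))

theorem chk_eq_fvh8 (w w' : List (Fin 10)) : Cfsg.Agent.TwoESix.Cox10.chk w w' = fvChk w w' := by
  unfold fvChk
  simp only [fv_id]
  rfl

/-- palindrome words: conjugates of nodes -/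
def pal (p : List (Fin 10) × Fin 10) : List (Fin 10) := p.1 ++ [p.2] ++ p.1.reverse

/-- a frame of the `E₇` of the word `W321` -/
def FA : List (List (Fin 10) × Fin 10) :=
  [([], 7), ([], 4), ([], 2), ([], 0), ([3, 7, 4, 3], 2), ([1, 2, 3, 7, 4, 3, 2, 1], 0),
    ([5, 4, 3, 7, 2, 3, 4, 1, 2, 3, 7, 5, 4, 3, 2, 1], 0)]

/-- conjugating words of pairs of roots of `FA` to the pair of the nodes `0`, `2` -/
def GA : List (List (List (Fin 10))) := [
    [[], [3, 2, 1, 0, 4, 3, 2, 1, 5, 4, 3, 2, 7, 3, 4, 5], [1, 0, 2, 1, 3, 2, 1, 0, 7, 3, 2, 1], [1, 0, 2, 1, 3, 2,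
      7, 3], [1, 0, 3, 2, 1, 0, 4, 3, 2, 1, 7, 3], [1, 0, 3, 2, 1, 4, 3, 2, 7, 3, 2, 1], [1, 0, 3, 4, 5, 7, 3, 2, 1,
      4, 3, 2, 7, 3, 4, 5]],
    [[], [], [1, 0, 2, 1, 3, 2, 1, 0, 4, 3, 2, 1], [1, 0, 2, 1, 3, 2, 4, 3], [1, 0, 3, 2, 1, 0, 7, 3, 2, 1, 4, 3],
      [1, 0, 3, 2, 1, 4, 7, 3, 2, 1, 4, 3], [1, 0, 3, 2, 1, 4, 5, 7, 3, 2, 1, 4, 3, 2, 5, 4, 7, 3, 4, 5]],
    [[], [], [], [1, 0, 2, 1], [1, 0, 3, 2, 1, 0, 4, 3, 2, 1, 5, 4, 3, 2, 7, 3, 2, 4, 3, 5], [1, 0, 3, 4, 7, 3, 2,
      1], [1, 0, 3, 2, 1, 4, 3, 2, 5, 7, 3, 2, 1, 4, 3, 2, 7, 3, 4, 5]],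
    [[], [], [], [], [3, 4, 7, 3], [1, 0, 3, 2, 1, 0, 4, 3, 2, 1, 5, 4, 3, 2, 7, 3, 2, 1, 0, 4, 3, 2, 1, 5], [1, 0,
      3, 2, 1, 4, 3, 2, 5, 4, 3, 7, 3, 2, 1, 0, 4, 3, 2, 1, 7, 3, 4, 5]],
    [[], [], [], [], [], [1, 0, 3, 2, 4, 3, 7, 3, 2, 1, 4, 3], [1, 0, 3, 2, 4, 3, 5, 7, 3, 2, 1, 4, 3, 2, 5, 4, 7,
      3, 4, 5]],
    [[], [], [], [], [], [], [1, 0, 3, 2, 4, 3, 5, 4, 7, 3, 2, 1, 0, 4, 3, 2, 5, 4, 7, 3, 2, 1, 4, 5]],
    [[], [], [], [], [], [], []]]

/-- a frame of the `E₇` of the word `W231` -/
def FB : List (List (Fin 10) × Fin 10) :=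
  [([], 7), ([], 6), ([], 4), ([], 2), ([3, 7, 4, 3], 2), ([5, 4, 3, 7, 6, 5, 4, 3], 2),
    ([1, 2, 3, 7, 4, 5, 3, 4, 2, 3, 7, 6, 5, 4, 3, 2], 1)]

/-- conjugating words of pairs of roots of `FB` to the pair of the nodes `6`, `4` -/
def GB : List (List (List (Fin 10))) := [
    [[], [5, 4, 3, 6, 5, 4, 7, 3], [3, 4, 5, 4, 3, 6, 5, 4, 7, 3, 4, 5], [3, 2, 1, 4, 3, 2, 5, 4, 3, 6, 5, 4, 7, 3,
      2, 1], [3, 2, 4, 3, 5, 4, 3, 6, 5, 4, 7, 3], [3, 2, 5, 4, 3, 6, 5, 4, 7, 3, 4, 5], [3, 2, 1, 5, 6, 7, 3, 2, 4,
      3, 5, 4, 7, 3, 2, 1]],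
    [[], [], [], [3, 2, 4, 3], [3, 2, 7, 3], [3, 2, 1, 4, 3, 2, 5, 4, 3, 2, 6, 5, 4, 3, 7, 3, 2, 1, 4, 3, 5, 4, 6,
      5], [3, 2, 1, 5, 4, 3, 2, 6, 5, 4, 3, 7, 3, 2, 4, 3, 5, 4, 6, 5, 7, 3, 2, 1]],
    [[], [], [], [3, 2, 4, 3, 5, 4, 6, 5], [3, 2, 1, 4, 3, 2, 5, 4, 3, 2, 6, 5, 4, 3, 7, 3, 2, 1, 4, 3], [3, 2, 5,
      6, 7, 3, 4, 5], [3, 2, 1, 5, 4, 3, 6, 5, 4, 7, 3, 2, 4, 3, 5, 4, 7, 3, 2, 1]],
    [[], [], [], [], [3, 4, 5, 4, 6, 5, 7, 3, 2, 4, 3, 5], [3, 2, 5, 4, 6, 5, 7, 3, 2, 4, 3, 5], [3, 2, 1, 5, 4, 6,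
      5, 7, 3, 2, 1, 4, 3, 2, 5, 4, 7, 3, 2, 1]],
    [[], [], [], [], [], [3, 2, 5, 4, 3, 6, 7, 3, 2, 4, 3, 5], [3, 2, 1, 5, 4, 3, 6, 7, 3, 2, 1, 4, 3, 2, 5, 4, 7,
      3, 2, 1]],
    [[], [], [], [], [], [], [3, 2, 1, 5, 4, 3, 2, 6, 7, 3, 2, 1, 4, 3, 2, 5, 4, 6, 7, 3, 2, 1, 4, 5]],
    [[], [], [], [], [], [], []]]


theorem chk_FA : chk (FA.map pal).flatten (rep 9 W321) = true := (chk_eq_fvh8 _ _).trans (by decide +kernel)
theorem chk_FB : chk (FB.map pal).flatten (rep 9 W231) = true := (chk_eq_fvh8 _ _).trans (by decide +kernel)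

/-- the check for a pair of palindromes -/
def pairChk (g : List (Fin 10)) (i j : Fin 10) (p q : List (Fin 10) × Fin 10) : Bool :=
  chk (pal p ++ pal q) (pal q ++ pal p) && chk (g ++ pal p ++ g.reverse) [i] && chk (g ++ pal q ++ g.reverse) [j]

/-- all pairs -/
def allChk (G : List (List (List (Fin 10)))) (i j : Fin 10) (F : List (List (Fin 10) × Fin 10)) : Bool :=
  (List.range 7).all fun a => (List.range 7).all fun b =>
    !(Nat.blt a b) || pairChk ((G.getD a []).getD b []) i j (F.getD a ([], 0)) (F.getD b ([], 0))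

private noncomputable def allF (G : List (List (List (Fin 10)))) (i j : Fin 10) (F : List (List (Fin 10) × Fin 10)) : Bool :=
  (List.range 7).all fun a => (List.range 7).all fun b =>
    !(Nat.blt a b) || (fvChk (pal (F.getD a ([], 0)) ++ pal (F.getD b ([], 0))) (pal (F.getD b ([], 0)) ++ pal (F.getD a ([], 0))) &&
      fvChk ((G.getD a []).getD b [] ++ pal (F.getD a ([], 0)) ++ ((G.getD a []).getD b []).reverse) [i] &&
      fvChk ((G.getD a []).getD b [] ++ pal (F.getD b ([], 0)) ++ ((G.getD a []).getD b []).reverse) [j])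

private theorem all_eq (G : List (List (List (Fin 10)))) (i j : Fin 10) (F : List (List (Fin 10) × Fin 10)) :
    allChk G i j F = allF G i j F := by
  unfold allChk pairChk allF
  simp only [chk_eq_fvh8]

theorem all_FA : allChk GA 0 2 FA = true := (all_eq _ _ _ _).trans (by decide +kernel)
theorem all_FB : allChk GB 6 4 FB = true := (all_eq _ _ _ _).trans (by decide +kernel)

theorem nbr : ∀ i j : Fin 10, i ≠ j → lab i j = 2 → ∃ k : Fin 10,
    (lab k i = 3 ∧ lab k j = 2) ∨ (lab k i = 2 ∧ lab k j = 3) := by decide +kernel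

theorem no_triangle : ∀ a b i j : Fin 10, adj a b = true → lab i j = 3 → lab i b ≠ 3 ∨ lab j b ≠ 3 := by
  decide +kernel

theorem m321 : ∀ i ∈ rep 9 W321, (9 : Fin 10) ≠ i ∧ lab 9 i = 2 := by decide +kernel
theorem m231 : ∀ i ∈ rep 9 W231, (9 : Fin 10) ≠ i ∧ lab 9 i = 2 := by decide +kernel
theorem l321 : (rep 9 W321).length = 63 := by decide +kernel
theorem l231 : (rep 9 W231).length = 63 := by decide +kernel

section

variable {M E : Type*} [Group M] [Group E] {π : M →* E} {z : M} {T : Set E} {m : Fin 10 → M}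

theorem ev_pal (hs : M10.IsLiftable m) (p : List (Fin 10) × Fin 10) :
    ev m (pal p) = ev m p.1 * m p.2 * (ev m p.1)⁻¹ := by
  rw [pal, ev_append, ev_append, ev_reverse hs, ev_cons, ev_nil, mul_one]

theorem ev_const {x : E} {e : Fin 10 → E} (h : ∀ i, e i = x) (w : List (Fin 10)) :
    ev e w = x ^ w.length := by
  induction w with
  | nil => simp [ev_nil]
  | cons i w ih => rw [ev_cons, ih, h, List.length_cons, pow_succ']

/-- Adjacent nodes have different images. -/
theorem adj_ne {e : Fin 10 → E} (hs : M10.IsLiftable e) (h1 : ∀ i, e i ≠ 1) (h9 : ev e W321 ^ 9 = 1)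
    {i j : Fin 10} (h : lab i j = 3) : e i ≠ e j := by
  intro hij
  have mv : ∀ a b, adj a b = true → e a = e j → e b = e j := by
    intro a b hab ha
    have hcom : e j * e b = e b * e j := by
      rcases no_triangle a b i j hab h with h3 | h3
      · rw [← hij]
        rcases lab_cases i b with ⟨_, rfl⟩ | h4 | h4
        · rfl
        · exact (comm_of hs h4).eq
        · exact absurd h4 h3
      · rcases lab_cases j b with ⟨_, rfl⟩ | h4 | h4
        · rfl
        · exact (comm_of hs h4).eq
        · exact absurd h4 h3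
    have h5 := braid hs hab
    rw [ha] at h5
    have hj : e j * e j = 1 := Cfsg.Agent.TwoESix.Cox10.sq hs j
    have hb : e b * e b = 1 := Cfsg.Agent.TwoESix.Cox10.sq hs b
    have h6 : e j * e b * e j = e b := by
      rw [hcom, mul_assoc, hj, mul_one]
    have h7 : e b * e j * e b = e j := by
      rw [← hcom, mul_assoc, hb, mul_one]
    rw [h6, h7] at h5
    exact h5
  have h3 : e 3 = e j := by
    have := all_nodes (fun k => (e k = e j ↔ e 3 = e j)) (fun a b hab hk =>
      ⟨fun hb => hk.1 (mv b a (adj_symm a b hab) hb), fun h3 => mv a b hab (hk.2 h3)⟩) Iff.rfl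
    exact (this j).1 rfl
  have hall := all_nodes (fun k => e k = e j) mv h3
  have hj : e j * e j = 1 := Cfsg.Agent.TwoESix.Cox10.sq hs j
  rw [ev_const hall, ← pow_mul] at h9
  have : W321.length * 9 = 2 * 31 + 1 := by decide
  rw [this, pow_succ, pow_mul, pow_two, hj, one_pow, one_mul] at h9
  exact h1 j h9

/-- Two nonadjacent nodes have different images, and their product is not a root. -/
theorem node_sep (R : Roots E T) (e1 : ∀ r ∈ T, ∀ s ∈ T, (r * s) ^ 4 = 1 ∨ (r * s) ^ 3 = 1)
    {e : Fin 10 → E} (hs : M10.IsLiftable e) (hT : ∀ i, e i ∈ T) (h9 : ev e W321 ^ 9 = 1) {i j : Fin 10} (hij : i ≠ j)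
    (h : lab i j = 2) : e i ≠ e j ∧ e i * e j ∉ T := by
  have hne : ∀ i, e i ≠ 1 := fun i => R.ne_one _ (hT i)
  have hsq : ∀ i, e i * e i = 1 := fun i => Cfsg.Agent.TwoESix.Cox10.sq hs i
  have key : ∀ i j k : Fin 10, lab i j = 2 → lab k i = 3 → lab k j = 2 → e i ≠ e j ∧ e i * e j ∉ T := by
    intro i j k h hki hkj
    have c1 : Commute (e k) (e j) := comm_of hs hkj
    have c2 : Commute (e i) (e j) := comm_of hs h
    have b := braid hs (adj_of_lab k i hki)
    have ne1 := adj_ne hs hne h9 hki
    refine ⟨?_, ?_⟩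
    · intro heq
      apply ne1
      rw [← heq] at c1
      have h1 : e k * e i * e k = e i := by rw [c1.eq, mul_assoc, hsq, mul_one]
      have h2 : e i * e k * e i = e k := by rw [← c1.eq, mul_assoc, hsq, mul_one]
      rw [h1, h2] at b
      exact b.symm
    · intro hin
      have c3 : Commute (e k * e i) (e j) := c1.mul_left c2
      have hp : ∀ n : ℕ, (e k * (e i * e j)) ^ n = (e k * e i) ^ n * e j ^ n := fun n => by
        rw [← mul_assoc, c3.mul_pow]
      have h3 : (e k * e i) ^ 3 = 1 := by
        have := hs k i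
        rwa [M10_apply, hki] at this
      rcases e1 _ (hT k) _ hin with h4 | h4
      · rw [hp] at h4
        have : e j ^ 4 = 1 := by
          have : (4 : ℕ) = 2 * 2 := rfl
          rw [this, pow_mul, pow_two (e j), hsq, one_pow]
        rw [this, mul_one, pow_succ, h3, one_mul] at h4
        apply ne1
        have h5 : (e k)⁻¹ = e i := inv_eq_of_mul_eq_one_right h4
        rw [← h5, inv_eq_of_mul_eq_one_right (hsq k)]
      · rw [hp, h3, one_mul, pow_succ, pow_two, hsq, one_mul] at h4
        exact hne j h4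
  obtain ⟨k, hk | hk⟩ := nbr i j hij h
  · exact key i j k h hk.1 hk.2
  · have h' : lab j i = 2 := by rw [lab_symm]; exact h
    have := key j i k h' hk.2 hk.1
    have c2 : Commute (e i) (e j) := comm_of hs h
    exact ⟨this.1.symm, by rw [c2.eq]; exact this.2⟩

/-- Either all nodes are canonical lifts or all are good lifts. -/
theorem dich (C : Cover π z) (R : Roots E T) (hs : M10.IsLiftable m) (hT : ∀ i, π (m i) ∈ T) :
    (∀ i, m i = w π T (π (m i))) ∨ (∀ i, m i = Lab.lab π z T (π (m i))) := by
  have cj : ∀ i j, adj i j = true → (m i * m j) * m i * (m i * m j)⁻¹ = m j := fun i j h =>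
    conj_braid (braid hs h)
  rcases eq_w_or_lab C R (hT 3) with h | h
  · left
    refine all_nodes _ (fun i j hij hi => ?_) h
    have h1 := w_conj C R (m i * m j) (hT i)
    rw [← hi, cj i j hij, ← map_inv, ← map_mul, ← map_mul, cj i j hij] at h1
    exact h1
  · right
    refine all_nodes _ (fun i j hij hi => ?_) h
    have h1 := lab_conj C R (m i * m j) (hT i)
    rw [← hi, cj i j hij, ← map_inv, ← map_mul, ← map_mul, cj i j hij] at h1
    exact h1

theorem map_ev_w (hw : ∀ i, m i = w π T (π (m i))) (l : List (Fin 10)) :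
    ((l.map fun i => π (m i)).map (w π T)).prod = ev m l := by
  rw [ev, List.map_map]
  congr 1
  exact List.map_congr_left fun i _ => (hw i).symm

theorem map_ev_lab (C : Cover π z) (hw : ∀ i, m i = Lab.lab π z T (π (m i))) (l : List (Fin 10)) :
    ((l.map fun i => π (m i)).map (w π T)).prod = z ^ l.length * ev m l := by
  have h1 := prod_lab (T := T) C (l.map fun i => π (m i))
  have h2 : ((l.map fun i => π (m i)).map (Lab.lab π z T)).prod = ev m l := by
    rw [ev, List.map_map]
    congr 1
    exact List.map_congr_left fun i _ => (hw i).symm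
  rw [h2, List.length_map] at h1
  have h3 : z ^ l.length * z ^ l.length = 1 := by
    rw [← pow_add, ← two_mul, pow_mul, pow_two, C.t_mul_t, one_pow]
  rw [h1, ← mul_assoc, h3, one_mul]

variable (C : Cover π z) (R : Roots E T) (hz : ZRels m z) (hT : ∀ i, π (m i) ∈ T)
  (e1 : ∀ r ∈ T, ∀ s ∈ T, (r * s) ^ 4 = 1 ∨ (r * s) ^ 3 = 1)

include C R hz hT e1

theorem perf {b : E} (hb : b ∈ T) (H : Subgroup M) : H.relIndex (Subgroup.centralizer ({w π T b} : Set M)) ≠ 2 := by
  classical
  have hs' : M10.IsLiftable (fun i => π (m i)) := by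
    intro i j
    show (π (m i) * π (m j)) ^ _ = 1
    rw [← map_mul, ← map_pow, hz.lift i j, map_one]
  have h9' : ev (fun i => π (m i)) W321 ^ 9 = 1 := by
    rw [← ev_map, ← map_pow, hz.e321, C.map_t]
  have sep : ∀ i, (9 : Fin 10) ≠ i ∧ lab 9 i = 2 →
      π (m i) ∈ T ∧ π (m i) ≠ π (m 9) ∧ π (m i) * π (m 9) = π (m 9) * π (m i) ∧ π (m 9) * π (m i) ∉ T := by
    rintro i ⟨h1, h2⟩
    have := node_sep R e1 hs' hT h9' h1 h2
    exact ⟨hT i, this.1.symm, ((comm_of hs' h2).eq).symm, this.2⟩
  have hodd63 : z ^ 63 = z := by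
    have : (63 : ℕ) = 2 * 31 + 1 := rfl
    rw [this, pow_succ, pow_mul, pow_two, C.t_mul_t, one_pow, one_mul]
  -- the root of node 9
  have base : ∀ H : Subgroup M, H.relIndex (Subgroup.centralizer ({w π T (π (m 9))} : Set M)) ≠ 2 := by
    intro H
    have hu : ∀ l : List (Fin 10), (∀ i ∈ l, (9 : Fin 10) ≠ i ∧ lab 9 i = 2) → ∀ a ∈ l.map fun i => π (m i),
        a ∈ T ∧ a ≠ π (m 9) ∧ a * π (m 9) = π (m 9) * a ∧ π (m 9) * a ∉ T := by
      intro l hl a ha
      obtain ⟨i, hi, rfl⟩ := List.mem_map.1 ha
      exact sep i (hl i hi)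
    rcases dich C R hz.lift hT with hw | hw
    · refine relIndex_ne_two C R (hT 9) ((rep 9 W231).map fun i => π (m i)) ((rep 9 W321).map fun i => π (m i))
        (hu _ m231) (hu _ m321) ?_ ?_ ?_ H
      · rw [List.length_map, l231]; decide
      · rw [map_ev_w hw, ev_rep, hz.e231]
      · rw [map_ev_w hw, ev_rep, hz.e321]
    · refine relIndex_ne_two C R (hT 9) ((rep 9 W321).map fun i => π (m i)) ((rep 9 W231).map fun i => π (m i))
        (hu _ m321) (hu _ m231) ?_ ?_ ?_ H
      · rw [List.length_map, l321]; decide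
      · rw [map_ev_lab C hw, ev_rep, hz.e321, l321, hodd63, C.t_mul_t]
      · rw [map_ev_lab C hw, ev_rep, hz.e231, l231, hodd63, mul_one]
  -- conjugation
  intro hH
  obtain ⟨g, hg⟩ := R.one _ hb _ (hT 9)
  obtain ⟨n, rfl⟩ := C.surj g
  have h1 := w_conj C R n hb
  rw [hg] at h1
  apply base (H.map (MulAut.conj n).toMonoidHom)
  have h2 : Subgroup.centralizer ({w π T (π (m 9))} : Set M) =
      (Subgroup.centralizer ({w π T b} : Set M)).map (MulAut.conj n).toMonoidHom := by
    rw [← h1]
    ext x
    rw [Subgroup.mem_centralizer_singleton_iff, Subgroup.mem_map]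
    constructor
    · intro hx
      refine ⟨n⁻¹ * x * n, ?_, by simp [mul_assoc]⟩
      rw [Subgroup.mem_centralizer_singleton_iff]
      calc n⁻¹ * x * n * w π T b = n⁻¹ * (x * (n * w π T b * n⁻¹)) * n := by group
        _ = n⁻¹ * ((n * w π T b * n⁻¹) * x) * n := by rw [hx]
        _ = w π T b * (n⁻¹ * x * n) := by group
    · rintro ⟨y, hy, rfl⟩
      rw [Subgroup.mem_centralizer_singleton_iff] at hy
      show n * y * n⁻¹ * (n * w π T b * n⁻¹) = n * w π T b * n⁻¹ * (n * y * n⁻¹)
      calc n * y * n⁻¹ * (n * w π T b * n⁻¹) = n * (y * w π T b) * n⁻¹ := by group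
        _ = n * (w π T b * y) * n⁻¹ := by rw [hy]
        _ = _ := by group
  rw [h2, Subgroup.relIndex_map_map_of_injective _ _ (MulAut.conj n).injective]
  exact hH

theorem chain : ∃ l : List E, (∀ r ∈ l, r ∈ T) ∧ l.Pairwise (fun r s => r * s = s * r ∧ r ≠ s) ∧
    (l.map (w π T)).prod = z := by
  classical
  have hs' : M10.IsLiftable (fun i => π (m i)) := by
    intro i j
    show (π (m i) * π (m j)) ^ _ = 1
    rw [← map_mul, ← map_pow, hz.lift i j, map_one]
  have h9' : ev (fun i => π (m i)) W321 ^ 9 = 1 := by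
    rw [← ev_map, ← map_pow, hz.e321, C.map_t]
  -- roots of a frame
  have inT : ∀ p, π (ev m (pal p)) ∈ T := by
    intro p
    rw [ev_pal hz.lift, map_mul, map_mul, map_inv]
    exact R.conj _ (hT _) _
  have pw : ∀ (G : List (List (List (Fin 10)))) (i j : Fin 10) (F : List (List (Fin 10) × Fin 10)),
      i ≠ j → lab i j = 2 → F.length = 7 → allChk G i j F = true →
      (F.map fun p => π (ev m (pal p))).Pairwise (fun r s => r * s = s * r ∧ r ≠ s) := by
    intro G i j F hij hl hF hc
    rw [List.pairwise_map, List.pairwise_iff_getElem]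
    intro a b ha hb hab
    rw [allChk, List.all_eq_true] at hc
    have h1 := hc a (List.mem_range.2 (by omega))
    rw [List.all_eq_true] at h1
    have h2 := h1 b (List.mem_range.2 (by omega))
    rw [Bool.or_eq_true, Bool.not_eq_true', pairChk, Bool.and_eq_true, Bool.and_eq_true] at h2
    rcases h2 with h2 | h2
    · have : Nat.blt a b = true := by rw [Nat.blt_eq]; exact hab
      rw [this] at h2; exact absurd h2 (by decide)
    · rw [List.getD_eq_getElem _ _ ha, List.getD_eq_getElem _ _ hb] at h2
      obtain ⟨⟨c1, c2⟩, c3⟩ := h2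
      set p := F[a] with hp
      set q := F[b] with hq
      set g := (G.getD a []).getD b [] with hg
      have d1 := ev_eq_ev hz.lift c1
      have d2 := ev_eq_ev hz.lift c2
      have d3 := ev_eq_ev hz.lift c3
      rw [ev_append, ev_append] at d1
      rw [ev_append, ev_append, ev_reverse hz.lift, ev_cons, ev_nil, mul_one] at d2 d3
      refine ⟨by rw [← map_mul, d1, map_mul], ?_⟩
      intro heq
      apply (node_sep R e1 hs' hT h9' hij hl).1
      show π (m i) = π (m j)
      rw [← d2, ← d3, map_mul, map_mul, heq, map_mul, map_mul]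
  rcases dich C R hz.lift hT with hw | hw
  · refine ⟨FA.map fun p => π (ev m (pal p)), ?_, pw GA 0 2 FA (by decide) (by decide) rfl all_FA, ?_⟩
    · intro r hr
      obtain ⟨p, _, rfl⟩ := List.mem_map.1 hr
      exact inT p
    · have h1 := ev_eq_ev hz.lift chk_FA
      rw [ev_rep, hz.e321] at h1
      rw [← h1, List.map_map]
      have h2 : ∀ F : List (List (Fin 10) × Fin 10),
          (F.map (w π T ∘ fun p => π (ev m (pal p)))).prod = ev m (F.map pal).flatten := by
        intro F
        induction F with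
        | nil => rfl
        | cons p F ih =>
          rw [List.map_cons, List.prod_cons, ih, List.map_cons, List.flatten_cons, ev_append]
          congr 1
          show w π T (π (ev m (pal p))) = _
          have h3 := w_conj C R (ev m p.1) (hT p.2)
          rw [← hw p.2] at h3
          rw [ev_pal hz.lift, map_mul, map_mul, map_inv, ← h3]
      exact h2 FA
  · refine ⟨FB.map fun p => π (ev m (pal p)), ?_, pw GB 6 4 FB (by decide) (by decide) rfl all_FB, ?_⟩
    · intro r hr
      obtain ⟨p, _, rfl⟩ := List.mem_map.1 hr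
      exact inT p
    · have h1 := ev_eq_ev hz.lift chk_FB
      rw [ev_rep, hz.e231] at h1
      have h2 : ∀ F : List (List (Fin 10) × Fin 10),
          ((F.map fun p => π (ev m (pal p))).map (Lab.lab π z T)).prod = ev m (F.map pal).flatten := by
        intro F
        induction F with
        | nil => rfl
        | cons p F ih =>
          rw [List.map_cons, List.map_cons, List.prod_cons, ih, List.map_cons, List.flatten_cons, ev_append]
          congr 1
          show Lab.lab π z T (π (ev m (pal p))) = _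
          have h3 := lab_conj C R (ev m p.1) (hT p.2)
          rw [← hw p.2] at h3
          rw [ev_pal hz.lift, map_mul, map_mul, map_inv, ← h3]
      have h3 := prod_lab (T := T) C (FB.map fun p => π (ev m (pal p)))
      rw [h2 FB, h1, List.length_map] at h3
      have h4 : z ^ FB.length = z := by
        have : FB.length = 2 * 3 + 1 := rfl
        rw [this, pow_succ, pow_mul, pow_two, C.t_mul_t, one_pow, one_mul]
      rw [h4] at h3
      have h5 : z * 1 = z * (z * ((FB.map fun p => π (ev m (pal p))).map (w π T)).prod) := by rw [← h3]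
      rw [← mul_assoc, C.t_mul_t, one_mul, mul_one] at h5
      exact h5.symm

end

/-! ### In the setting of `Setup` -/

section setup

open Cfsg.Agent.TwoESix.Cover

variable {G : Type*} [Group G] {t : G} {M : Subgroup G} {E : Type*} [Group E] {π : M →* E} {T : Set E}

/-- Lifts with the relations of the double cover over `T`. -/
theorem exists_lifts [Finite HB] (S : Setup t M π) {e : Fin 10 → E} (he : Good e)
    (hgen : Subgroup.closure (Set.range e) = ⊤) (hcard : Nat.card HB ≤ Nat.card E) (hT : ∀ i, e i ∈ T) :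
    ∃ m : Fin 10 → M, ZRels m S.z ∧ ∀ i, π (m i) ∈ T := by
  obtain ⟨p, -, m, hm, hz, -⟩ := exists_zrels S.ext he hgen fun m hm hgood => by
    have hb := toHom_bijective he hgen hcard
    let f : HB ≃* E := MulEquiv.ofBijective _ hb
    refine S.nosec ((toHom hgood).comp f.symm.toMonoidHom) fun x => ?_
    have key : (π.comp (toHom hgood)) = toHom he := by
      apply PresentedGroup.ext
      intro i
      show π (toHom hgood (s0 i)) = toHom he (s0 i)
      rw [toHom_s0, toHom_s0, hm]
    show π (toHom hgood (f.symm x)) = x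
    have : π (toHom hgood (f.symm x)) = toHom he (f.symm x) := DFunLike.congr_fun key _
    rw [this]
    exact f.apply_symm_apply x
  exact ⟨m, hz, fun i => by rw [hm]; exact hT _⟩

/-- The fields `perf` and `chain` of `FusGood.Hyp`. -/
theorem perf_chain [Finite HB] (S : Setup t M π) (R : Roots E T)
    (e1 : ∀ r ∈ T, ∀ s ∈ T, (r * s) ^ 4 = 1 ∨ (r * s) ^ 3 = 1) {e : Fin 10 → E} (he : Good e)
    (hgen : Subgroup.closure (Set.range e) = ⊤) (hcard : Nat.card HB ≤ Nat.card E) (hT : ∀ i, e i ∈ T) :
    (∀ b ∈ T, ∀ H : Subgroup M, H.relIndex (Subgroup.centralizer ({w π T b} : Set M)) ≠ 2) ∧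
    ∃ l : List E, (∀ r ∈ l, r ∈ T) ∧ l.Pairwise (fun r s => r * s = s * r ∧ r ≠ s) ∧
      (((l.map (w π T)).prod : M) : G) = t := by
  obtain ⟨m, hz, hmT⟩ := exists_lifts S he hgen hcard hT
  refine ⟨fun b hb H => perf S.cover R hz hmT e1 hb H, ?_⟩
  obtain ⟨l, h1, h2, h3⟩ := chain S.cover R hz hmT e1
  exact ⟨l, h1, h2, by rw [h3]; rfl⟩

end setup

end Cfsg.Agent.BabyU.Chain

private theorem dce_f1106672d35e : _root_.True := by
  try have : _root_.True := by simp only [_root_.Cfsg.Agent.BabyU.Chain.pairChk.eq_1]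
  try have : _root_.True := by simp only [_root_.Cfsg.Agent.BabyU.Chain.allChk.eq_1]
  try have : _root_.True := by simp only [_root_.Cfsg.Agent.BabyU.Chain.pal.eq_1]
  exact _root_.True.intro
end

-- part: BabyU/FusFinal
section
prune_inst 0x10100100000200000000000000000040000000020043000010000000004710010000060040800810000200000000800000100000020000000a000200000400000000400202000000000000002806000000000000000000000000000000041000000000000
set_option linter.all false
open scoped Cfsg.Agent.FastGrp

-- part: BabyU/FusCore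
section
/-!
# The fusion step: the application of the parity theorem  (R19U, U-B P3, helper234)
-/

set_option autoImplicit false

namespace Cfsg.Agent.BabyU.FusCore

open Cfsg.Agent.BabyU.Lab Cfsg.Agent.BabyU.FusCfg

/-- index two from the fields of `Setup` -/
theorem relIndex_two {G : Type*} [Group G] {t : G} {M : Subgroup G} {E : Type*} [Group E] {π : M →* E}
    (S : Setup t M π) {u : G} (hut : u * t = t * u) (huM : u ∉ M) :
    M.relIndex (Subgroup.centralizer ({t} : Set G)) = 2 := by
  rw [Subgroup.relIndex_eq_two_iff]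
  refine ⟨u, Subgroup.mem_centralizer_singleton_iff.2 hut, fun b hb => ?_⟩
  have hb' := Subgroup.mem_centralizer_singleton_iff.1 hb
  by_cases h : b ∈ M
  · right
    exact ⟨h, fun h1 => huM ((M.mul_mem_cancel_left h).1 h1)⟩
  · left
    exact ⟨S.index b u hb' hut h huM, h⟩

end Cfsg.Agent.BabyU.FusCore
end

-- part: BabyU/FusGen
section
/-!
# The 2-group for the parity argument, and the first fusion theorem (U-B P3)

`Gen K L S` : `L` a set of `σ`-fixed roots, `S` a set of roots `c` such that `c`, `σ c` is a commuting pair; the elements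
`y ∈ L` and `c * σ c` generate a 2-group whose centraliser in `E` is `{1, r, a a', r a a'}`.
-/

set_option autoImplicit false

namespace Cfsg.Agent.BabyU.FusGen

open Lab FusCfg

/-- Generators of the 2-group. -/
structure Gen {E : Type*} [Group E] {T : Set E} {σ : E →* E} (K : Cfg E T σ) (L S : Set E) : Prop where
  l_mem : ∀ y ∈ L, y ∈ T
  l_σ : ∀ y ∈ L, σ y = y
  l_r : ∀ y ∈ L, y * K.r = K.r * y
  l_s : ∀ y ∈ L, y * (K.a * K.as_) = (K.a * K.as_) * y
  s_mem : ∀ c ∈ S, c ∈ T
  s_σσ : ∀ c ∈ S, σ (σ c) = c
  s_comm : ∀ c ∈ S, c * σ c = σ c * c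
  s_r : ∀ c ∈ S, (c * σ c) * K.r = K.r * (c * σ c)
  s_a : ∀ c ∈ S, (c * σ c) * K.a = K.a * (c * σ c) ∨ (c * σ c) * K.a = K.as_ * (c * σ c) ∨
    ∃ ρ ∈ T, σ ρ = ρ ∧ (c * σ c) * K.a = (K.a * ρ) * (c * σ c)
  two : IsPGroup 2 (Subgroup.closure (L ∪ (fun c => c * σ c) '' S))

/-- The centraliser of the 2-group. -/
def Cent {E : Type*} [Group E] {T : Set E} {σ : E →* E} (K : Cfg E T σ) (L S : Set E) : Prop :=
  ∀ x : E, (∀ y ∈ L, y * x = x * y) → (∀ c ∈ S, (c * σ c) * x = x * (c * σ c)) →
    x = 1 ∨ x = K.r ∨ x = K.a * K.as_ ∨ x = K.r * (K.a * K.as_)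

section transport

variable {E E' : Type*} [Group E] [Group E'] {T : Set E} {T' : Set E'} {σ : E →* E} {σ' : E' →* E'}

theorem Gen.map {K : Cfg E T σ} {L S : Set E} (h : Gen K L S) (f : E →* E') (hf : Function.Injective f)
    (hT : ∀ x ∈ T, f x ∈ T') (hσ : ∀ x, f (σ x) = σ' (f x)) :
    Gen (K.map f hf hT hσ) (f '' L) (f '' S) where
  l_mem := by rintro _ ⟨y, hy, rfl⟩; exact hT _ (h.l_mem y hy)
  l_σ := by rintro _ ⟨y, hy, rfl⟩; rw [← hσ, h.l_σ y hy]
  l_r := by
    rintro _ ⟨y, hy, rfl⟩
    show f y * f K.r = f K.r * f y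
    rw [← map_mul, ← map_mul, h.l_r y hy]
  l_s := by
    rintro _ ⟨y, hy, rfl⟩
    show f y * (f K.a * f K.as_) = (f K.a * f K.as_) * f y
    rw [← map_mul, ← map_mul, ← map_mul, h.l_s y hy]
  s_mem := by rintro _ ⟨y, hy, rfl⟩; exact hT _ (h.s_mem y hy)
  s_σσ := by rintro _ ⟨y, hy, rfl⟩; rw [← hσ, ← hσ, h.s_σσ y hy]
  s_comm := by rintro _ ⟨y, hy, rfl⟩; rw [← hσ, ← map_mul, ← map_mul, h.s_comm y hy]
  s_r := by
    rintro _ ⟨y, hy, rfl⟩
    show f y * σ' (f y) * f K.r = f K.r * (f y * σ' (f y))
    rw [← hσ, ← map_mul, ← map_mul, ← map_mul, h.s_r y hy]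
  s_a := by
    rintro _ ⟨y, hy, rfl⟩
    show f y * σ' (f y) * f K.a = f K.a * (f y * σ' (f y)) ∨ f y * σ' (f y) * f K.a = f K.as_ * (f y * σ' (f y)) ∨
      ∃ ρ ∈ T', σ' ρ = ρ ∧ f y * σ' (f y) * f K.a = (f K.a * ρ) * (f y * σ' (f y))
    rw [← hσ, ← map_mul, ← map_mul, ← map_mul, ← map_mul]
    rcases h.s_a y hy with h1 | h1 | ⟨ρ, hρ, h2, h1⟩
    · exact Or.inl (by rw [h1])
    · exact Or.inr (Or.inl (by rw [h1]))
    · refine Or.inr (Or.inr ⟨f ρ, hT _ hρ, by rw [← hσ, h2], ?_⟩)
      rw [h1, ← map_mul, ← map_mul]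
  two := by
    have e : f '' L ∪ (fun c => c * σ' c) '' (f '' S) = f '' (L ∪ (fun c => c * σ c) '' S) := by
      rw [Set.image_union, Set.image_image, Set.image_image]
      congr 1
      apply Set.image_congr
      intro c _
      rw [← hσ, ← map_mul]
    rw [e, ← MonoidHom.map_closure]
    exact h.two.map f

theorem Cent.map {K : Cfg E T σ} {L S : Set E} (h : Cent K L S) (f : E ≃* E') (hT : ∀ x ∈ T, f x ∈ T')
    (hσ : ∀ x, f (σ x) = σ' (f x)) :
    Cent (K.map f.toMonoidHom f.injective hT hσ) (f '' L) (f '' S) := by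
  intro x h1 h2
  obtain ⟨x, rfl⟩ := f.surjective x
  have h3 := h x (fun y hy => f.injective (by
    rw [map_mul, map_mul]; exact h1 _ ⟨y, hy, rfl⟩)) (fun c hc => f.injective (by
    have h4 := h2 _ ⟨c, hc, rfl⟩
    rw [map_mul, map_mul f x, map_mul, hσ]
    exact h4))
  show f x = 1 ∨ f x = f K.r ∨ f x = f K.a * f K.as_ ∨ f x = f K.r * (f K.a * f K.as_)
  rcases h3 with h3 | h3 | h3 | h3
  · exact Or.inl (by rw [h3, map_one])
  · exact Or.inr (Or.inl (by rw [h3]))
  · exact Or.inr (Or.inr (Or.inl (by rw [h3, map_mul])))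
  · exact Or.inr (Or.inr (Or.inr (by rw [h3, map_mul, map_mul])))

end transport

section lifts

variable {M E : Type*} [Group M] [Group E] {π : M →* E} {t : M} {T : Set E} {σ : E →* E}

/-- the lift of `c * σ c` -/
noncomputable def pr (π : M →* E) (T : Set E) (σ : E →* E) (c : E) : M := w π T c * w π T (σ c)

theorem map_pr (C : Cover π t) (R : Roots E T) (hσ : ∀ r ∈ T, σ r ∈ T) {c : E} (hc : c ∈ T) :
    π (pr π T σ c) = c * σ c := by
  unfold pr
  rw [map_mul, map_w C R hc, map_w C R (hσ _ hc)]

theorem pr_sq (C : Cover π t) (R : Roots E T) (hσ : ∀ r ∈ T, σ r ∈ T) {c : E} (hc : c ∈ T)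
    (h : c * σ c = σ c * c) : pr π T σ c * pr π T σ c = 1 := by
  unfold pr
  have e1 := w_comm C R hc (hσ _ hc) h
  calc w π T c * w π T (σ c) * (w π T c * w π T (σ c))
      = w π T c * (w π T (σ c) * w π T c) * w π T (σ c) := by group
    _ = (w π T c * w π T c) * (w π T (σ c) * w π T (σ c)) := by rw [← e1]; group
    _ = 1 := by rw [w_sq C R hc, w_sq C R (hσ _ hc), mul_one]

variable {K : Cfg E T σ} {L S : Set E}

theorem l_sh (C : Cover π t) (R : Roots E T) (h : Gen K L S) {y : E} (hy : y ∈ L) :
    w π T y * sh π K = sh π K * w π T y := by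
  apply commute_lift C R (by rw [map_w C R (h.l_mem y hy)]; exact h.l_mem y hy)
  rw [map_w C R (h.l_mem y hy), map_sh K C R]
  exact h.l_s y hy

theorem s_r (C : Cover π t) (R : Roots E T) (hσ : ∀ r ∈ T, σ r ∈ T) (h : Gen K L S) {c : E} (hc : c ∈ S) :
    pr π T σ c * w π T K.r = w π T K.r * pr π T σ c := by
  symm
  apply commute_lift C R (by rw [map_w C R K.m_r]; exact K.m_r)
  rw [map_w C R K.m_r, map_pr C R hσ (h.s_mem c hc)]
  exact (h.s_r c hc).symm

theorem s_sh (C : Cover π t) (R : Roots E T) (hσ : ∀ r ∈ T, σ r ∈ T) (h : Gen K L S) {c : E} (hc : c ∈ S) :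
    pr π T σ c * sh π K = sh π K * pr π T σ c := by
  have hcT := h.s_mem c hc
  obtain ⟨y, hy⟩ : ∃ y, y = c * σ c := ⟨_, rfl⟩
  have hσy : σ y = y := by rw [hy, map_mul, h.s_σσ c hc, h.s_comm c hc]
  -- conjugation of `a` and `as_`
  have key : ∀ x ∈ T, ∀ x' ∈ T, y * x = x' * y → pr π T σ c * w π T x = w π T x' * pr π T σ c := by
    intro x hx x' hx' h1
    have h2 := w_conj C R (pr π T σ c) hx
    rw [map_pr C R hσ hcT, ← hy, h1, mul_inv_cancel_right, mul_inv_eq_iff_eq_mul] at h2
    exact h2
  have e0 : w π T K.a * w π T K.as_ = w π T K.as_ * w π T K.a := w_comm C R K.m_a K.m_as K.c_a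
  rcases h.s_a c hc with h1 | h1 | ⟨ρ, hρ, h2, h1⟩
  · rw [← hy] at h1
    have h3 : y * K.as_ = K.as_ * y := by
      have := congrArg σ h1
      rwa [map_mul, map_mul, K.σ_a, hσy] at this
    have e1 := key _ K.m_a _ K.m_a h1
    have e2 := key _ K.m_as _ K.m_as h3
    unfold sh
    rw [← mul_assoc, e1, mul_assoc, e2, mul_assoc]
  · rw [← hy] at h1
    have h3 : y * K.as_ = K.a * y := by
      have := congrArg σ h1
      rwa [map_mul, map_mul, K.σ_a, K.σ_as, hσy] at this
    have e1 := key _ K.m_a _ K.m_as h1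
    have e2 := key _ K.m_as _ K.m_a h3
    unfold sh
    rw [← mul_assoc, e1, mul_assoc, e2, ← mul_assoc, e0]
  · rw [← hy] at h1
    have h3 : y * K.as_ = (K.as_ * ρ) * y := by
      have := congrArg σ h1
      rwa [map_mul, map_mul, map_mul, K.σ_a, h2, hσy] at this
    have haρ : K.a * ρ ∈ T := by
      have := R.conj _ K.m_a y
      rwa [h1, mul_inv_cancel_right] at this
    have haρ' : K.as_ * ρ ∈ T := by
      have := R.conj _ K.m_as y
      rwa [h3, mul_inv_cancel_right] at this
    have hcomm : ρ * K.as_ = K.as_ * ρ := by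
      have h4 := R.sq _ haρ'
      have h5 := R.sq _ K.m_as
      have h6 := R.sq _ hρ
      calc ρ * K.as_ = (K.as_ * (K.as_ * ρ * (K.as_ * ρ)) * ρ) := by
            calc ρ * K.as_ = (K.as_ * K.as_) * (ρ * K.as_) * (ρ * ρ) := by rw [h5, h6, one_mul, mul_one]
              _ = _ := by group
        _ = K.as_ * ρ := by rw [h4, mul_one]
    have e1 := key _ K.m_a _ haρ h1
    have e2 := key _ K.m_as _ haρ' h3
    have e3 := w_comm C R hρ K.m_as hcomm
    rw [← w_line C R K.m_a hρ haρ] at e1
    rw [← w_line C R K.m_as hρ haρ'] at e2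
    have e4 := w_sq C R hρ
    unfold sh
    calc pr π T σ c * (w π T K.a * w π T K.as_) = (pr π T σ c * w π T K.a) * w π T K.as_ := by group
      _ = w π T K.a * w π T ρ * (pr π T σ c * w π T K.as_) := by rw [e1]; group
      _ = w π T K.a * (w π T ρ * w π T K.as_) * w π T ρ * pr π T σ c := by rw [e2]; group
      _ = w π T K.a * w π T K.as_ * (w π T ρ * w π T ρ) * pr π T σ c := by rw [e3]; group
      _ = _ := by rw [e4, mul_one]

end lifts

section group

variable {G E : Type*} [Group G] [Group E] {M : Subgroup G} {π : M →* E} {T : Set E} {σ : E →* E}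

variable {t : M} {u : G} {K : Cfg E T σ} {L S : Set E}

/-- the lifted generators -/
def lifts (π : M →* E) (T : Set E) (σ : E →* E) (t : M) (L S : Set E) : Set G :=
  (fun x : M => (x : G)) '' ({t} ∪ (w π T '' L ∪ pr π T σ '' S))

/-- **The first fusion theorem**: some lift of a root involution is conjugate to `t`. -/
theorem exists_conj_root [Finite G] (hG : ∀ H : Subgroup G, H.index ≠ 2)
    (hle : M ≤ Subgroup.centralizer ({(t : G)} : Set G))
    (h2 : M.relIndex (Subgroup.centralizer ({(t : G)} : Set G)) = 2)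
    (C : Cover π t) (R : Roots E T) (hσ : ∀ r ∈ T, σ r ∈ T) (h : Ind π σ u)
    (hut : u * t = t * u) (huM : u ∉ M) (hu : u * u = 1 ∨ u * u = t)
    (hK : Gen K L S) (hc : Cent K L S) :
    ∃ g : G, g * t * g⁻¹ = ((w π T K.r : M) : G) ∨ g * t * g⁻¹ = t * ((w π T K.r : M) : G) := by
  have hMt : ∀ x ∈ M, x * (t : G) = t * x := fun x hx => Subgroup.mem_centralizer_singleton_iff.1 (hle hx)
  have htt : (t : G) * t = 1 := congrArg Subtype.val C.t_mul_t
  have ht1 : (t : G) ≠ 1 := fun h1 => C.ne (Subtype.ext h1)
  have hru : ((w π T K.r : M) : G) * u = u * ((w π T K.r : M) : G) := h.w_mul C R hσ K.m_r K.σ_r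
  have hcl : IsPGroup 2 (Subgroup.closure (lifts π T σ t L S)) := by
    -- the closure of the lifted set inside `M`
    have e1 : Subgroup.closure (lifts π T σ t L S) =
        (Subgroup.closure ({t} ∪ (w π T '' L ∪ pr π T σ '' S))).map M.subtype := by
      rw [MonoidHom.map_closure]
      rfl
    rw [e1]
    apply IsPGroup.map
    intro x
    have h1 : π (x : M) ∈ Subgroup.closure (L ∪ (fun c => c * σ c) '' S) := by
      have h3 : (Subgroup.closure ({t} ∪ (w π T '' L ∪ pr π T σ '' S))).map π ≤
          Subgroup.closure (L ∪ (fun c => c * σ c) '' S) := by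
        rw [Subgroup.map_le_iff_le_comap, Subgroup.closure_le]
        rintro y (hy | ⟨l, hl, rfl⟩ | ⟨c, hc', rfl⟩)
        · rw [Set.mem_singleton_iff] at hy
          rw [hy]
          show π t ∈ Subgroup.closure (L ∪ (fun c => c * σ c) '' S)
          rw [C.map_t]
          exact one_mem _
        · show π (w π T l) ∈ Subgroup.closure (L ∪ (fun c => c * σ c) '' S)
          rw [map_w C R (hK.l_mem l hl)]
          exact Subgroup.subset_closure (Or.inl hl)
        · show π (pr π T σ c) ∈ Subgroup.closure (L ∪ (fun c => c * σ c) '' S)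
          rw [map_pr C R hσ (hK.s_mem c hc')]
          exact Subgroup.subset_closure (Or.inr ⟨c, hc', rfl⟩)
      exact h3 ⟨x, x.2, rfl⟩
    obtain ⟨k, hk⟩ := hK.two ⟨π (x : M), h1⟩
    have h4 : π ((x : M) ^ 2 ^ k) = 1 := by
      rw [map_pow]
      exact congrArg Subtype.val hk
    refine ⟨k + 1, Subtype.ext ?_⟩
    show (x : M) ^ 2 ^ (k + 1) = 1
    rw [pow_succ, pow_mul]
    rcases (C.ker _).1 h4 with h5 | h5
    · rw [h5, one_pow]
    · rw [h5, pow_two, C.t_mul_t]
  have hval : ∀ {x y : M}, x * y = y * x → (x : G) * (y : G) = (y : G) * (x : G) := fun h1 => congrArg Subtype.val h1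
  refine FusParity2.exists_conj2 (z := (t : G)) (M := M) (u := u) (r := ((w π T K.r : M) : G))
    (s := ((sh π K : M) : G)) (c := ((w π T K.a : M) : G)) (n := ((w π T K.b : M) : G)) hG htt ht1 hle h2 t.2 hut huM hu
    (w π T K.r).2 (sh π K).2 (congrArg Subtype.val (w_sq C R K.m_r))
    (fun h1 => w_ne_one C R K.m_r (Subtype.ext h1)) (congrArg Subtype.val (sh_sq K C R))
    (fun h1 => sh_ne K C R (Subtype.ext h1)) (hval (r_sh K C R)) hru (sh_u K h C R hσ)
    (lifts π T σ t L S) ?_ hcl ?_ ?_ ?_ ?_ ?_ (hMt _ (w π T K.a).2) (hval (a_r K C R)) (hval (a_sh K C R))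
    (c_u K h C R hσ) (hMt _ (w π T K.b).2) ?_ (four K h C R hσ hMt hut) (five K h C R hσ hMt)
  · rintro _ ⟨p, (hp | ⟨l, hl, rfl⟩ | ⟨c, hc', rfl⟩), rfl⟩
    · rw [Set.mem_singleton_iff] at hp
      rw [hp]
      exact htt
    · exact congrArg Subtype.val (w_sq C R (hK.l_mem l hl))
    · exact congrArg Subtype.val (pr_sq C R hσ (hK.s_mem c hc') (hK.s_comm c hc'))
  · rintro _ ⟨p, (hp | ⟨l, hl, rfl⟩ | ⟨c, hc', rfl⟩), rfl⟩
    · rw [Set.mem_singleton_iff] at hp
      rw [hp]
      exact hut.symm
    · exact h.w_mul C R hσ (hK.l_mem l hl) (hK.l_σ l hl)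
    · have e1 := h.w_mul C R hσ (hK.s_mem c hc') (rfl : σ c = σ c)
      have e2 := h.w_mul C R hσ (hσ _ (hK.s_mem c hc')) (hK.s_σσ c hc')
      have e3 := hval (w_comm C R (hK.s_mem c hc') (hσ _ (hK.s_mem c hc')) (hK.s_comm c hc'))
      show ((w π T c : M) : G) * ((w π T (σ c) : M) : G) * u = u * (((w π T c : M) : G) * ((w π T (σ c) : M) : G))
      rw [mul_assoc, e2, ← mul_assoc, e1, mul_assoc, ← e3]
  · rintro _ ⟨p, -, rfl⟩
    exact hMt _ p.2
  · rintro _ ⟨p, (hp | ⟨l, hl, rfl⟩ | ⟨c, hc', rfl⟩), rfl⟩
    · rw [Set.mem_singleton_iff] at hp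
      rw [hp]
      exact (hMt _ (w π T K.r).2).symm
    · exact hval (w_comm C R (hK.l_mem l hl) K.m_r (hK.l_r l hl))
    · exact hval (s_r C R hσ hK hc')
  · rintro _ ⟨p, (hp | ⟨l, hl, rfl⟩ | ⟨c, hc', rfl⟩), rfl⟩
    · rw [Set.mem_singleton_iff] at hp
      rw [hp]
      exact (hMt _ (sh π K).2).symm
    · exact hval (l_sh C R hK hl)
    · exact hval (s_sh C R hσ hK hc')
  · -- the centraliser of the lifted generators
    intro x hx
    have htS : (t : G) ∈ lifts π T σ t L S := ⟨t, Or.inl rfl, rfl⟩
    have hxt : x * t = t * x := (hx _ htS).symm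
    -- elements of `M`
    have key : ∀ y : M, (∀ p ∈ lifts π T σ t L S, p * (y : G) = y * p) → ∃ m a : G, (m = 1 ∨ m = t) ∧
        (a = 1 ∨ a = ((w π T K.r : M) : G) ∨ a = ((sh π K : M) : G) ∨ a = ((w π T K.r : M) : G) * ((sh π K : M) : G)) ∧
        (y : G) = m * a := by
      intro y hy
      have h5 := hc (π y) (fun l hl => by
        have h6 : w π T l * y = y * w π T l := Subtype.ext (hy _ ⟨w π T l, Or.inr (Or.inl ⟨l, hl, rfl⟩), rfl⟩)
        have h7 := congrArg π h6
        rwa [map_mul, map_mul, map_w C R (hK.l_mem l hl)] at h7) (fun c hc' => by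
        have h6 : pr π T σ c * y = y * pr π T σ c :=
          Subtype.ext (hy _ ⟨pr π T σ c, Or.inr (Or.inr ⟨c, hc', rfl⟩), rfl⟩)
        have h7 := congrArg π h6
        rwa [map_mul, map_mul, map_pr C R hσ (hK.s_mem c hc')] at h7)
      have fin : ∀ a : M, π y = π a → ∃ m : G, (m = 1 ∨ m = t) ∧ (y : G) = m * (a : G) := by
        intro a h8
        rcases C.eq_or h8 with h9 | h9
        · exact ⟨1, Or.inl rfl, by rw [one_mul, h9]⟩
        · exact ⟨t, Or.inr rfl, congrArg Subtype.val h9⟩
      rcases h5 with h5 | h5 | h5 | h5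
      · obtain ⟨m, hm, hym⟩ := fin 1 (by rw [h5, map_one])
        exact ⟨m, _, hm, Or.inl rfl, hym⟩
      · obtain ⟨m, hm, hym⟩ := fin (w π T K.r) (by rw [h5, map_w C R K.m_r])
        exact ⟨m, _, hm, Or.inr (Or.inl rfl), hym⟩
      · obtain ⟨m, hm, hym⟩ := fin (sh π K) (by rw [h5, map_sh K C R])
        exact ⟨m, _, hm, Or.inr (Or.inr (Or.inl rfl)), hym⟩
      · obtain ⟨m, hm, hym⟩ := fin (w π T K.r * sh π K) (by rw [h5, map_mul, map_w C R K.m_r, map_sh K C R])
        exact ⟨m, _, hm, Or.inr (Or.inr (Or.inr rfl)), hym⟩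
    have hSu : ∀ p ∈ lifts π T σ t L S, p * u = u * p := by
      rintro _ ⟨p, (hp | ⟨l, hl, rfl⟩ | ⟨c, hc', rfl⟩), rfl⟩
      · rw [Set.mem_singleton_iff] at hp
        rw [hp]
        exact hut.symm
      · exact h.w_mul C R hσ (hK.l_mem l hl) (hK.l_σ l hl)
      · have e1 := h.w_mul C R hσ (hK.s_mem c hc') (rfl : σ c = σ c)
        have e2 := h.w_mul C R hσ (hσ _ (hK.s_mem c hc')) (hK.s_σσ c hc')
        have e3 := hval (w_comm C R (hK.s_mem c hc') (hσ _ (hK.s_mem c hc')) (hK.s_comm c hc'))
        show ((w π T c : M) : G) * ((w π T (σ c) : M) : G) * u = u * (((w π T c : M) : G) * ((w π T (σ c) : M) : G))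
        rw [mul_assoc, e2, ← mul_assoc, e1, mul_assoc, ← e3]
    by_cases hxM : x ∈ M
    · obtain ⟨m, a, hm, ha, hxa⟩ := key ⟨x, hxM⟩ hx
      exact ⟨m, a, hm, ha, Or.inl hxa⟩
    · -- `u⁻¹ * x ∈ M`
      have hut' : u⁻¹ * t = t * u⁻¹ := by
        rw [inv_mul_eq_iff_eq_mul, ← mul_assoc, hut, mul_assoc, mul_inv_cancel, mul_one]
      have huM' : u⁻¹ ∉ M := fun h1 => huM (by simpa using M.inv_mem h1)
      have h6 : u⁻¹ * x ∈ M := (FusParity.mul_mem_iff hle h2 hut' hxt).2
        ⟨fun h1 => absurd h1 huM', fun h1 => absurd h1 hxM⟩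
      obtain ⟨m, a, hm, ha, hxa⟩ := key ⟨u⁻¹ * x, h6⟩ (fun p hp => by
        show p * (u⁻¹ * x) = u⁻¹ * x * p
        have h7 := hSu p hp
        have h8 : p * u⁻¹ = u⁻¹ * p := by
          rw [eq_inv_mul_iff_mul_eq, ← mul_assoc, ← h7, mul_inv_cancel_right]
        rw [← mul_assoc, h8, mul_assoc, hx p hp, mul_assoc])
      refine ⟨m, a, hm, ha, Or.inr ?_⟩
      have h7 : x = u * (m * a) := by
        rw [← hxa]
        show x = u * (u⁻¹ * x)
        group
      rw [h7]
      rcases hm with hm | hm
      · rw [hm, one_mul, one_mul]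
      · rw [hm, ← mul_assoc, hut, mul_assoc]
  · rw [mul_inv_eq_iff_eq_mul]
    exact congrArg Subtype.val (n_sh K C R)

end group

end Cfsg.Agent.BabyU.FusGen
end

-- part: TwoESix/SwapData
section
set_option autoImplicit false

namespace Cfsg.Agent.TwoESix.SwapData

/-- words for the conjugating elements -/
def sw : List (List ℕ) := [
  [13, 23, 14, 20, 17, 12, 11, 13, 23, 17, 14, 20, 13, 12, 11],
  [24, 11, 13, 10, 12, 20, 13, 23, 18, 12, 13, 25, 16, 21, 13, 12, 11],
  [15, 22, 13, 24, 10, 11, 13, 12, 22, 16, 18, 24, 12, 20, 13, 12, 11],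
  [20, 16, 13, 12, 10, 12, 22, 18, 24, 14, 13, 12, 20, 12, 11],
  [15, 21, 23, 12, 20, 17, 13, 23, 14, 20, 12, 13, 11],
  [12, 22, 11, 13, 24, 14, 17, 13, 23, 14, 12, 20, 13, 12, 11],
  [22, 17, 14, 12, 22, 12, 13, 23, 17, 13, 24, 13, 12, 11],
  [16, 22, 23, 12, 20, 17, 13, 23, 14, 20, 12, 13, 11],
  [12, 21, 11, 13, 25, 14, 17, 13, 23, 14, 12, 20, 13, 12, 11],
  [21, 18, 16, 12, 22, 12, 13, 23, 18, 13, 24, 13, 12, 11]]

/-- packed matrices -/
def Sm : List ℕ := [
  0x8008aa800000000000230013f70008a8000572c880028028000000000a31022fa0508a9408573ca00882828000000000814031ad0508a8800573220800822280000000000410030c45000a0200008a002020a800000000a31422ea4158a9e01571522a008222800000000004d40104c70020e0080000020008028000000000000400300500100400000080008028000000000001000100500100a000000a800802800000000000350010070100c0400000802000228000000000010040004500005000800028000022000000230022fa00086d40855060002200800a800000000000440300150100100080020288008a000000230026a7100bbd804560e800020200022000000230022ea40086de0357af0000000800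0000000000000000100000100e0402800080080220000008250229a0108e5c08551828008082020a000000a25023ab040cbdc00521e2280082208000000000045001044100000202800a800020a022000000821522aac148e5c0157b1000a00080080000000000014001001000004040000a0008020000000000001400300400000a0400008220002080000000000104400041000050000002220800a000000000000444100140000104000008880022a000000220023bb000c7dc00502422a000000000ab800000002a0000000110c000000088280022a50215ca8002aa00008a9904572200088aa0022a780d5c0c000000200000100e000a808aa82822a72215c08088000008002042080088a8aa808a2af0857cac088000008002012080000088000020040211000000a00000201004a40000000820000028080a0000000a800020601118000000000000000020000000000200000100404000000008000004008100000000200000100104000200002280003802a00000200000a0000c04408008a28002087021548a0022a8000a81c04566a8008aaa00208700d5e2c000000200000000e0408000a880020a0000008300015b000c158004118000822000228000000220030cc000459c0007040008800002004001100a0000000008a9c005701,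
  0x822000800000000002010c600120208084886500008002020000000000000100040400080000000000000808000000000000000010100004000028280000202000000080705200024249084885a080200800808000000001004010010100200000000080008002000000000001000100040800800200880020200000000004013000404010008000080200008080000000001004000101000040000000080000000000000000001000000000800400a20a20082020000000a164964012424b084887f200088020200000000004001100c0400048020008820280080800000000110407001010400200000000080000000000000000001000000024010080a000a808080000002121c20152321b09488e68002800000820000002120870002010f084082400000002000000000000000000040000080040000000000800000000000000000010000000000020200002a20200000000404000054404000080008000000888000000000100000011100020010020008002000000000000400100040000000040008000000800000000000100000010000004000002080002228200000080249200064707084881b008200808880000000000104010111000000100002080008000000000000041000100000000c0000008000808202122100000200000000080800020080800000041010000000002000000020200080800220000094404002208a0022020a1848848000000000000000010000000000800000880200000000000000001004002002000222090a488c30000000000000020000000000000000000400000a208800a0a2e31b2180000002000000421200000008000000040001000002020000800808820000000080000010100400208208a2022b384a8cb000000000000020030000000000000000800000000000020000012010000000000000000240000082080008880c25204082082000200030840c000020800080020000008020c30001020c08008100800000080800000002010820003030008480050800000080020202000c2080000002090808001,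
  0x800aaaa800000000000100355d500001e000000aa028800a200000000a1542fba814ea070867f4a88880820880000000835139a9841ba0b0467faa2800a22082000000083452a9e441ae150267db8a8020a0a008000000a1152aebc14ab190167ddaaa00882a802000000017d40110d70040f00000000a200800a000000000001440300140100c000000a0208020800000000001404100410100a000800a8000028200000021001faa800da5f0c67ef00082208020800000000001044100410100500080082808022200000021001afa900e65f0a67ce0002220800a000000000000444300140100300080020288008a00000021002ea79009b5f0567c680002220002a00000021002ae6c00a75f0367e700000008000000000000000000100000000f0000a088802a0820000008014399a854badf0861d0208280828a02000000a0412fab851ea5f0462d620802822280a000000a0412afac45ab5f0265770a0002a0a82200000080142aad415aedf0166790002200802a000000000000440100540000c04000080208028800000000001004300510000a0400008020802280000000000100430045000050400002200800a8000000000004401001500003040000088a802aa000000000001115007d400007802a8aaaa002a8cfc19f060002aa800aa0f0ce7c380028aa002a858289f8a0022a2800aa1a0547ea800a88a002a8740ddf2c000000000000100f000282000028000c230300088aaaa888aa37406deb08aaaaa08aa8ec81bb8c0a800000a002213088000088800020060221800000a02000201404850000002820002028084a0000000a8000206011180000000080000040201000000002000001004040000000080000040081000000002000001001040000aaaa2aaa87fc1b324002aaa8000a9f0ce3cb000aaaa0008a7c2896a8002aaa800889f0546a2000aaaa002827c0ddd0c000000000000000f0400002a8a0020800000080002ff14006b07002610000a220002a800000020003ccc000551f0007c4000a802002804c019308000000000aa1e006781,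
  0x8a008a080000000000013c011c1000000000000208220000200000000a0410cc0028421ef7f6558228028200800000000304d00704010000000008828022200200000000310d004c40040000000000822000a0080000000001044001401063100000a2088a00802000000003c411140300400000000a088a080000000000001413343000000000000008020000200000000a00108c0028420733d67e8028088a0080000000010070111c03000000000008200000200000000a0010c80028420735e65f8028802a0020000000010071005c00c00000000000002a000a000000000000007c0014000000000000022808020000000000000c50300400000000000028808020000000000000d1030040000000000000a800a0000000000000015003c000000000a00880208a20000000014033004114c0000000008000002208000000a001088002c430633ff77008000008208000000a0010880038430635fed6000000a008a000000000000003c01140000000000022000a20800000000000440014410000c6400000020808220000000000000430104c00000000000020808820000000000000430110c0000000000000000008000000000000000000100003180000000a000a2000000000000014003c4000000000822000a008e3dfd980800800000002d088000200020000000cc210000020880028020533d64b00822000a0080cd799a8000880000000700c000200220002008996fc9ac8008800200226adf44a00822000a008188bfd08020880028020614fee300022000a2087bfcd920000080008020213524000020000800810969100000000000000001318000022000a2081cce598c000880028820735664200000000000800044100000000000020001204000000000a00000c03e00000880028820633fd2a00022000a20818d7ea2c00000000002000100c00000000000080004050000000000000000031c000022000a00800000080000cc0014030601361000022000a00800000020000cc001401060006440000200080081042488c000000000020630f601,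
  0xc000000c01c330038c0000343330070c000e308380640018000402000009037000d00010000000240b4002c00040100000701a000600000040000818f3e8c39c314038cfc0d0c8630970cd00e31f82c529cc25c324038c4606044f0070004000028dc07800dc1c3b403ac24d01d333a070cd60eb01000600000380000200000034000009000008000000b000002400002000000180000070000000000000000000004002100000000000000000c8400000032040018040100000000843000d01000000800c0008030220010820000c22200f08d00a12a00002104002c0400800000004c200060000200080010008004210008420001022200508d00c22200001308001c080042000000c41000a000310800000000000000400010000000000000000060401808c003838000201000d0110009090000004002c02c00242400010100060060007070000400004387248c1bda3403844d091c4230d3d0d00e33b42470a4c2d6e340388f40700050061680000120000e0000018000020000002400000d0000080000009000002c000020000001c0000060000000000000120c0038000101000000c410009000000400000230c002400008100000048200070000200040070004000134038d00000011100d040000348dc30000000007180000000030000000000c0000c00b048c01c330038c1b00182130070cc00e30e000013300000040c000000000030000000060000000c000000042300001c09c123c070e548eb0f4427084c41c3a493ac1d071c22f0770cf13e3260000800000004022100000020000000100484000000302000300809420000000480001020130800000000000000002000000000020000010040400000000800000400810000000000000000010004017088dc1c0358390b400010000000000c800040070c8c02c134028d39001c23300604d00c34600000010001c000c410000000010000000060000004000000c034038c12000813100808800c1340007000001c000000020003822300900000e0200007000c01c004018008001c220000001000025,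
  0x4d0c0e08c01024416bc32010140000000000080c900003a0000000000021c000094000080000000000000480000800000000000031000020000012600002180080400000c7c00004d00201000000c8000008c000000000021000001200002000000020000000000280200000400000000000000001e11c2408da192441668f44e05023d4649105ba0c80004000c800000000210003000210004000000200080c002021010000040010200040000000630c23100238000000a3786149c2349749105bdbc104862bc03d3641e158000104c8004000000808410280008410040000130c0700013040100000000008000000090040000000100000000000008cf040408403d20014b102400000300400000088c13c0688c8dd24697b90009005003200000008080000024800020020001000000710000800800000000008000000000000000000100000000000209000030c000000000041c00008200000008000800000040000080000010000003000002000002002400322c90000000040070008461c00004000800000048800010040010000003110000401000e1842429d07d244146434510506fc3b4910539008200408cc000000000010403012200000010000208080c00000003400004101020000000000000100000000002c0000000400102300409505806f1044408c01da6c168400000100000000500004c9040508c015a40162100080c100001200b0000000000000000080200000400000000205008000000000000000080000000400000000200008000c1000438c0193440ea8000000000000020010003000410200029000a0000000100000042001000c1000408cc1924497040030101008c090a50400000004000001014800030410d52302779105c9000000000000028000000000000000000840d000c1040438c00d36414a400000000000002400000c1040408000d2003400304101023303491a1020010404080010000008030820301300848104100c0000008c000000002020410103100009100070c0000408001124004040001010230020010002,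
  0x40000004018170019c01002511000001c000008180e8003800000200000d0250009000100000002c094002400040000000601e000700000040000a3801602180020000080491ac614d605d0067370a46ab04ad8174019c661700490160004000028580680058181f401bc25f000110900020e00008000e0000018000000000002400000d0000080000009000002c000020000001c0000060000000000000000000004002100000000000000100c0000000812080238000100000010c4100490100000080080008020220010822002a2200020150867220002230400a404000000000448200170000200080010008004210008422001622000401904672a80001200001a08004222001aee100691f03670b00000000000004000100000000000000100e000380880018180002000009013000d0d0000004002402c002c2c000001000700600060600004000021802c02383a000008a34d1a42149691d00671bcac68a04a5a474019cd41600070170780000120000600000380000000000034000009000008000000b00000240000200000018000007000000000000832080218000100000010843004d000000400002210c00ac0000010000044c2001600002000c006000c000374019d03001b33000901d0060085810000000003380000000010000000000c0000400e8c84018170219c39001e23100605c04670640069a940181740d9c9c000000100000000e00000004000000042300003809a321806075406f07c42688c44181e481bc3c068000406002213080000008000000040221000000200000001004840000002820002028084a000000068000106011180000000000000000200000000002000001004040000000080000040081000000002000001001040c036888581807781909400030000000000c8000c0068484038374209d1b001a2110070dd04474ec00688b4019b740ddcbc000000300000000e00000040000008074019c32001f31300e08500261000060000018000000020003622100b00000602800068004018044019008001a22000000100002d,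
  0x40000004034130038c01001c11000000c000008180ec003800040200000d0260009000000800002c09c002400040100000601d000700010000000838516841b4114038c5e0910d400d0008000020824f2b442f4124038cc4073068106d04d00e319740d80074341b403ac25a001110700020600008000e0000018000020000002400000d0000000000009000002c000020000001c0000060000080000000000000004002100000000000000100c00000000120c0038040100000000c4200090000400080040008010220010822001422000100500e3220000230c00240400800000004810007010000008003000800c210008422003c22000c00900e32a000031080034080042000000881000702030000000000000000040001000000000000001006000380840018180002010009012000d0d00008000024024002c2c0001010007007000606000000400c18d2c84397a340384cc0d00700094980000228c2cd0ac427e634038857063424107c70d00e335000600000380000200000034000009000000000000b00000240000200000018000007000008000000032040018000101000000842000d0000400000002104002c0000810000004c3000600000040c00d000c000334038d03003433000700d00e0087410000000007180000000010000000000c000040090c84034130038c39003823100d04c00e306000031100000040c000000000010000000060000000400000004230000340b432140d06548eb07cc2d08c4c341a493ac3f0d342250dd04f13e32e0000800000004022100000020000000100484000000102000100809420000000c8000302013080000000000000000200000000002000001004040000000080000040081000000000000000001000c03d088743403583909400030000000000c8000c00d0484024334028d1b003421100e0cd00c34e000000300034000c41000000003000000006000000c0000004034038c320038313009085002210000d0000034000000020002c22100600000e028000d0004034004018008003422000000100002d,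
  0xc70406084030244169c23c20242100c09105af04b00001a000000000003180000d4000080000000000000c80000800000000000021000000000032e0000238008040000086c0000490000000000048000008400000000003100000130000200000002000000000028020000040000000000a00800363342c087a3924416e8840b040009400000020048000c00048000000003100020003100040000002000804002021010000040010300040840400e10421300218000000a25cf34f8214df49105bd9430c8e29401d3641e35d0c3134ed00b4d9078508c30280008c1004000012080700012000000000000008000000090040000000100000002401008450c0c08c01d200149113830302200b480052c843140e88487d246979910ce0352133f491a5ee08000002c80002002000100000061000000000000000000800000000000000000010000000000020b000010400000000004180000c3000000080008000000c0000080000010000002000000000002002c001224b000000004006000c4718000040008000000c8800010040010000002110000000000638c2c2b70dd24414e404100404882c0000020008200c08440000000000104020133000000100002080804000000034000041010300000000d0000300000000002c0000000c00302100c0950580e530ccc08403da6c16840000030000000050000c4b0c0f084035a401623000804300001200b0000000000000000080200000c00000000205008000000000000000080000000c0000000020000800043000c1840393440ea8000000000000020010001000c30200029000a000000030000004200100043000c084439244970400103030084090a5040000000c000001014800010c307f2102f79105c9000000000000028000000000000000000840d000430c0c18400d36414a400000000000002400000430c0c08000d200340010c303021103491a1020030c0c080030000008010410201100448104100400000084000000002030c3030320000910007040000c08003124004040003030210020010002,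
  0xc000000c038370019c00002f33300e0c0006708380680018000002000009035000d00010080000240bc002c000400000007019000600010040000a1803e023800200000824d3ab6349e0d500673f0acea90ca78374019ce6163a6f317e0d9006711f80e800f8383f401bc24b03a33350e0dde06f01000600000380000000000034000009000008000000b000002400002000000180000070000080000000000000004002100000000000000000c8400000832080218000100000010841004d0100400080080008020220010820000a22200a09d08252a0002210c00ac0400000000044c10016010020008003000800c210008420003222200f09d04462280003200003a08004220003aae300e59d03778300000000000004000100000000000000000e04018088003838000200000d0130009090000804002c024002424000001000600700070700004040023802402181a000008a1493a5234ded9d0065134a4e8a0cafac74019c75173a25316e69d00663d000e0000018000000000002400000d0000080000009000002c000020000001c000006000008000000812080238000100000010c430049000040400002230400a4000001000004483001700002040400e0004000174019d00000111100b040000748f830000000003380000000030000000000c0000c006848c038370219c1b003621300e0dc04670ec00ebabc0383740d9cbc000000300000000e0000000c00000004230000180ba12380e0f5406f0f4c2e884cc383e481bc1c0e8000c0e002213080000008000000040221000000200000001004840000002820002028084a0000000e8000306011180000000000000000200000000002000001004040000000080000040081000000002000001001040401e888f8380778190b400010000000000c8000400e8c8c018174209d39003a23300d05d044746400e889c03b9740ddc9c000000100000000e000000c0000008074019c120005131004098004134000e00000380000000200026223007000006020000e800c038044019008003a220000001000025]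

/-- the conjugating matrix -/
def mG : ℕ := 0x8203d4848900900400030c08a3021842120c0c5b70399bb12ce9643551ff60e4da8d8701b9a300c300c0c44c1080840002080102332002401008c613078301c04840235134487a3b1d442528f600000100040c1084800000000e00302000120004412008444c81c44e506328404d3122831010e58401b14443d11402814920018e020bc8000041e000001c0004c1010000000000f000320000010048c140048c851c06d60e120605d12320700b0270801030c80911010c4e830080f1302d84001060aba0f516bad1d00daf68de9a234de80a103c98600000080000c000080000000010000200000100000000400000000484000000020000000012000008000d0080810004200030006803020001300000020384008c10004500000c0e2003304003100722b01bb21eb9004a735859604e85d5b3009c51048200c048c81004000031040203121000120008562227854fc8800a5263d044203d29830120c800c002000c040000000002000600203040121004007a08801e354025593003044100c54000106c0003028000c81000840000080600021040001008003318000f61400852100088210028c40011640000018000041000840000000c00003000000004000012c00070c00429200000c80003830010c800c30394c8450cd4612401040e512134721b48b4bafe3933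9f3c61f2e780000000000000012100000003c00c041080c20000000e00033040411400c92400000c9d2d0960ef6eb902c876cee6bb090000004000001084040003000b403010230208013a127953a73b42ea7d000000100000040500004fa220dcf859941c6310000000000000001000000010384004c1402c400003a00100e0100064400000000000000000800000000e0000304001100c0e002a40c079c04e7b7000e0a90032570095acc003ba8c00f970035db00000020000004002100000000a000001800c60000000020000010000400c4103bcc48a000483a022000352222c00021b40c020200c04410000420200407a20308300318c004301d404c00c144508000c06b0031860001c9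

/-- its inverse -/
def mGi : ℕ := 0x48c0015044811c14c72331080e2220381012124f6bf221191da064233ca84e744bccdc4694388604810240cccc10148400310c040222204010100056113643cb01854e7cc3dccc5f3b08c620390500c0030004040080840002000b00303002100004890007cc4011cd4039501840c01031a404202c0007a21c03b1040210bc003343c00ab010585c8000302c00044001404000008070003300052100000143e8004d0016079f00060ca00309300002c000330ac849a001003f80008816322dc0040056000154a2b4f1001b10247debe616ea75f958dc500000180000c0004840000000f00002000021000000004000000004800000000200000040000000000005008000000c40001000b801020620210000000004008c0000c00000040f2001301052100f6b88368ff8d0244373684d40003a83c7918dfe0482004004401000000031040100330040521000562233844de184407343dc4461200dc624315300c00280000c0080040002000400002002021000007a21000da040203bc003343e002fc105b148000302c0000c001484000008070000200050100000330ac84cc0010c0f800088163210000431160000018000000004800000000f000000000200048c00314088c1c100402120c01a0111070020008cd3034c8486949421b700090760033930595a41f7905d660397e45e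cec00000100000040021000040021008001880420000040f1002201052140c8f0c23cc00c5e50b30454aeb5d51e69971b6a6000000c000001080040001000ac010306112180000abdd403ce043d0fbc00000300000000521000000000050a50018e58400000000000000100000000000c0000000241000000000007dc000f4c0000000000000000080000000000000100003100c44202bc044c8c540707000c08f00031300a0c31f785174d59a7e5df2c800000000000040120000040024000041880440000040f000010105110048c001a808c41c1404a3310c03a1021000520f4000002404c840004042123040552310060031cc0001033c004c0400c3092300056111307051089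

end Cfsg.Agent.TwoESix.SwapData
end

-- part: TwoESix/SwapNodes
section
set_option autoImplicit false
set_option Elab.async false

namespace Cfsg.Agent.TwoESix.SwapNodes

open Cfsg.Agent.TwoESix.Data Cfsg.Agent.TwoESix.Words Cfsg.Agent.TwoESix.Iso Cfsg.Agent.TwoESix.Gens
open Cfsg.Agent.TwoESix.Rels Cfsg.Agent.TwoESix.Main Cfsg.Agent.TwoESix.RootsCfg Cfsg.Agent.TwoESix.Phi
open Cfsg.Agent.TwoESix.SwapData Cfsg.Agent.TwoESix.FrameCfg
open Cfsg.Agent.Lib Cfsg.Agent.Lib.F2MatGroup

/-- the ten root involutions -/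
def S0 (i : Fin 10) : GL (Fin 78) (ZMod 2) := evG LG (cw (sw.getD i []))

theorem sw_lets : (sw.all fun w => lets w) = true := by decide +kernel

theorem S0_mem (i : Fin 10) : S0 i ∈ TG := by
  apply cw_mem
  have h : (i : ℕ) < sw.length := i.2
  rw [List.getD_eq_getElem _ _ h]
  exact List.all_eq_true.1 sw_lets _ (List.getElem_mem h)

theorem S0_check : ((List.range 10).all fun i =>
    Nat.beq (evW 78 (Ts ++ Ms) (cw (sw.getD i []))) (Sm.getD i 0)) = true := by decide +kernel

theorem codes_S0 (i : Fin 10) : Codes 78 (S0 i) (Sm.getD i 0) := by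
  have h1 := List.all_eq_true.1 S0_check i (List.mem_range.2 i.2)
  rw [← Nat.eq_of_beq_eq_true h1]
  exact codes_evW codes_LG _

theorem G_check1 : Nat.beq (F2Mat.mul 78 mG mGi) (F2Mat.one 78) = true := by decide +kernel
theorem G_check2 : Nat.beq (F2Mat.mul 78 mGi mG) (F2Mat.one 78) = true := by decide +kernel

/-- the conjugating matrix -/
def Gc : GL (Fin 78) (ZMod 2) := F2MatGroup.unit 78 mG mGi G_check1 G_check2

theorem codes_Gc : Codes 78 Gc mG := rfl

theorem conj_check : ((List.finRange 10).all fun i : Fin 10 =>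
    Nat.beq (F2Mat.mul 78 mG (Sm.getD i 0)) (F2Mat.mul 78 (Ts.getD i 0) mG)) = true := by decide +kernel

theorem Gc_S0 (i : Fin 10) : Gc * S0 i = T i * Gc := by
  have h := List.all_eq_true.1 conj_check i (List.mem_finRange i)
  have hT : Codes 78 (T i) (Ts.getD i 0) := rfl
  exact (codes_Gc.mul (codes_S0 i)).eq (hT.mul codes_Gc) h

theorem S0_eq (i : Fin 10) : S0 i = Gc⁻¹ * T i * Gc := by
  rw [mul_assoc, ← Gc_S0, inv_mul_cancel_left]

theorem phi_check : ((List.finRange 10).all fun i : Fin 10 =>
    Nat.beq (F2Mat.mul 78 (F2Mat.mul 78 mPhi (Sm.getD i 0)) mPhi) (Sm.getD (BabyU.OutFree.pBC i) 0)) = true := by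
  decide +kernel

theorem Phi_S0 (i : Fin 10) : Phi.Phi * S0 i * Phi.Phi = S0 (BabyU.OutFree.pBC i) := by
  have h := List.all_eq_true.1 phi_check i (List.mem_finRange i)
  exact ((codes_Phi.mul (codes_S0 i)).mul codes_Phi).eq (codes_S0 _) h

theorem conj_T (i : Fin 10) : (MulAut.conj Gc⁻¹).toMonoidHom (T i) = S0 i := by
  show MulAut.conj Gc⁻¹ (T i) = S0 i
  rw [MulAut.conj_apply, inv_inv]
  exact (S0_eq i).symm

theorem range_S0 : Set.range S0 = (MulAut.conj Gc⁻¹).toMonoidHom '' Set.range T := by
  ext x
  constructor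
  · rintro ⟨i, rfl⟩
    exact ⟨T i, ⟨i, rfl⟩, conj_T i⟩
  · rintro ⟨_, ⟨i, rfl⟩, rfl⟩
    exact ⟨i, (conj_T i).symm⟩

theorem closure_eq : Subgroup.closure (Set.range S0) = Gam := by
  have hle : Subgroup.closure (Set.range S0) ≤ Gam := by
    rw [Subgroup.closure_le]
    rintro _ ⟨i, rfl⟩
    exact TG_mem (S0_mem i)
  have hfin : Finite (GL (Fin 78) (ZMod 2)) := inferInstance
  apply SetLike.coe_injective
  apply Set.eq_of_subset_of_ncard_le hle _ (Set.toFinite _)
  have e1 : Subgroup.closure (Set.range S0) = (Subgroup.closure (Set.range T)).map (MulAut.conj Gc⁻¹).toMonoidHom := by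
    rw [MonoidHom.map_closure, range_S0]
  have e2 : Subgroup.closure (Set.range T) = Gam := H_eq
  have hinj : Function.Injective (MulAut.conj Gc⁻¹).toMonoidHom := (MulAut.conj Gc⁻¹).injective
  rw [e1, e2, Subgroup.coe_map, Set.ncard_image_of_injective _ hinj]

/-- the ten root involutions in `Gam` -/
def S (i : Fin 10) : ↥Gam := ⟨S0 i, TG_mem (S0_mem i)⟩

theorem S_mem (i : Fin 10) : S i ∈ TS := S0_mem i

theorem sig_S (i : Fin 10) : sig (S i) = S (BabyU.OutFree.pBC i) := Subtype.ext (Phi_S0 i)

theorem Y333_S : Y333 S := by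
  apply Y333.of_injective Gam.subtype Subtype.coe_injective
  have h := Y333_T.map (MulAut.conj Gc⁻¹).toMonoidHom
  have e : (fun i => (MulAut.conj Gc⁻¹).toMonoidHom (T i)) = fun i => Gam.subtype (S i) := funext conj_T
  rwa [e] at h

theorem closure_S : Subgroup.closure (Set.range S) = ⊤ := by
  apply Subgroup.map_injective (f := Gam.subtype) Subtype.coe_injective
  rw [MonoidHom.map_closure, ← MonoidHom.range_eq_map, Subgroup.range_subtype]
  have e : Gam.subtype '' Set.range S = Set.range S0 := by rw [← Set.range_comp]; rfl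
  rw [e]
  exact closure_eq

/-- the nodes generate `Gam` and satisfy the relations -/
theorem gg_S : BabyU.OutFree.GG S := ⟨GoodInst.good_of_Y333 Y333_S, closure_S⟩

end Cfsg.Agent.TwoESix.SwapNodes
end

-- part: TwoESix/FrameUData
section
set_option autoImplicit false

namespace Cfsg.Agent.TwoESix.FrameUData

/-- words for the long roots, in the order of `CentLin.U0` -/
def lwd : List (List ℕ) := [
  [10, 11, 13, 12],
  [23, 20, 10, 11, 13, 12],
  [],
  [13, 12],
  [23, 20, 13, 12],
  [13, 23, 12, 20, 13, 12],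
  [17, 23, 14, 20, 10, 11, 13, 12],
  [17, 23, 14, 20, 13, 12],
  [17, 13, 23, 14, 12, 20, 13, 12],
  [23, 19, 13, 24, 21, 14, 12, 20, 13, 12],
  [13, 23, 19, 12, 13, 24, 21, 14, 12, 20, 13, 12],
  [11, 13, 23, 19, 10, 12, 13, 24, 21, 14, 12, 20, 13, 12]]

/-- words for the elements `c`, in the order of `CentLin.U0 (12 + i)` -/
def cwd : List (List ℕ) := [
  [13, 12, 21, 13, 25, 17, 14, 12, 10, 12, 20, 12, 13, 11],
  [15, 19, 23, 12, 20, 13, 23, 12, 20, 17, 14, 10, 12, 20, 12, 13, 11],
  [23, 12, 20, 13, 23, 12, 20, 18, 16, 10, 12, 20, 12, 13, 11],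
  [15, 20, 19, 23, 12, 13, 23, 15, 12, 20, 17, 14, 10, 12, 20, 12, 11],
  [22, 24, 12, 13, 23, 15, 12, 20, 17, 14, 10, 12, 20, 12, 11],
  [12, 13, 25, 14, 12, 21, 17, 14, 10, 12, 20, 12, 11],
  [15, 20, 19, 23, 12, 20, 14, 11, 13, 10, 12, 20, 14, 12, 20, 12, 11],
  [22, 24, 12, 20, 14, 11, 13, 10, 12, 20, 14, 12, 20, 12, 11],
  [12, 20, 16, 11, 13, 10, 12, 20, 16, 12, 20, 12, 11],
  [20, 16, 10, 11, 13, 10, 12, 20, 16, 12, 20, 12],
  [23, 16, 10, 11, 13, 10, 12, 20, 16, 12, 20, 12],
  [17, 24, 10, 11, 13, 10, 12, 22, 14, 12, 22, 12]]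

/-- matrices of the elements `c` -/
def Cm : List ℕ := [
  0x90000800000000000001c00010000000000000020000000000000000000400000000000000000008000002000002000000100000040000000000002000000000001000000040000000000000000000b0000020000000000001800000400000000000020000000000000000000400000000000000000008000000000020000000100000000000000000002c000020000000000000600000400000000000008000000000000000000100000000000000020002c0000000000000040006000000000000000000080000000000000000001000000000000000800020100200200084010000400004000000200000008040020000000000000103000400000000020002010000000000000400040c000000000000008008010000000000000100100c00000000000000002000000000000000000040000000000000000000800000000000000000010000000000000000000200000000000000000004000000000000000000080000002000000000001000000000000000000020000000000000000000400000000000000000008000001000000000000100000000000000002002000000800000000040040000000000000000800b0000000000000001001800000000000000000020000000000000000000400000000000000000008100000000000000000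1008000000000000000020000000100000040000480022a01000000000088080000001000000001100400000000000000002000000000000000000040000000000000000000802000000000000000010000000000000000000200000000000000000004040000000000000001080000000000001000021008000000000000000020000000000000000008400000000000004000108100000000040040080120a000000000000000020000000000000000000400000000000000000008000000000000000000100000000000000000022000000000000000000440000000000000000000800000000000000800210000000010000000000200000000c00000000204000000000000000000080000000000000800201,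
  0x8000008000001000000100000100000000000002c000000800000000000600000010000000000008000000000000000000100000000000000000002400000080000000000070000001000000000000800000000000000000010000000000000000000200000000000800000004000000000000000000090000008000000000001c000001000000000000200000000000000000004000000000000000000080000000001000000001000000000000000000023000008000000000000480000100000000800008400002100004190000100000040000008000002000000000000000000040000000000000000000800000000000000000010000000000000000000200000000400000000004000000000000000000080000000080000000001000000000000080000024000000000001000000700000000000000000008000000000000000000100000000000008000002c000000000001000000600000000000000000008000000000000000000100000000000002000002c000000000000400000600000000000000000008000000000000000000100000000000000200002400000000000004000070000000000000000000800000000000000000010000000000000080000200000400000001000004000000000000000000080800000000000000001004000040000040000030000488000000000000400000000000000000008040000000000000000100200000000000000002000000004000000002040080000000000000000800000000000000000010000000004000000040201000000000000000004000000000010000008080200000000000000001000000000000000000020000000000100000100404000000000000000008000000000000000000100000000000000000802000000000000000004040000000040000110000ca80000000000000000100000000000000000402000000000000000002040000000400000000000800000030000004000010000000000000000000200000000000004000104000000000000000000080000000000004000101,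
  0x84000080000000000001200001000000000000020000000800002000000400000010000000000008000000000000000000100000000000000000002100000080000000000048000001000000000000800000000000800000010000000000000000000200000000000000000004000000000000000000084000008000000000001200000100000000000020000000000100000000400000000000000000008000000000000000000100000000000000020002000400802000458400040000010000002800000801000200000000000010080004000000008000240000000000000100006000000000000000000080000000000000000001000000000000000200020040000000000004000402000000000000008008004000000000000100100200000000000000002000000000000000000040000000000000000000800000000000000000010000000000000000000200000002000000000004000000000000000000080000000000000000001000000000000000000020000001000000000000400000000000000000008000000000000000000100000000000000002002100000000000000040048000000000000000800800000400000000010010000000000000000000200000000000000000004000000000000000000080800000000000000001004000010000000400022000488000000000000400000000400000000088040000000400000001100200000000000000002000000000000000000040080000000000000000800000000000000000010000000000000000000201000000000000000004000000000000100001080200000000000000021000000000000000000020000000000000400008404000000000000000108000000000010010080110a000000000000000020000000000000000000400000000000000000008000000000000000000100000000000000000022000000000000000000440000000004000000000800000000300000800010000000004000000000200000000300000000104000000000000000000080000000000000800101,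
  0x800000200000080000010000004000000000000230000002000000000004800000040000000000084000000800000000001300000010000000000020000000000000000000400000000000000000008000000000000000000100000000000000000002000000000004000000040000000000000000000810000020000000000010c000004000000000002030000080000000000040800001000000008000801000020800029d00010000000400000080000200000000000000000004000000000000000000080000000008000000001000000000000000000020000000000000000000400000000000000000008000000004000000000100000000000000000002000000000000000000040000000000000000000800000000400000000010000000000000200000210000000000004000004c0000000000008000008c0000000000010000012000000000000000000200000000000000000004000000000000000000080000000000000000001000000000000002000023000000000000040000480000000000000200008400000000000004000130000000000000000002000000000000000000040000000000000000000800000000000000000010000000000000020000200000200000000400004000000000000000000080400001000000400001200008300000000000020080000000000000000401000000000000000008000000000000000000100100000100000000082002000000000000000040000000000000000000800000000000000000010000000000400000020200800000001000000404010000000000000000080000000000000000001000000000004000004020100000000000000000400000000000000000008000000000000000000100000000000000000402000000000400004200048b00000000000000080800000000000000001010000000000000000000200000000000000000104000000010000000000080000000c000002000010000000000000000000200000000000002000084000000100000080002080000000000002000081,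
  0x810000200000000000010800004000000000000200000002000010000004000000040000000000081000000800000000001080000010000000000020000000000000000000400000000000000000008000000000004000000100000000000000000002000000000000000000040000000000000000000804000020000000000010200000400000000200200001008010002dc4004000000100000028000080010002000000000001000800040000000000020000000000800000000400000000000000000008000000000000000000100000000000000020002100000000000000400048000000000000002000800400000000000040010020000000000000000200000000000000000004000000000000000008080010000000000000101000800000000000000020000000000000000000400000000000000000008000000020000000000100000000000000000002000000000000000000040000000000000000000800000000000000000010000000000000000000200000008000000000004000000000000000020081000000000000000401080000000000000000020000000000000000000400000000000000002008000002000000000040100000000000000000002000000000000000000040000000000000000000804000004000000040010400083000000000000200800000100000000024010000000000000000080000000000400000009001000000000000000020020000000000000000400000000000000000008000000000000000000100000000000000000002008000000000100000840100000000000000000800000000000000000110000000000000100002201000000000000000004000000000001004010082ac00000000000000210000000000000000000200000000000000000004000000000000000000080000000000000000009000000000000000000020000000000000000002400000000010000000008000000000c00004000100000000010000000002000000000c0000000084000000001000010002080000000000000400081,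
  0x804000200000000000010300004000000000000203000002000000000004080000040000000000080000000800008000001000000010000000000020000000000004000000400000000000000000008000000000000000000100000000000000000002000000000000000000040000000000000000080800000420008002e41010000000400000020000200c000080000000000040200001000000000000800040020000000000010003000400000000080203000000000000001004080000000000000020080010000000000000401000c0000000000000002000000000400000000040000000000000000000800000000000000000010000000000000000000200000000000000000004000000000000000000880004000000000000011000300000000000000020000000020000000000400000000000000000008000000000000000000100000000000000000002000000000000000000040000000000000000000800000000000000000010000000000000000008203000000000000000104080000000000000000080000004000000000001000000000000000000820000002000000000010400000000000000000008000000000000000000100000000000000000002000000000000000000040000000000000000000804000001000000010010200083010000000000a008000000000000000040100000000000000000800000000000400000050010000000000000000200200000000000000004000000000000000000080000000000000000001000000000000100000220080000000000000000401000000000000000048000000000000000000100000000000000400012010000000000104002040a3000000000000000080000000000000000011000000000000000000020000000000000000000400000000000000000028000000000000000000100000000000000000002000000000000000000140000000000000000000800000000010000000010000000000400000000200000000030000000084000000000400008002080000000000000200081,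
  0x800000080000040000010000001000000000000200c0000020000000000402000000400000000008010000008000000000100c000001000000000020010000020000000000400c0000040000000000800300000800000000010008000010000000080200004000204000195004000000004000000800080000000000000000001000000000000000000020000000000000000000400000000000000000008000000000020000000100000000000000000002000000000000000000040000000000000000000800000000010000000010000000000000000000200000000000000000004000000000000000000080000000008000000001000000000000000000020000000004000000000400000000000000000008000000000000000000100000000000000080002010000000000001000040c0000000000002000080c0000000000004000102000000000000020002030000000000000400040800000000000002000804000000000000040010300000000000000000200000000000000000004000000000000000000080000000000000000001000000000000000000020000000000000000000400000000000000000008000000000000000000100000000000000080002000001000000001000040000000400000040000840001040000000000010008000000000000000200100000000000000004002000000000000000080040000000000000001000000000040000000420010000000100000008400200000000400000108004000000004000002100080000000000000002000000000000000000040000000000000000000800000000000000000010000000000000000000200000000000000000004000000000000000000080000000000000000001000000000040001040021240000000000000008400000000000000000108000000000000000002100000000000000000042000000000000000000040000000040000000000800000003000001000010000000000000000000200000000000001000044000000040000040001080000001000000000001,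
  0x800400080000000000010020001000000000000200000000200002000004000000004000000000080040000080000000001002000001000000000020004000020000000000400200000400000000208000000108002001d4410000000010000002800200001000200000000004000080004000000000080000000000000000001000000000000000000020000000000020000000400000000000000000008000000000000000000100000000000000000002000000000010000000040000000000000000000800000000000000000010000000000000000080204000000000000001004200000000000000008080004000000000000101000200000000000000820001000000000000010400080000000000000008000000000000000000100000000000000000002000000000000000000040000000000000000000800000001000000000010000000000000000000200000000800000000004000000000000000002080100000000000000041008000000000000000020000000000000000000400000000000000000008000000000000000000100000000000000000002000000000000000000040000000000000000020800000100000000000410000000000000000000200000000000000000004000000010000000010080200104000000000001000800000000000000020010000000400000001400200000001000000028004000000000000000100000000000000000002001000000000000000040020000000000400002800400000000004000050008000000000000000200000000000000000004000000000000000000080000000000000410009006900000000000000020000000000000000000400000000000000000028000000000000000000500000000000000000002000000000000000000040000000000000000000800000000000000000050000000000000000000a00000000000000000004000000000010000000080000000000c00008001000000000010000000020000000000c000000044000000000100002001080000000004000000001,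
  0x80010008000000000001000c0010000000000002000c00002000000000040020000040000000000800000000800010000010000000010000000000a0000000060001001ec1400000000400000020008000c000080000000001000200001000000000020000040020000000000400003000400000000008000000000002000000100000000000000000002000000000000000000040000000000000000000800000000000000000010000000000000000002200c000000000000000440200000000000000008800010000000000000110000c000000000000002000000000080000000040000000000000000000800000000000000000010000000000000000000a0000400000000000001400030000000000000008000000000000000000100000000000000000002000000001000000000040000000000000000000800000000000000000010000000000000000000a0030000000000000001400800000000000000008000000040000000000100000000000000000002000000000000000000040000000000000000000800000000000000000010000000000000000000a0000001000000000001400000000000000000008000000000000000000100000000000000000002000000000000000000040000000040000000040801001040000000000010008000000400000000600100000000000000004002000000001000000180040000000000000001000000000000000000020010000000000400000c0020000000000000000800400000000001000030008000000000000000200000000000000000004000000000000005000180184000000000000001000000000000000000020000000000000000000c000000000000000000080000000000000000003000000000000000000020000000000000000000400000000000000000018000000000000000000100000000000000000006000000000000000000040000000000000000000800000000001000000010000000000040000000200000000003000000044000000000040001001080000000001000000001,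
  0x800010080000000000010000c0100000000000020000c0002000000000040002000040000000000a00000000900008016814000000010000000200200000000200008000004000000004000000000080003000080000000001000080001000000000020000010020000000000400000c00400000000008000000000001000000100000000000000000002200c000000000000000440200000000000000008800010000000000000110000c000000000000020000000000000000000400000000000000000008000000000000000000100000000000000000002000000000040000000040000000000000000000a0000400000000000001400030000000000000020000000000000000000400000000000000000008000000000000000000100000000000000000002000000000800000000040000000000000000000a0030000000000000001400800000000000000020000000000000000000400000000000000000008000000020000000000100000000000000000002000000000000000000040000000000000000000a000000100000000000140000000000000000002000000000000000000040000000000000000000800000000000000000010000000000000000000200000000000000000004000000001000000001080080104001000000001800800000000000000020010000000004000000600200000000000000008004000000000000000100000000000001000003001000000000000000040020000000000040000c0040000000000000001000800000000000000020000000000000014000600610000000000000008000000000000000000100000000000000000003000000000000000000040000000000000000000c0000000000000000001000000000000000000020000000000000000000600000000000000000008000000000000000000180000000000000000002000000000000000000040000000000000000000800000000000400000010000000000010000000200000000000c00000044000000000000000801080000000000400000001,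
  0x800001080000000000010000081000000000000208000000204000401704100000004000000028080000400080000000001000020001000000000020000100020000000000400008000400000000008000000008000400000100000000100000000002000000402000000000040000020040000000000802040000000000000010042000000000000000200000000000080000004000000000000000000080800040000000000001010002000000000000020000000000040000000400000000000000000008200010000000000000104000800000000000002000000000000000000040000000000000000000800000000000000000010000000000000000000200000000000000000004000000000000000000080000000000000000001000000000000000000020801000000000000000410080000000000000008000000004000000000100000000000000000002000000002000000000040000000000000000000800000000000000000010000000000000000000208000001000000000004100000000000000000080000000000000000001000000000000000000020000000000000000000400000000000000000008000000000000000000100000000000000000002000000000000000000040000000004000000004800401040004000000014008000000010000000280100000000000000004002000000000000000080040000000000000001000000000000004000028010000000000040000500200000000000000008004000000000000000100080000000000104002401a4000000000000004000000000000000000080000000000000000001000000000000000000028000000000000000000500000000000000000008000000000000000000100000000000000000002000000000000000000050000000000000000000a000000000000000000100000000000000000002000000000000000000040000000000004000000800000000000200010010000000000004000000200000000000300000044000000000000000401080000000000100000001,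
  0x802000080001000021b100400010000000000082000000302000000000040000008040000000000800000040800000000010000003010000000000200000010200000000004000000c0400000000008000000c0800000000010000002010000000000200000000200002000004000000004000000000080002010000000000001000040c0000000000002000080c0000000000004000102000000000000080000000000010000001000000000000000000020002030000000000000400040800000000000008000000000008000000100000000000000000002000804000000000000040010300000000000000800000000004000000010000000000000000000200000000002000000004000000000000000000080002000001000000001000040000000000000020000000000000000000400000000000000000008000000000000000000100000000000000000002000000000000000000040000000000000000000800000000000000000010000000000000000000200000000000000000004000000000000000000080000000000000000001000000000000000000020000000000000000000400000000000000000008000000000000000000100000000000000000002000000000000000000040000000001000000001800021040001000000010808000000004000000210100000000010000004202000000000100000084040000000001000041000849000000000000020010000000000000000400200000000000000008004000000000000000100080000000000000002000000000000000000040000000000000000000800000000000000000010000000000000000000210000000000000000004200000000000000000084000000000000000001080000000000000000020000000000000000000400000000000000000008000000000000000000100000000000000000002000000000000000000040000000000001000000800000000000080000810000000000000000000200000000000040000844000000000000000021080000000000040000001]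

/-- weights of the basis vectors -/
def wt : List ℕ := [
  11, 11, 11, 11, 11, 11, 0, 1, 2, 4, 5, 6, 6, 7, 9, 10, 8, 10, 12, 14, 12, 13, 15, 16, 16, 17, 18, 20, 21,
  22, 3, 3, 4, 4, 5, 5, 6, 6, 7, 7, 7, 7, 8, 8, 9, 9, 10, 10, 8, 8, 9, 9, 10, 10, 12, 12, 12, 12, 13, 13, 13,
  13, 14, 14, 15, 15, 14, 14, 15, 15, 16, 16, 17, 17, 18, 18, 19, 19]

/-- conjugate of `a` by the short root elements: 0 : `a`, 1 : `as_`, 2 : `a * r`, 3 : `a * c13` -/
def rho : List ℕ := [0, 1, 0, 3, 0, 0, 2, 0, 0, 0, 0, 0]

end Cfsg.Agent.TwoESix.FrameUData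
end

-- part: Lib/F2Unitri
section
/-!
# Unitriangular matrices over the field with two elements form a 2-group

`Uni n wt` : the elements `g` of `GL (Fin n) (ZMod 2)` with `g i j = δ i j` whenever `wt i ≤ wt j`.
-/

set_option autoImplicit false

namespace Cfsg.Agent.Lib.F2Unitri

open Cfsg.Agent.Lib.F2Mat Cfsg.Agent.Lib.F2MatGroup

variable {n : ℕ}

/-- unitriangular with respect to a weight function -/
def IsUni (wt : Fin n → ℕ) (A : Matrix (Fin n) (Fin n) (ZMod 2)) : Prop :=
  ∀ i j, wt i ≤ wt j → A i j = (1 : Matrix (Fin n) (Fin n) (ZMod 2)) i j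

theorem IsUni.one (wt : Fin n → ℕ) : IsUni wt 1 := fun _ _ _ => rfl

theorem IsUni.mul {wt : Fin n → ℕ} {A B : Matrix (Fin n) (Fin n) (ZMod 2)} (hA : IsUni wt A) (hB : IsUni wt B) :
    IsUni wt (A * B) := by
  intro i j hij
  rw [Matrix.mul_apply, Finset.sum_eq_single i]
  · rw [hA i i le_rfl, Matrix.one_apply_eq, one_mul, hB i j hij]
  · intro k _ hk
    rcases Nat.lt_or_ge (wt k) (wt i) with h | h
    · rw [hB k j (h.le.trans hij), Matrix.one_apply_ne, mul_zero]
      rintro rfl
      omega
    · rw [hA i k h, Matrix.one_apply_ne hk.symm, zero_mul]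
  · intro h
    exact absurd (Finset.mem_univ i) h

/-- `A - 1` lowers the weight -/
theorem IsUni.pow_sub {wt : Fin n → ℕ} {A : Matrix (Fin n) (Fin n) (ZMod 2)} (hA : IsUni wt A) (k : ℕ) :
    ∀ i j, wt i < wt j + k → ((A - 1) ^ k) i j = 0 := by
  induction k with
  | zero =>
    intro i j hij
    rw [pow_zero, Matrix.one_apply_ne]
    rintro rfl
    omega
  | succ k ih =>
    intro i j hij
    rw [pow_succ, Matrix.mul_apply]
    apply Finset.sum_eq_zero
    intro l _
    rcases Nat.lt_or_ge (wt i) (wt l + k) with h | h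
    · rw [ih i l h, zero_mul]
    · have h1 : wt l ≤ wt j := by omega
      rw [Matrix.sub_apply, hA l j h1, sub_self, mul_zero]

theorem IsUni.pow_eq_one {wt : Fin n → ℕ} {A : Matrix (Fin n) (Fin n) (ZMod 2)} (hA : IsUni wt A) {m : ℕ}
    (hm : ∀ i, wt i < 2 ^ m) : A ^ 2 ^ m = 1 := by
  rcases Nat.eq_zero_or_pos n with rfl | hn
  · ext i; exact i.elim0
  have : Nonempty (Fin n) := ⟨⟨0, hn⟩⟩
  have h1 : (A - 1) ^ 2 ^ m = 0 := by
    ext i j
    rw [hA.pow_sub _ i j (by have := hm i; omega), Matrix.zero_apply]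
  have h2 : (A - 1) ^ 2 ^ m = A ^ 2 ^ m - 1 ^ 2 ^ m :=
    sub_pow_char_pow_of_commute 2 m (Commute.one_right A)
  rw [h2, one_pow, sub_eq_zero] at h1
  exact h1

/-- the group of unitriangular matrices -/
def Uni (wt : Fin n → ℕ) : Subgroup (GL (Fin n) (ZMod 2)) where
  carrier := {g | IsUni wt (g : Matrix (Fin n) (Fin n) (ZMod 2))}
  one_mem' := IsUni.one wt
  mul_mem' := fun {a b} ha hb => by
    show IsUni wt ((a * b : GL (Fin n) (ZMod 2)) : Matrix _ _ _)
    rw [Units.val_mul]
    exact IsUni.mul ha hb
  inv_mem' := fun {a} ha => by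
    have h1 : ∀ k : ℕ, IsUni wt ((a ^ k : GL (Fin n) (ZMod 2)) : Matrix (Fin n) (Fin n) (ZMod 2)) := by
      intro k
      induction k with
      | zero => rw [pow_zero]; exact IsUni.one wt
      | succ k ih => rw [pow_succ, Units.val_mul]; exact IsUni.mul ih ha
    have h2 : a⁻¹ = a ^ (orderOf a - 1) := by
      rw [inv_eq_iff_mul_eq_one, ← pow_succ', Nat.sub_add_cancel (orderOf_pos a), pow_orderOf_eq_one]
    show IsUni wt ((a⁻¹ : GL (Fin n) (ZMod 2)) : Matrix (Fin n) (Fin n) (ZMod 2))
    rw [h2]
    exact h1 _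

theorem isPGroup_Uni (wt : Fin n → ℕ) : IsPGroup 2 (Uni wt) := by
  rintro ⟨g, hg⟩
  obtain ⟨m, hm⟩ : ∃ m : ℕ, ∀ i, wt i < 2 ^ m := by
    refine ⟨Finset.univ.sup wt, fun i => ?_⟩
    exact lt_of_le_of_lt (Finset.le_sup (Finset.mem_univ i)) Nat.lt_two_pow_self
  refine ⟨m, Subtype.ext (Units.ext ?_)⟩
  show ((g ^ 2 ^ m : GL (Fin n) (ZMod 2)) : Matrix (Fin n) (Fin n) (ZMod 2)) = 1
  rw [Units.val_pow_eq_pow_val]
  exact IsUni.pow_eq_one hg hm

/-- check of unitriangularity on packed matrices -/
def uniOk (n : ℕ) (wt : List ℕ) (A : ℕ) : Bool :=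
  (List.range n).all fun i => (List.range n).all fun j =>
    (Nat.blt (wt.getD j 0) (wt.getD i 0)) ||
      (Nat.testBit A (n * i + j)) == (Nat.beq i j)

theorem uniOk_sound {g : GL (Fin n) (ZMod 2)} {A : ℕ} (hg : Codes n g A) {wt : List ℕ} (h : uniOk n wt A = true) :
    g ∈ Uni (fun i : Fin n => wt.getD i 0) := by
  intro i j hij
  have h1 := List.all_eq_true.1 (List.all_eq_true.1 h i (List.mem_range.2 i.2)) j (List.mem_range.2 j.2)
  have h2 : Nat.blt (wt.getD j 0) (wt.getD i 0) = false := by
    rw [Bool.eq_false_iff, ne_eq, Nat.blt_eq, not_lt]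
    exact hij
  rw [h2, Bool.false_or, beq_iff_eq] at h1
  rw [hg, toMat_apply, h1]
  by_cases hij' : i = j
  · subst hij'
    rw [Nat.beq_refl, bz_true, Matrix.one_apply_eq]
  · rw [Matrix.one_apply_ne hij']
    have h3 : Nat.beq (i : ℕ) j = false := by
      rw [Bool.eq_false_iff]
      intro h4
      exact hij' (Fin.ext (Nat.eq_of_beq_eq_true h4))
    rw [h3, bz_false]

end Cfsg.Agent.Lib.F2Unitri
end

-- part: TwoESix/FrameU
section
set_option autoImplicit false

namespace Cfsg.Agent.TwoESix.FrameU

open Cfsg.Agent.TwoESix.Data Cfsg.Agent.TwoESix.Iso Cfsg.Agent.TwoESix.Gens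
open Cfsg.Agent.TwoESix.RootsCfg Cfsg.Agent.TwoESix.Phi Cfsg.Agent.TwoESix.FrameData Cfsg.Agent.TwoESix.Frame
open Cfsg.Agent.TwoESix.FrameCfg Cfsg.Agent.TwoESix.FrameUData Cfsg.Agent.TwoESix.CentLin
open Cfsg.Agent.Lib Cfsg.Agent.Lib.F2MatGroup Cfsg.Agent.Lib.F2Unitri
open Cfsg.Agent.BabyU.FusCfg Cfsg.Agent.BabyU.FusGen

theorem tw_lets : (CentData.tw.all fun w => lets w) = true := by decide +kernel

theorem U0_mem (i : ℕ) : U0 i ∈ Gam := by
  apply evG_lets_mem
  rcases Nat.lt_or_ge i CentData.tw.length with h | h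
  · rw [List.getD_eq_getElem _ _ h]
    exact List.all_eq_true.1 tw_lets _ (List.getElem_mem h)
  · rw [List.getD_eq_default _ _ h]
    rfl

theorem lwd_lets : (lwd.all fun w => lets w) = true := by decide +kernel
theorem cwd_lets : (cwd.all fun w => lets w) = true := by decide +kernel

theorem lets_getD {L : List (List ℕ)} (h : (L.all fun w => lets w) = true) (i : ℕ) : lets (L.getD i []) = true := by
  rcases Nat.lt_or_ge i L.length with h1 | h1
  · rw [List.getD_eq_getElem _ _ h1]
    exact List.all_eq_true.1 h _ (List.getElem_mem h1)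
  · rw [List.getD_eq_default _ _ h1]
    rfl

theorem long_check : ((List.range 12).all fun i =>
    Nat.beq (evW 78 (Ts ++ Ms) (cw (lwd.getD i []))) (CentData.tm.getD i 0)) = true := by decide +kernel

/-- the long root elements are root involutions -/
theorem U0_TG {i : ℕ} (hi : i < 12) : U0 i ∈ TG := by
  have h1 := List.all_eq_true.1 long_check i (List.mem_range.2 hi)
  have h2 := (codes_evW codes_LG (cw (lwd.getD i []))).eq (codes_U0 (i := i) (by omega)) h1
  rw [← h2]
  exact cw_mem (lets_getD lwd_lets i)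

/-- root involutions `c` with `c * c^Phi` a short root element -/
def Cu (i : ℕ) : GL (Fin 78) (ZMod 2) := evG LG (cw (cwd.getD i []))

theorem Cu_TG (i : ℕ) : Cu i ∈ TG := cw_mem (lets_getD cwd_lets i)

theorem Cu_check : ((List.range 12).all fun i =>
    Nat.beq (evW 78 (Ts ++ Ms) (cw (cwd.getD i []))) (Cm.getD i 0)) = true := by decide +kernel

theorem codes_Cu {i : ℕ} (h : i < 12) : Codes 78 (Cu i) (Cm.getD i 0) := by
  have h1 := List.all_eq_true.1 Cu_check i (List.mem_range.2 h)
  rw [← Nat.eq_of_beq_eq_true h1]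
  exact codes_evW codes_LG _

/-- all elements -/
def RU : List (GL (Fin 78) (ZMod 2)) := (List.range 12).map Cu ++ ([Phi, Rt 5, Rt 6, Rt 7, Rt 15] ++ LU)

/-- their matrices -/
def RUm : List ℕ := Cm ++ ([mPhi, Rm.getD 5 0, Rm.getD 6 0, Rm.getD 7 0, Rm.getD 15 0] ++ CentData.tm)

theorem Cm_eq : Cm = (List.range 12).map fun i => Cm.getD i 0 := by decide +kernel

theorem codes_RU : List.Forall₂ (Codes 78) RU RUm := by
  unfold RU RUm
  rw [Cm_eq]
  apply List.rel_append
  · rw [List.forall₂_map_left_iff, List.forall₂_map_right_iff, List.forall₂_same]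
    intro i hi
    exact codes_Cu (List.mem_range.1 hi)
  · apply List.rel_append
    · exact .cons codes_Phi (.cons (codes_Rt 5 (by norm_num)) (.cons (codes_Rt 6 (by norm_num))
        (.cons (codes_Rt 7 (by norm_num)) (.cons (codes_Rt 15 (by norm_num)) .nil))))
    · exact codes_LU

theorem get_Cu {i : ℕ} (h : i < 12) : getG RU i = Cu i := by
  unfold getG RU
  rw [List.getD_eq_getElem?_getD, List.getElem?_append_left (by simpa using h), List.getElem?_map,
    List.getElem?_range h]
  rfl

theorem get_rest (j : ℕ) : getG RU (12 + j) = getG ([Phi, Rt 5, Rt 6, Rt 7, Rt 15] ++ LU) j := by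
  unfold getG RU
  rw [List.getD_eq_getElem?_getD, List.getElem?_append_right (by simp), List.getD_eq_getElem?_getD]
  simp

theorem get_U0 {i : ℕ} (h : i < 25) : getG RU (17 + i) = U0 i := by
  have e : 17 + i = 12 + (5 + i) := by omega
  rw [e, get_rest, ← getG_LU h]
  unfold getG
  rw [List.getD_eq_getElem?_getD, List.getElem?_append_right (by simp), List.getD_eq_getElem?_getD]
  simp

/-- the words for the conjugate of `a` -/
def rhoW (i : ℕ) : List ℕ := [[13], [14], [13, 15], [13, 16]].getD (rho.getD i 0) []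

theorem r_check : eqs 78 ((List.range 24).map fun i => ([17 + i, 15], [15, 17 + i])) RUm = true := by decide +kernel
theorem s_check' : eqs 78 ((List.range 12).map fun i => ([17 + i, 13, 14], [13, 14, 17 + i])) RUm = true := by
  decide +kernel
theorem c_check : eqs 78 ((List.range 12).map fun i => ([i, 12, i, 12], [29 + i])) RUm = true := by decide +kernel
theorem c_check' : eqs 78 ((List.range 12).map fun i => ([12, i, 12, i], [29 + i])) RUm = true := by decide +kernel
theorem a_check : eqs 78 ((List.range 12).map fun i => ([29 + i, 13], rhoW i ++ [29 + i])) RUm = true := by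
  decide +kernel

theorem get12 : getG RU 12 = Phi := rfl
theorem get13 : getG RU 13 = Rt 5 := rfl
theorem get14 : getG RU 14 = Rt 6 := rfl
theorem get15 : getG RU 15 = Rt 7 := rfl
theorem get16 : getG RU 16 = Rt 15 := rfl

theorem U0_r {i : ℕ} (h : i < 24) : U0 i * Rt 7 = Rt 7 * U0 i := by
  have h1 := eqs_sound codes_RU r_check _ (List.mem_map.2 ⟨i, List.mem_range.2 h, rfl⟩)
  simp only [evG_cons, evG_nil, mul_one, get15, get_U0 (show i < 25 by omega)] at h1
  exact h1

theorem U0_s {i : ℕ} (h : i < 12) : U0 i * (Rt 5 * Rt 6) = (Rt 5 * Rt 6) * U0 i := by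
  have h1 := eqs_sound codes_RU s_check' _ (List.mem_map.2 ⟨i, List.mem_range.2 h, rfl⟩)
  simp only [evG_cons, evG_nil, mul_one, get13, get14, get_U0 (show i < 25 by omega)] at h1
  rw [h1, mul_assoc]

theorem Cu_eq {i : ℕ} (h : i < 12) : Cu i * (Phi * Cu i * Phi) = U0 (12 + i) := by
  have h1 := eqs_sound codes_RU c_check _ (List.mem_map.2 ⟨i, List.mem_range.2 h, rfl⟩)
  have e : 29 + i = 17 + (12 + i) := by omega
  simp only [evG_cons, evG_nil, mul_one, get12, get_Cu h, e, get_U0 (show 12 + i < 25 by omega)] at h1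
  rw [← h1]
  simp only [mul_assoc]

theorem Cu_eq' {i : ℕ} (h : i < 12) : (Phi * Cu i * Phi) * Cu i = U0 (12 + i) := by
  have h1 := eqs_sound codes_RU c_check' _ (List.mem_map.2 ⟨i, List.mem_range.2 h, rfl⟩)
  have e : 29 + i = 17 + (12 + i) := by omega
  simp only [evG_cons, evG_nil, mul_one, get12, get_Cu h, e, get_U0 (show 12 + i < 25 by omega)] at h1
  rw [← h1]
  simp only [mul_assoc]

theorem rhoW_cases {i : ℕ} (h : i < 12) : rhoW i = [13] ∨ rhoW i = [14] ∨ rhoW i = [13, 15] ∨ rhoW i = [13, 16] := by
  have h1 : ∀ i < 12, rhoW i = [13] ∨ rhoW i = [14] ∨ rhoW i = [13, 15] ∨ rhoW i = [13, 16] := by decide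
  exact h1 i h

theorem U0_a {i : ℕ} (h : i < 12) : U0 (12 + i) * Rt 5 = Rt 5 * U0 (12 + i) ∨
    U0 (12 + i) * Rt 5 = Rt 6 * U0 (12 + i) ∨ U0 (12 + i) * Rt 5 = (Rt 5 * Rt 7) * U0 (12 + i) ∨
    U0 (12 + i) * Rt 5 = (Rt 5 * Rt 15) * U0 (12 + i) := by
  have h1 := eqs_sound codes_RU a_check _ (List.mem_map.2 ⟨i, List.mem_range.2 h, rfl⟩)
  have e : 29 + i = 17 + (12 + i) := by omega
  rcases rhoW_cases h with h2 | h2 | h2 | h2 <;> rw [h2, e] at h1 <;>
    simp only [List.cons_append, List.nil_append, evG_cons, evG_nil, mul_one, get13, get14, get15, get16,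
      get_U0 (show 12 + i < 25 by omega)] at h1
  · exact Or.inl h1
  · exact Or.inr (Or.inl h1)
  · exact Or.inr (Or.inr (Or.inl (by rw [h1, mul_assoc])))
  · exact Or.inr (Or.inr (Or.inr (by rw [h1, mul_assoc])))

private theorem uni_of15 {n M D A : ℕ} {w : List ℕ} (h : ((List.range n).all fun i => (List.range n).all fun j =>
    Nat.blt (w.getD j 0) (w.getD i 0) || (M.testBit (n * i + j) && (D.testBit (n * i + j) == Nat.beq i j))) = true)
    (hA : Nat.beq (Nat.land A M) D = true) : uniOk n w A = true := by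
  refine List.all_eq_true.2 fun i hi => List.all_eq_true.2 fun j hj => ?_
  have h1 := List.all_eq_true.1 (List.all_eq_true.1 h i hi) j hj
  rw [Bool.or_eq_true] at h1 ⊢
  refine h1.imp_right fun h2 => ?_
  rw [Bool.and_eq_true, ← Nat.eq_of_beq_eq_true hA] at h2
  have h3 : (A &&& M).testBit (n * i + j) = A.testBit (n * i + j) := by rw [Nat.testBit_and, h2.1, Bool.and_true]
  exact h3 ▸ h2.2

/-- the places on and above the blocks -/
private def uniM15 : ℕ := 0xc00000000000e00000030000000000038000000f00000000000f0000003c00000000003c000000fc0000000000f8000003f00000000003e000000ff0000000000fe000003fc0000000003f800000ffcc00000000ff000003ff3000000003fc00000ffff00000000ff200003fffc00000003fc80000ffcc00000000ff000003ff3000000003fc00000ffff00000000ff200003fffc00000003fc80000fffff0000000ffa00003ffffc0000003fe80000fffff0000000ffa00003ffffc0000003fe80000ffffff000000fff00003fffffc000003ffc0000ffffff000000fff00003fffffc000003ffc0000ffffffc30000fffa00ffffffff0c0003ffe803ffffffff3c000fffb00ffffffffcf0003ffec03ffffffffff000ffff0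0ffffffffffc003fffc03fffffffc30000fffa00ffffffff0c0003ffe803ffffffff3c000fffb00ffffffffcf0003ffec03ffffffffff000ffff00ffffffffffc003fffc03fffffffffff00ffff80fffffffffffc03fffe03fffffffffff00ffff80fffffffffffc03fffe03fffffffffffc0ffffe0ffffffffffff03ffff83ffffffffffff0fffff0ffffffffffffc3ffffc3ffffffffffffcfffff8fffffffffffff3ffffe3ffffffffffffffffff8ffffffffffffffffffe3f000000000000800000000000000000030000000000000000000e0000003c00000000003c000000fc0000000000f8000003fc0000000003f800000ff0000000000fe000003ff3000000003fc00000fffff0000000ffa00003fffffc000003ffc0000ffff00000000ff200003fffffc000003ffc0000ffffffc30000fffa00ffffffffffc003fffc03fffffffc30000fffa00ffffffffcf0003ffec03fffffffffff00ffff80ffffffffffff03ffff83fffffffffffc0ffffe0ffffffffffffc3ffffc3ffffffffffffcfffff8fffffffffffffffffff3ffffffffffffffffffefffffffffffffffffffffffffff000000fff000fffffffc000003ffc003fffffff000000fff000fffffffc000003ffc003fffffff000000fff000fffffffc000003ffc003f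

/-- the diagonal -/
private def uniD15 : ℕ := 0x80000000000000000001000000000000000000020000000000000000000400000000000000000008000000000000000000100000000000000000002000000000000000000040000000000000000000800000000000000000010000000000000000000200000000000000000004000000000000000000080000000000000000001000000000000000000020000000000000000000400000000000000000008000000000000000000100000000000000000002000000000000000000040000000000000000000800000000000000000010000000000000000000200000000000000000004000000000000000000080000000000000000001000000000000000000020000000000000000000400000000000000000008000000000000000000100000000000000000002000000000000000000040000000000000000000800000000000000000010000000000000000000200000000000000000004000000000000000000080000000000000000001000000000000000000020000000000000000000400000000000000000008000000000000000000100000000000000000002000000000000000000040000000000000000000800000000000000000010000000000000000000200000000000000000004000000000000000000080000000000000000001000000000000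0000000200000000000000000004000000000000000000080000000000000000001000000000000000000020000000000000000000400000000000000000008000000000000000000100000000000000000002000000000000000000040000000000000000000800000000000000000010000000000000000000200000000000000000004000000000000000000080000000000000000001000000000000000000020000000000000000000400000000000000000008000000000000000000100000000000000000002000000000000000000040000000000000000000800000000000000000010000000000000000000200000000000000000004000000000000000000080000000000000000001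

theorem uni_check : ((List.range 24).all fun i => uniOk 78 wt (CentData.tm.getD i 0)) = true := by
  have h : ((List.range 24).all fun i => Nat.beq (Nat.land (CentData.tm.getD i 0) uniM15) uniD15) = true := by decide +kernel
  have h1 : ((List.range 78).all fun i => (List.range 78).all fun j => Nat.blt (wt.getD j 0) (wt.getD i 0) ||
    (uniM15.testBit (78 * i + j) && (uniD15.testBit (78 * i + j) == Nat.beq i j))) = true := by decide +kernel
  exact List.all_eq_true.2 fun i hi => uni_of15 h1 (List.all_eq_true.1 h i hi)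

theorem U0_uni {i : ℕ} (h : i < 24) : U0 i ∈ Uni (fun i : Fin 78 => wt.getD i 0) :=
  uniOk_sound (codes_U0 (by omega)) (List.all_eq_true.1 uni_check i (List.mem_range.2 h))

/-- as elements of `Gam` -/
def Ux (i : ℕ) : ↥Gam := ⟨U0 i, U0_mem i⟩

/-- as elements of `Gam` -/
def Cx (i : ℕ) : ↥Gam := ⟨Cu i, TG_mem (Cu_TG i)⟩

/-- the long root elements -/
def Lset : Set ↥Gam := {x | ∃ i < 12, x = Ux i}

/-- the roots `c` -/
def Sset : Set ↥Gam := {x | ∃ i < 12, x = Cx i}

theorem Cx_sig {i : ℕ} (h : i < 12) : Cx i * sig (Cx i) = Ux (12 + i) := Subtype.ext (Cu_eq h)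
theorem Cx_sig' {i : ℕ} (h : i < 12) : sig (Cx i) * Cx i = Ux (12 + i) := Subtype.ext (Cu_eq' h)

theorem gen : Gen cfg Lset Sset where
  l_mem := by rintro _ ⟨i, hi, rfl⟩; exact U0_TG hi
  l_σ := by
    rintro _ ⟨i, hi, rfl⟩
    apply Subtype.ext
    show Phi * U0 i * Phi = U0 i
    rw [Phi_U0 (by omega), mul_assoc, Phi_sq, mul_one]
  l_r := by rintro _ ⟨i, hi, rfl⟩; exact Subtype.ext (U0_r (by omega))
  l_s := by rintro _ ⟨i, hi, rfl⟩; exact Subtype.ext (U0_s hi)
  s_mem := by rintro _ ⟨i, hi, rfl⟩; exact Cu_TG i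
  s_σσ := by rintro _ ⟨i, hi, rfl⟩; exact sig_sig _
  s_comm := by rintro _ ⟨i, hi, rfl⟩; rw [Cx_sig hi, Cx_sig' hi]
  s_r := by
    rintro _ ⟨i, hi, rfl⟩
    rw [Cx_sig hi]
    exact Subtype.ext (U0_r (by omega))
  s_a := by
    rintro _ ⟨i, hi, rfl⟩
    rw [Cx_sig hi]
    rcases U0_a hi with h | h | h | h
    · exact Or.inl (Subtype.ext h)
    · exact Or.inr (Or.inl (Subtype.ext h))
    · exact Or.inr (Or.inr ⟨S 7, S_mem 7, S_s (by decide), Subtype.ext h⟩)
    · exact Or.inr (Or.inr ⟨S 15, S_mem 15, S_s (by decide), Subtype.ext h⟩)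
  two := by
    refine IsPGroup.to_le ((isPGroup_Uni (fun i : Fin 78 => wt.getD i 0)).comap_of_injective Gam.subtype
      Gam.subtype_injective) ?_
    rw [Subgroup.closure_le]
    rintro _ (⟨i, hi, rfl⟩ | ⟨_, ⟨i, hi, rfl⟩, rfl⟩)
    · exact U0_uni (by omega)
    · show Cx i * sig (Cx i) ∈ _
      rw [Cx_sig hi]
      exact U0_uni (by omega)

/-- the centraliser condition follows from the centraliser of the 24 elements -/
theorem cent_of (h : ∀ g ∈ Gam, (∀ i < 24, g * U0 i = U0 i * g) →
      g = 1 ∨ g = Rt 7 ∨ g = Rt 5 * Rt 6 ∨ g = Rt 7 * (Rt 5 * Rt 6)) : Cent cfg Lset Sset := by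
  rintro ⟨x, hx⟩ h1 h2
  have h3 := h x hx (fun i hi => by
    rcases Nat.lt_or_ge i 12 with h4 | h4
    · exact (congrArg Subtype.val (h1 (Ux i) ⟨i, h4, rfl⟩)).symm
    · obtain ⟨j, rfl⟩ := Nat.exists_eq_add_of_le h4
      have h5 := h2 (Cx j) ⟨j, by omega, rfl⟩
      rw [Cx_sig (by omega)] at h5
      exact (congrArg Subtype.val h5).symm)
  rcases h3 with h3 | h3 | h3 | h3
  · exact Or.inl (Subtype.ext h3)
  · exact Or.inr (Or.inl (Subtype.ext h3))
  · exact Or.inr (Or.inr (Or.inl (Subtype.ext h3)))
  · exact Or.inr (Or.inr (Or.inr (Subtype.ext h3)))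

end Cfsg.Agent.TwoESix.FrameU
end

-- part: TwoESix/Cent
section
set_option autoImplicit false

namespace Cfsg.Agent.TwoESix.Cent

open Cfsg.Agent.TwoESix.Data Cfsg.Agent.TwoESix.Iso Cfsg.Agent.TwoESix.Gens Cfsg.Agent.TwoESix.RootsCfg
open Cfsg.Agent.TwoESix.Phi Cfsg.Agent.TwoESix.CentLin
open Cfsg.Agent.TwoESix.ExtCode Cfsg.Agent.TwoESix.ExtData Cfsg.Agent.TwoESix.ExtAlg Cfsg.Agent.TwoESix.ExtModel
open Cfsg.Agent.Lib Cfsg.Agent.Lib.F2Mat Cfsg.Agent.Lib.F2MatGroup

/-! ### `Phi` is an automorphism of the algebra -/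

/-- the transpose of `mPhi` -/
def mPhiT : ℕ := 0xc000000000000000000100000000000000000003000000000000000000040000000000000000000c000000000000000000100000000000000000003000000000000000000040000000000000000000c000000000000000000100000000000000000003000000000000000000040000000000000000000c000000000000000000100000000000000000003000000000000000000040000000000000000000c000000000000000000100000000000000000003000000000000000000040000000000000000000c000000000000000000100000000000000000003000000000000000000040000000000000000000c000000000000000000100000000000000000003000000000000000000040000000000000000000c000000000000000000100000000000000000003000000000000000000040000000000000000000c000000000000000000100000000000000000003000000000000000000040000000000000000000c000000000000000000100000000000000000003000000000000000000040000000000000000000c000000000000000000100000000000000000003000000000000000000040000000000000000000c000000000000000000100000000000000000003000000000000000000040000000000000000000800000000000000000010000000000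000000000200000000000000000004000000000000000000080000000000000000001000000000000000000020000000000000000000400000000000000000008000000000000000000100000000000000000002000000000000000000040000000000000000000800000000000000000010000000000000000000200000000000000000004000000000000000000080000000000000000001000000000000000000020000000000000000000400000000000000000008000000000000000000100000000000000000002000000000000000000040000000000000000000c00000000000000000010000000000000000000300000000000000000004000000000000000000080000000000000000001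

theorem phiT_check : ExtCode.trOk mPhi mPhiT = true := by decide +kernel

theorem phi_eqv : eqv mPhiT = true := by decide +kernel

theorem phi_form : Nat.beq (mul 78 (mul 78 mPhiT Jc) mPhi) Jc = true := by decide +kernel

theorem gl_Phi (x : V) : gl Phi x = op mPhiT x := by
  have h := ExtCode.toMat_tr phiT_check
  apply co_inj
  rw [gl_apply, op_apply, h, Matrix.vecMul_transpose]
  rfl

theorem Phi_mem : gl Phi ∈ A.Aut := by
  refine ⟨fun x y => ?_, fun x y => ?_⟩
  · rw [gl_Phi, gl_Phi, gl_Phi]
    exact eqv_sound phi_eqv x y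
  · have h := ExtCode.toMat_tr phiT_check
    have h1 := Nat.eq_of_beq_eq_true phi_form
    have h2 : toMat 78 mPhiT * toMat 78 Jc * toMat 78 mPhi = toMat 78 Jc := by
      rw [← toMat_mul, ← toMat_mul, h1]
    rw [A_B, gl_Phi, gl_Phi, bil_apply, bil_apply, op_apply, op_apply, op_apply, op_apply, Matrix.vecMul_vecMul]
    conv_lhs => rw [h, Matrix.vecMul_transpose, Matrix.dotProduct_mulVec, Matrix.vecMul_vecMul, ← h, h2]

theorem gl_mem {g : GL (Fin 78) (ZMod 2)} (hg : g ∈ Gam) : gl g ∈ A.Aut := Γ_le ⟨g, hg, rfl⟩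

/-! ### Coded actions -/

theorem gl_U0 {i : ℕ} (hi : i < 25) (v : ℕ) : gl (U0 i) (vc v) = vc (vmul 78 v (CentData.tt.getD i 0)) := by
  apply co_inj
  rw [gl_apply]
  exact U0_mulVec hi v

/-- `e_{-θ}` -/
def z0 : ℕ := 0x40

theorem z0_single : co (vc z0) = Pi.single 6 1 := toVec_two_pow 6

theorem vc_inj {a b : ℕ} (ha : a < 2 ^ 78) (hb : b < 2 ^ 78) (h : vc a = vc b) : a = b :=
  toVec_inj ha hb (congrArg co h)

/-- the word of `x_{-θ}(1)` without the middle and last part -/
def wz : List ℕ := (CentData.tw.getD 24 []).take 24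

theorem wz_check : (lets wz && decide (cw wz = CentData.tw.getD 24 [])) = true := by decide +kernel

theorem b0_to_z0 : Nat.beq (List.rec b0 (fun i _ ih => vmul 78 ih (MT.getD (i - 10) 0)) wz) z0 = true := by
  decide +kernel

theorem gl_word (w : List ℕ) (hw : lets w = true) (v : ℕ) :
    gl (evG LG w) (vc v) = vc (List.rec v (fun i _ ih => vmul 78 ih (MT.getD (i - 10) 0)) w) := by
  induction w with
  | nil => rw [evG_nil, map_one]; rfl
  | cons i w ih =>
    have h5 := lets_spec hw i List.mem_cons_self
    have hw' : lets w = true := by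
      unfold lets at hw ⊢
      rw [List.all_cons, Bool.and_eq_true] at hw
      exact hw.2
    have h6 : i = 10 + (⟨i - 10, by omega⟩ : Fin 16).val := by
      have : (⟨i - 10, by omega⟩ : Fin 16).val = i - 10 := rfl
      omega
    rw [evG_cons, map_mul, LinearEquiv.mul_apply, ih hw']
    conv_lhs => rw [h6, getG_gM]
    show mM _ _ = _
    rw [mM_apply, op_vc]

theorem b0_check : Nat.beq (Nat.xor (Nat.xor (F2Mat.one 78) (adc b0)) (out (vmul 78 b0 Jc) b0)) (MT.getD 0 0) = true := by
  decide +kernel

theorem g_b0 : A.g (vc b0) = gl (gM 0) := by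
  apply LinearEquiv.toLinearMap_injective
  refine LinearMap.ext fun x => ?_
  have h1 : mM 0 x = x + op (adc b0) x + bil (vc b0) x • vc b0 := by
    have h4 : ∀ a b c : ℕ, op (Nat.xor (Nat.xor a b) c) x = op a x + op b x + op c x := by
      intro a b c
      have h5 : op (Nat.xor (Nat.xor a b) c) x = op (Nat.xor a b) x + op c x := op_xor _ _ _
      have h6 : op (Nat.xor a b) x = op a x + op b x := op_xor _ _ _
      rw [h5, h6]
    have h2 := op_eq_of b0_check x
    rw [h4, op_one, bil_out (show Nat.blt b0 (Nat.pow 2 78) = true by decide +kernel)] at h2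
    rw [h2]
    exact mM_apply 0 x
  have h3 := Alg.g_apply b0_ext x
  rw [A_br, A_B, br_vc, ← h1] at h3
  exact h3

theorem ext_z0 : A.IsExt (vc z0) := by
  have h := wz_check
  rw [Bool.and_eq_true] at h
  have h1 := gl_word wz h.1 b0
  rw [Nat.eq_of_beq_eq_true b0_to_z0] at h1
  rw [← h1]
  exact b0_ext.map (gl_mem (evG_lets_mem h.1))

theorem g_z0 : A.g (vc z0) = gl (U0 24) := by
  have h := wz_check
  rw [Bool.and_eq_true, decide_eq_true_eq] at h
  have h1 := gl_word wz h.1 b0
  rw [Nat.eq_of_beq_eq_true b0_to_z0] at h1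
  have h2 : U0 24 = evG LG wz * gM 0 * (evG LG wz)⁻¹ := by
    rw [← evG_cw h.1, h.2]
    rfl
  rw [← h1, Alg.g_map b0_ext (gl_mem (evG_lets_mem h.1)), g_b0, h2, map_mul, map_mul, map_inv]

/-! ### The extremal images -/

/-- candidate number `u` -/
def cu (u : ℕ) : ℕ := vmul 78 u CentData.gt1

/-- left side of the quadratic identity -/
def qL (c : ℕ) : ℕ := vmul 78 (vmul 78 (2 ^ 71) (adc c)) (adc (vmul 78 (2 ^ 21) (adc c)))

/-- right side of the quadratic identity -/
def qR (c : ℕ) : ℕ := Nat.xor (Nat.xor (cond (bilc c (vmul 78 (2 ^ 71) (adc (2 ^ 21)))) c 0)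
  (cond (bilc c (2 ^ 71)) (vmul 78 (2 ^ 21) (adc c)) 0)) (cond (bilc c (2 ^ 21)) (vmul 78 (2 ^ 71) (adc c)) 0)

/-- `x` is fixed by `r`, or violates an identity of extremal elements, or is one of four -/
def ext4 (u : ℕ) : Bool :=
  force (cu u) fun c =>
    or (Nat.beq (vmul 78 c (CentData.tt.getD 11 0)) c)
      (or (not (Nat.beq (vmul 78 (vmul 78 (2 ^ 20) (adc c)) (adc c)) 0))
        (or (not (Nat.beq (qL c) (qR c))) (or (or (Nat.beq u 2) (Nat.beq u 19)) (or (Nat.beq u 38) (Nat.beq u 183)))))

theorem ext4_check : allN ext4 256 = true := by decide +kernel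

theorem z0_moved : Nat.beq (vmul 78 z0 (CentData.tt.getD 11 0)) z0 = false := by decide +kernel

theorem cu_lt (u : ℕ) : cu u < 2 ^ 78 := vmul_lt _ _

theorem vc_cond (b : Bool) (c : ℕ) : vc (cond b c 0) = bz b • vc c := by
  cases b
  · rw [cond_false, vc_zero, bz_false, zero_smul]
  · rw [cond_true, bz_true, one_smul]

theorem quad_codes {c : ℕ} (hc : c < 2 ^ 78) (h : A.IsExt (vc c)) : qL c = qR c := by
  have h1 := h.quad (vc (2 ^ 21)) (vc (2 ^ 71))
  rw [A_br, A_B, br_vc_vc, br_vc_vc, br_vc_vc, br_vc_vc, bil_vc, bil_vc, bil_vc] at h1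
  apply vc_inj (vmul_lt _ _)
  · have hb : ∀ (b : Bool) (x : ℕ), x < 2 ^ 78 → cond b x 0 < 2 ^ 78 := by
      intro b x hx
      cases b
      · exact Nat.two_pow_pos 78
      · exact hx
    exact Nat.xor_lt_two_pow (Nat.xor_lt_two_pow (hb _ _ hc) (hb _ _ (vmul_lt _ _))) (hb _ _ (vmul_lt _ _))
  · have h2 : ∀ a b : ℕ, vc (Nat.xor a b) = vc a + vc b := vc_xor
    rw [qR, h2, h2, vc_cond, vc_cond, vc_cond]
    exact h1

theorem sq_codes {c : ℕ} (h : A.IsExt (vc c)) (v : ℕ) : vmul 78 (vmul 78 v (adc c)) (adc c) = 0 := by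
  have h1 := h.sq (vc v)
  rw [A_br, br_vc_vc, br_vc_vc, ← vc_zero] at h1
  exact vc_inj (vmul_lt _ _) (Nat.two_pow_pos 78) h1

theorem four_of_ext {u : ℕ} (hu : u < 256) (h : A.IsExt (vc (cu u))) (hr : gl (U0 11) (vc (cu u)) ≠ vc (cu u)) :
    u = 2 ∨ u = 19 ∨ u = 38 ∨ u = 183 := by
  have h1 := allN_sound ext4_check u hu
  unfold ext4 at h1
  rw [force_eq] at h1
  rcases hb : Nat.beq (vmul 78 (cu u) (CentData.tt.getD 11 0)) (cu u) with _ | _
  · rcases hc : Nat.beq (vmul 78 (vmul 78 (2 ^ 20) (adc (cu u))) (adc (cu u))) 0 with _ | _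
    · rw [sq_codes h, Nat.beq_refl] at hc
      exact absurd hc Bool.noConfusion
    · rcases hd : Nat.beq (qL (cu u)) (qR (cu u)) with _ | _
      · rw [quad_codes (cu_lt u) h, Nat.beq_refl] at hd
        exact absurd hd Bool.noConfusion
      · rw [hb, hc, hd] at h1
        simp only [Bool.false_or, Bool.not_true, Bool.or_eq_true, Nat.beq_eq] at h1
        rcases h1 with (h1 | h1) | (h1 | h1)
        · exact Or.inl h1
        · exact Or.inr (Or.inl h1)
        · exact Or.inr (Or.inr (Or.inl h1))
        · exact Or.inr (Or.inr (Or.inr h1))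
  · exfalso
    apply hr
    rw [gl_U0 (by norm_num), Nat.eq_of_beq_eq_true hb]

/-! ### The theorem -/

/-- the long element `r = x_θ(1)` -/
abbrev rr : GL (Fin 78) (ZMod 2) := U0 11
/-- the short element `s` -/
abbrev ss : GL (Fin 78) (ZMod 2) := U0 23

theorem comm_check : allN (fun i => and
    (Nat.beq (F2Mat.mul 78 (CentData.tm.getD 11 0) (CentData.tm.getD i 0))
      (F2Mat.mul 78 (CentData.tm.getD i 0) (CentData.tm.getD 11 0)))
    (Nat.beq (F2Mat.mul 78 (CentData.tm.getD 23 0) (CentData.tm.getD i 0))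
      (F2Mat.mul 78 (CentData.tm.getD i 0) (CentData.tm.getD 23 0)))) 24 = true := by decide +kernel

theorem rr_comm {i : ℕ} (hi : i < 24) : rr * U0 i = U0 i * rr := by
  have h := allN_sound comm_check i hi
  rw [Bool.and_eq_true] at h
  exact ((codes_U0 (by norm_num)).mul (codes_U0 (by omega))).eq
    ((codes_U0 (by omega)).mul (codes_U0 (by norm_num))) h.1

theorem ss_comm {i : ℕ} (hi : i < 24) : ss * U0 i = U0 i * ss := by
  have h := allN_sound comm_check i hi
  rw [Bool.and_eq_true] at h
  exact ((codes_U0 (by norm_num)).mul (codes_U0 (by omega))).eq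
    ((codes_U0 (by omega)).mul (codes_U0 (by norm_num))) h.2

theorem img_check : (and (Nat.beq (cu 2) z0) (and (Nat.beq (cu 19) (vmul 78 z0 (CentData.tt.getD 11 0)))
    (and (Nat.beq (cu 38) (vmul 78 z0 (CentData.tt.getD 23 0)))
      (Nat.beq (cu 183) (vmul 78 (vmul 78 z0 (CentData.tt.getD 23 0)) (CentData.tt.getD 11 0)))))) = true := by
  decide +kernel

theorem rr_moves : gl rr (vc z0) ≠ vc z0 := by
  intro h
  rw [gl_U0 (by norm_num)] at h
  have h1 := vc_inj (vmul_lt _ _) (show z0 < 2 ^ 78 by decide +kernel) h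
  have h2 := z0_moved
  rw [h1, Nat.beq_refl] at h2
  exact absurd h2 Bool.noConfusion

/-- **An element of `²E₆(2):⟨Phi⟩` commuting with the unipotent group of F₄(2) is in `⟨Phi⟩ × ⟨r, s⟩`.** -/
theorem centr {g : GL (Fin 78) (ZMod 2)} (hg : gl g ∈ A.Aut) (hc : ∀ i < 24, g * U0 i = U0 i * g) :
    ∃ a, (a = 1 ∨ a = rr ∨ a = ss ∨ a = rr * ss) ∧ (g = a ∨ g = a * Phi) := by
  obtain ⟨u, hu, hx⟩ := step1 hc
  have hx' : gl g (vc z0) = vc (cu u) := by
    apply co_inj
    rw [gl_apply, z0_single]
    exact hx
  have hext : A.IsExt (vc (cu u)) := by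
    rw [← hx']
    exact ext_z0.map hg
  have hne : gl (U0 11) (vc (cu u)) ≠ vc (cu u) := by
    intro h
    rw [← hx', ← LinearEquiv.mul_apply, ← map_mul, ← hc 11 (by norm_num), map_mul, LinearEquiv.mul_apply] at h
    exact rr_moves ((gl g).injective h)
  have h4 := four_of_ext hu hext hne
  have hi := img_check
  rw [Bool.and_eq_true, Bool.and_eq_true, Bool.and_eq_true] at hi
  obtain ⟨i1, i2, i3, i4⟩ := hi
  -- an element of `⟨r, s⟩` with the same image
  obtain ⟨a, ha, haz, hac⟩ : ∃ a : GL (Fin 78) (ZMod 2), (a = 1 ∨ a = rr ∨ a = ss ∨ a = rr * ss) ∧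
      gl a (vc z0) = vc (cu u) ∧ ∀ i < 24, a * U0 i = U0 i * a := by
    rcases h4 with rfl | rfl | rfl | rfl
    · refine ⟨1, Or.inl rfl, ?_, fun i _ => by rw [one_mul, mul_one]⟩
      rw [map_one, Nat.eq_of_beq_eq_true i1]
      rfl
    · refine ⟨rr, Or.inr (Or.inl rfl), ?_, fun i hi => rr_comm hi⟩
      rw [gl_U0 (by norm_num), Nat.eq_of_beq_eq_true i2]
    · refine ⟨ss, Or.inr (Or.inr (Or.inl rfl)), ?_, fun i hi => ss_comm hi⟩
      rw [gl_U0 (by norm_num), Nat.eq_of_beq_eq_true i3]
    · refine ⟨rr * ss, Or.inr (Or.inr (Or.inr rfl)), ?_, fun i hi => ?_⟩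
      · rw [map_mul, LinearEquiv.mul_apply, gl_U0 (by norm_num), gl_U0 (by norm_num), Nat.eq_of_beq_eq_true i4]
      · rw [mul_assoc, ss_comm hi, ← mul_assoc, rr_comm hi, mul_assoc]
  refine ⟨a, ha, ?_⟩
  -- `a⁻¹ g` centralises F₄(2)
  have hfix : gl (a⁻¹ * g) (vc z0) = vc z0 := by
    rw [map_mul, LinearEquiv.mul_apply, hx', ← haz, ← LinearEquiv.mul_apply, ← map_mul, inv_mul_cancel, map_one]
    rfl
  have haA : a⁻¹ ∈ Gam := by
    have h11 : rr ∈ Gam := evG_lets_mem (by decide +kernel)
    have h23 : ss ∈ Gam := evG_lets_mem (by decide +kernel)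
    apply Gam.inv_mem
    rcases ha with rfl | rfl | rfl | rfl
    · exact Gam.one_mem
    · exact h11
    · exact h23
    · exact Gam.mul_mem h11 h23
  have hA' : gl (a⁻¹ * g) ∈ A.Aut := by
    rw [map_mul]
    exact Subgroup.mul_mem _ (gl_mem haA) hg
  have h24 : (a⁻¹ * g) * U0 24 = U0 24 * (a⁻¹ * g) := by
    have h5 := Alg.g_map ext_z0 hA'
    rw [hfix, g_z0, ← map_inv, ← map_mul, ← map_mul] at h5
    have h6 := gl.injective h5
    calc (a⁻¹ * g) * U0 24 = ((a⁻¹ * g) * U0 24 * (a⁻¹ * g)⁻¹) * (a⁻¹ * g) := by group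
      _ = U0 24 * (a⁻¹ * g) := by rw [← h6]
  have h25 : ∀ i < 25, (a⁻¹ * g) * U0 i = U0 i * (a⁻¹ * g) := by
    intro i hi
    rcases Nat.lt_succ_iff_lt_or_eq.1 hi with h | rfl
    · have h7 := hac i h
      have h8 : a⁻¹ * U0 i = U0 i * a⁻¹ := by
        calc a⁻¹ * U0 i = a⁻¹ * (U0 i * a) * a⁻¹ := by group
          _ = a⁻¹ * (a * U0 i) * a⁻¹ := by rw [h7]
          _ = U0 i * a⁻¹ := by group
      rw [mul_assoc, hc i h, ← mul_assoc, h8, mul_assoc]
    · exact h24
  rcases step2 h25 with h | h
  · left
    rw [← mul_one a, ← h, mul_inv_cancel_left]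
  · right
    rw [← h, mul_inv_cancel_left]

/-- the version for `Gam` -/
theorem centr_Gam {g : GL (Fin 78) (ZMod 2)} (hg : g ∈ Gam ∨ g * Phi ∈ Gam) (hc : ∀ i < 24, g * U0 i = U0 i * g) :
    ∃ a, (a = 1 ∨ a = rr ∨ a = ss ∨ a = rr * ss) ∧ (g = a ∨ g = a * Phi) := by
  refine centr ?_ hc
  rcases hg with hg | hg
  · exact gl_mem hg
  · have h1 : g = (g * Phi) * Phi := by rw [mul_assoc, Phi_sq, mul_one]
    rw [h1, map_mul]
    exact Subgroup.mul_mem _ (gl_mem hg) Phi_mem

end Cfsg.Agent.TwoESix.Cent
end

-- part: TwoESix/FrameCent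
section
set_option autoImplicit false

namespace Cfsg.Agent.TwoESix.FrameCent

open Cfsg.Agent.TwoESix.Data Cfsg.Agent.TwoESix.Iso Cfsg.Agent.TwoESix.Gens
open Cfsg.Agent.TwoESix.RootsCfg Cfsg.Agent.TwoESix.Phi Cfsg.Agent.TwoESix.FrameData Cfsg.Agent.TwoESix.Frame
open Cfsg.Agent.TwoESix.FrameCfg Cfsg.Agent.TwoESix.FrameU Cfsg.Agent.TwoESix.CentLin
open Cfsg.Agent.Lib Cfsg.Agent.Lib.F2MatGroup
open Cfsg.Agent.BabyU.FusCfg Cfsg.Agent.BabyU.FusGen

theorem rr_check : Nat.beq (CentData.tm.getD 11 0) (Rm.getD 7 0) = true := by decide +kernel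

theorem rr_eq : U0 11 = Rt 7 := (codes_U0 (by norm_num)).eq (codes_Rt 7 (by norm_num)) rr_check

theorem ss_check : Nat.beq (CentData.tm.getD 23 0) (F2Mat.mul 78 (Rm.getD 5 0) (Rm.getD 6 0)) = true := by
  decide +kernel

theorem ss_eq : U0 23 = Rt 5 * Rt 6 :=
  (codes_U0 (by norm_num)).eq ((codes_Rt 5 (by norm_num)).mul (codes_Rt 6 (by norm_num))) ss_check

/-- the centraliser of the 24 elements, if the field automorphism is not in `Gam` -/
theorem cent_Gam (hPhi : Phi ∉ Gam) {g : GL (Fin 78) (ZMod 2)} (hg : g ∈ Gam) (hc : ∀ i < 24, g * U0 i = U0 i * g) :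
    g = 1 ∨ g = Rt 7 ∨ g = Rt 5 * Rt 6 ∨ g = Rt 7 * (Rt 5 * Rt 6) := by
  obtain ⟨a, ha, h⟩ := Cent.centr_Gam (Or.inl hg) hc
  have h7 : Rt 7 ∈ Gam := TG_mem (Rt_mem 7)
  have h56 : Rt 5 * Rt 6 ∈ Gam := Gam.mul_mem (TG_mem (Rt_mem 5)) (TG_mem (Rt_mem 6))
  have ha' : a = 1 ∨ a = Rt 7 ∨ a = Rt 5 * Rt 6 ∨ a = Rt 7 * (Rt 5 * Rt 6) := by
    rw [← rr_eq, ← ss_eq]
    exact ha
  rcases h with h | h
  · rw [h]; exact ha'
  · exfalso
    apply hPhi
    have haG : a ∈ Gam := by
      rcases ha' with h1 | h1 | h1 | h1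
      · rw [h1]; exact Gam.one_mem
      · rw [h1]; exact h7
      · rw [h1]; exact h56
      · rw [h1]; exact Gam.mul_mem h7 h56
    have h2 : Phi = a⁻¹ * g := by rw [h]; group
    rw [h2]
    exact Gam.mul_mem (Gam.inv_mem haG) hg

/-- the field automorphism is not in `Gam` if it is not inner -/
theorem Phi_notMem (h : ∀ y : ↥Gam, ∃ x : ↥Gam, sig x ≠ y * x * y⁻¹) : Phi ∉ Gam := by
  intro hP
  obtain ⟨x, hx⟩ := h ⟨Phi, hP⟩
  apply hx
  apply Subtype.ext
  show Phi * (x : GL (Fin 78) (ZMod 2)) * Phi = Phi * x * Phi⁻¹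
  rw [Phi_inv]

theorem cent (hPhi : Phi ∉ Gam) : Cent cfg Lset Sset := cent_of fun _ hg hc => cent_Gam hPhi hg hc

end Cfsg.Agent.TwoESix.FrameCent
end

-- part: BabyU/FusFinal
section
/-!
# The fusion step: some lift of a root involution is conjugate to `t`  (R19U, U-B P3, helper234)

`fuse` : for a `Setup` of index two with `E ≃* Gam` (the 78-dimensional model), from THEOREM OUT, the configuration
`FrameCfg.cfg` and a 2-group `Gen`, `Cent`.
-/

set_option autoImplicit false

namespace Cfsg.Agent.BabyU.FusFinal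

open Cfsg.Lie Cfsg.Agent.BabyU.Lab Cfsg.Agent.BabyU.FusCfg Cfsg.Agent.BabyU.OutFree Cfsg.Agent.BabyU.OutCount
open Cfsg.Agent.TwoESix Cfsg.Agent.TwoESix.Cox10 Cfsg.Agent.TwoESix.Lift Cfsg.Agent.TwoESix.Cover

/-- A finite simple group with two elements which do not commute has no subgroup of index two. -/
theorem index_ne_two {G : Type*} [Group G] [IsSimpleGroup G] (h : ∃ a b : G, a * b ≠ b * a)
    (H : Subgroup G) : H.index ≠ 2 := by
  intro h2
  have hn : H.Normal := Subgroup.normal_of_index_eq_two h2
  rcases hn.eq_bot_or_eq_top with h3 | h3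
  · obtain ⟨a, b, hab⟩ := h
    rw [h3, Subgroup.index_bot] at h2
    apply hab
    have hc : IsCyclic G := isCyclic_of_prime_card (p := 2) h2
    exact (IsCyclic.commGroup (α := G)).mul_comm a b
  · rw [h3, Subgroup.index_top] at h2
    exact absurd h2 (by norm_num)

/-- the centre of `M` -/
theorem nonsplit {G : Type*} [Group G] {t : G} {M : Subgroup G} {E : Type*} [Group E] {π : M →* E}
    (S : Setup t M π) : Cfsg.IsNonsplitDoubleCover M E := by
  refine FusRoot.nonsplit_of S.ext (fun c hc => ?_) S.nosec
  rcases S.cent (c : G) (fun m hm => congrArg Subtype.val (hc ⟨m, hm⟩)) with h1 | h1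
  · exact Or.inl (Subtype.ext h1)
  · exact Or.inr (Subtype.ext h1)

theorem P6_three : ∀ i, P6 3 i = pBC i := by decide

/-- the group is not commutative -/
theorem exists_not_commute {E : Type*} [Group E] {R : Set E} (roots : Roots E R) : ∃ a b : E, ¬ Commute a b := by
  obtain ⟨a, ha, b, hb, h⟩ := roots.spe_ex
  refine ⟨a, b, fun hc => roots.ne_one _ h ?_⟩
  rw [hc.mul_pow, pow_two, pow_two, roots.sq a ha, roots.sq b hb, mul_one]

/-- the 78-dimensional model, as an abstract group -/
theorem model : ∃ (Γ : Type) (_ : Group Γ) (T : Set Γ) (σ : Γ →* Γ) (T' : Fin 10 → Γ) (K : Cfg Γ T σ) (L S' : Set Γ),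
    GG T' ∧ (∀ i, T' i ∈ T) ∧ (∀ i, σ (T' i) = T' (pBC i)) ∧ (∀ r ∈ T, σ r ∈ T) ∧ FusGen.Gen K L S' ∧
    ((∀ y : Γ, ∃ x, σ x ≠ y * x * y⁻¹) → FusGen.Cent K L S') ∧
    ∀ (F : Type) [Field F] [Fintype F], Fintype.card F = 4 →
      ∃ θ : twistedE6 F 2 ≃* Γ, ∀ x, x ∈ rootClass F ↔ θ x ∈ T :=
  ⟨Iso.Gam, inferInstance, FrameCfg.TS, FrameCfg.sig, SwapNodes.S, FrameCfg.cfg, FrameU.Lset, FrameU.Sset,
    SwapNodes.gg_S, SwapNodes.S_mem, SwapNodes.sig_S, fun _ hr => FrameCfg.sig_TS hr, FrameU.gen,
    fun h => FrameCent.cent (FrameCent.Phi_notMem h), fun F _ _ hF => ClassIso.exists_equiv F hF⟩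

/-- The fusion step for an abstract model. -/
theorem fuse_abs [Finite HB] {G : Type*} [Group G] [Finite G] (hG : ∀ H : Subgroup G, H.index ≠ 2) {t : G}
    {M : Subgroup G} {E : Type*} [Group E] {π : M →* E} (S : Setup t M π) {F : Type*} [Field F] [Fintype F]
    {hF : Fintype.card F = 4} {R : Set E} (hcard : Nat.card HB ≤ Nat.card E) (hyp : Hyp hF R) (roots : Roots E R)
    (hinv : ∀ (g : G) (hg : g * t = t * g) (x : M), π x ∈ R → π ⟨g * x * g⁻¹, S.norm g hg x x.2⟩ ∈ R)
    {Γ : Type*} [Group Γ] {T : Set Γ} (θ : E ≃* Γ) (hθ : ∀ x, x ∈ R ↔ θ x ∈ T) {T' : Fin 10 → Γ} (hT' : GG T')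
    (hT'm : ∀ i, T' i ∈ T) (σ : Γ →* Γ) (hσ : ∀ i, σ (T' i) = T' (pBC i)) (hσT : ∀ r ∈ T, σ r ∈ T) (K : Cfg Γ T σ)
    {L S' : Set Γ} (hK : FusGen.Gen K L S') (hc : FusGen.Cent K L S') (hout : ∃ g : G, g * t = t * g ∧ g ∉ M) :
    ∃ m : M, π m ∈ R ∧ ∃ g : G, g * t * g⁻¹ = m := by
  obtain ⟨g, hg, hgM⟩ := hout
  have rootsΓ : Roots Γ T := FusRoot.roots_map roots θ hθ
  have hθs : ∀ y : Γ, y ∈ T → θ.symm y ∈ R := fun y hy => by
    rw [hθ, θ.apply_symm_apply]; exact hy
  obtain ⟨π', u, C, hmem, I, hut, huM, hu⟩ := FusRoot.bridge S hcard (exists_not_commute roots) hyp hinv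
    (e := fun i => θ.symm (T' i)) (FusRoot.gg_equiv hT' θ.symm) (fun i => hθs _ (hT'm i)) θ hθ
    (fun r hr x => rootsΓ.conj r hr x) rootsΓ.one hT' hT'm σ hσ hg hgM
  have hle : M ≤ Subgroup.centralizer ({(S.z : G)} : Set G) := fun x hx =>
    Subgroup.mem_centralizer_singleton_iff.2 (S.comm x hx)
  obtain ⟨x, hx⟩ := FusGen.exists_conj_root hG (t := S.z) hle (FusCore.relIndex_two S hut huM) C rootsΓ
    hσT I hut huM hu hK hc
  have hr : π' (w π' T K.r) ∈ T := by
    rw [map_w C rootsΓ K.m_r]
    exact K.m_r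
  rcases hx with hx | hx
  · exact ⟨w π' T K.r, (hmem _).1 hr, x, hx⟩
  · refine ⟨S.z * w π' T K.r, (hmem _).1 ?_, x, hx⟩
    rw [map_mul, C.map_t, one_mul]
    exact hr

/-- **The fusion step.** -/
theorem fuse [Finite HB] {G : Type*} [Group G] [Finite G] [IsSimpleGroup G] {F : Type} [Field F] [Fintype F]
    (hF : Fintype.card F = 4) {t : G} {M : Subgroup G} {π : M →* twistedE6 F 2} (S : Setup t M π)
    (hcard : Nat.card HB ≤ Nat.card (twistedE6 F 2))
    (hyp : Hyp hF (rootClass F)) (roots : Roots (twistedE6 F 2) (rootClass F))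
    (hinv : ∀ (g : G) (hg : g * t = t * g) (x : M), π x ∈ rootClass F →
      π ⟨g * x * g⁻¹, S.norm g hg x x.2⟩ ∈ rootClass F)
    (hout : ∃ g : G, g * t = t * g ∧ g ∉ M) :
    ∃ m : M, π m ∈ rootClass F ∧ ∃ g : G, g * t * g⁻¹ = m := by
  obtain ⟨Γ, _, T, σ, T', K, L, S', h1, h2, h3, h4, h5, h6, h7⟩ := model
  obtain ⟨θ, hθ⟩ := h7 F hF
  refine fuse_abs (index_ne_two ?_) S hcard hyp roots hinv θ hθ h1 h2 σ h3 h4 K h5 (h6 ?_) hout
  · obtain ⟨a, b, hab⟩ := exists_not_commute roots
    obtain ⟨a, rfl⟩ := S.surj a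
    obtain ⟨b, rfl⟩ := S.surj b
    refine ⟨a, b, fun h => hab ?_⟩
    have h8 : a * b = b * a := Subtype.ext h
    show π a * π b = π b * π a
    rw [← map_mul, h8, map_mul]
  · intro y
    by_contra hcon
    push Not at hcon
    refine not_inner (nonsplit S) hcard (FusRoot.gg_equiv h1 θ.symm) (n := 3) (by decide) (θ.symm y) fun i => ?_
    rw [P6_three, ← map_mul, ← map_inv, ← map_mul, ← hcon, h3]

end Cfsg.Agent.BabyU.FusFinal
end

private theorem dce_4a0a78f56b48 : _root_.True := by
  try have : _root_.True := by simp only [_root_.Cfsg.Agent.TwoESix.Cent.qR.eq_1]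
  exact _root_.True.intro
end

-- part: BabyU/Symm
section
prune_inst 0x30303104640200000000851000002044200000020068000000a0070200494300000409000a201410102a2a1020000040000000d0422000000a00080000040000000a00060040a000000000000000000000000000000000000000000000000004000000000
set_option linter.all false
open scoped Cfsg.Agent.FastGrp

-- part: BabyU/Local
section
/-!
# U-B: the local hypotheses at an involution, and the change of the base point

`Hyp hF t M π R`: the hypotheses of the identification of the Baby Monster at the involution `t`.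
`NN t M a b`: `b` is in the conjugate of `M` belonging to the conjugate `a` of `t`.
`Rel t M π R a b`: `b` is a good lift of a root involution in the conjugate of `M` belonging to the conjugate `a` of `t`.
-/

set_option autoImplicit false
set_option linter.unusedSectionVars false

namespace Cfsg.Agent.BabyU.Ident

open Cfsg Cfsg.Agent.R01.Lifts Cfsg.Agent.BabyU.RootCfg Cfsg.Agent.R01.PSUSix

universe u v w

variable {G : Type u} [Group G] {E : Type v} [Group E] {F : Type w} [Field F] [Fintype F]

/-- The output of the fusion step, weak form. -/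
structure FusW (t : G) (M : Subgroup G) (π : M →* E) (R : Set E) : Prop where
  /-- exactly one lift of a root involution is conjugate to `t` -/
  xor : ∀ m : M, π m ∈ R → Xor (∃ g : G, g * t * g⁻¹ = m) (∃ g : G, g * t * g⁻¹ = t * m)
  /-- the centraliser of `t` preserves the root involutions -/
  inv : ∀ g : G, g * t = t * g → ∀ m m' : M, (m' : G) = g * m * g⁻¹ → π m ∈ R → π m' ∈ R
  /-- of two commuting good lifts, each is a good lift for the other one -/
  star : ∀ x y : M, π x ∈ R → π y ∈ R → x ≠ y → (x : G) * y = y * x → (∃ g : G, g * t * g⁻¹ = y) →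
    ∀ g : G, g * t * g⁻¹ = x → ∃ m : M, (m : G) = g⁻¹ * y * g ∧ π m ∈ R

/-- The hypotheses of the identification. -/
structure Hyp (hF : Fintype.card F = 2 ^ 2) (t : G) (M : Subgroup G) (π : M →* E) (R : Set E) : Prop where
  S : Setup t M π
  RF : RootFacts hF R
  W : FusW t M π R
  perf1 : ∀ r ∈ R, ⁅(Subgroup.centralizer ({r} : Set E)).comap π, (Subgroup.centralizer ({r} : Set E)).comap π⁆ =
    (Subgroup.centralizer ({r} : Set E)).comap π
  perf2 : ∀ r ∈ R, ∀ s ∈ R, Opp r s →
    ⁅(Subgroup.centralizer ({r, s} : Set E)).comap π, (Subgroup.centralizer ({r, s} : Set E)).comap π⁆ =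
    (Subgroup.centralizer ({r, s} : Set E)).comap π

/-- the conjugate of `M` under `g` -/
def conjN (g : G) (M : Subgroup G) : Subgroup G := M.comap (MulAut.conj g⁻¹).toMonoidHom

theorem mem_conjN {g : G} {M : Subgroup G} {x : G} : x ∈ conjN g M ↔ g⁻¹ * x * g ∈ M := by
  rw [conjN, Subgroup.mem_comap]
  show g⁻¹ * x * g⁻¹⁻¹ ∈ M ↔ _
  rw [inv_inv]

/-- the isomorphism of the conjugate with `M` -/
def conjE (g : G) (M : Subgroup G) : conjN g M ≃* M where
  toFun x := ⟨g⁻¹ * x * g, mem_conjN.1 x.2⟩
  invFun m := ⟨g * m * g⁻¹, mem_conjN.2 (by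
    have : g⁻¹ * (g * m * g⁻¹) * g = (m : G) := by group
    rw [this]; exact m.2)⟩
  left_inv x := Subtype.ext (by show g * (g⁻¹ * x * g) * g⁻¹ = x; group)
  right_inv m := Subtype.ext (by show g⁻¹ * (g * m * g⁻¹) * g = m; group)
  map_mul' x y := Subtype.ext (by show g⁻¹ * (x * y) * g = g⁻¹ * x * g * (g⁻¹ * y * g); group)

theorem coe_conjE (g : G) (M : Subgroup G) (x : conjN g M) : ((conjE g M x : M) : G) = g⁻¹ * x * g := rfl

theorem coe_conjE_symm (g : G) (M : Subgroup G) (m : M) :
    (((conjE g M).symm m : conjN g M) : G) = g * m * g⁻¹ := rfl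

/-- the projection of the conjugate -/
def conjP (g : G) {M : Subgroup G} (π : M →* E) : conjN g M →* E := π.comp (conjE g M).toMonoidHom

theorem conjP_apply (g : G) {M : Subgroup G} (π : M →* E) (x : conjN g M) :
    conjP g π x = π (conjE g M x) := rfl

section Setup

variable {t : G} {M : Subgroup G} {π : M →* E} {R : Set E}

theorem setup_conj (S : Setup t M π) (g : G) : Setup (g * t * g⁻¹) (conjN g M) (conjP g π) where
  ne := fun h => S.ne (by
    have : t = g⁻¹ * (g * t * g⁻¹) * g := by group
    rw [this, h]; group)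
  sq := by
    have : g * t * g⁻¹ * (g * t * g⁻¹) = g * (t * t) * g⁻¹ := by group
    rw [this, S.sq]; group
  mem := mem_conjN.2 (by
    have : g⁻¹ * (g * t * g⁻¹) * g = t := by group
    rw [this]; exact S.mem)
  comm := fun m hm => by
    have h := S.comm _ (mem_conjN.1 hm)
    calc m * (g * t * g⁻¹) = g * (g⁻¹ * m * g * t) * g⁻¹ := by group
      _ = g * (t * (g⁻¹ * m * g)) * g⁻¹ := by rw [h]
      _ = g * t * g⁻¹ * m := by group
  norm := fun h hh m hm => by
    rw [mem_conjN] at hm ⊢
    have h1 : (g⁻¹ * h * g) * t = t * (g⁻¹ * h * g) := by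
      calc (g⁻¹ * h * g) * t = g⁻¹ * (h * (g * t * g⁻¹)) * g := by group
        _ = g⁻¹ * ((g * t * g⁻¹) * h) * g := by rw [hh]
        _ = t * (g⁻¹ * h * g) := by group
    have h2 := S.norm _ h1 _ hm
    have : g⁻¹ * (h * m * h⁻¹) * g = g⁻¹ * h * g * (g⁻¹ * m * g) * (g⁻¹ * h * g)⁻¹ := by group
    rw [this]; exact h2
  index := fun a b ha hb ha' hb' => by
    rw [mem_conjN] at ha' hb' ⊢
    have key : ∀ h : G, h * (g * t * g⁻¹) = g * t * g⁻¹ * h → (g⁻¹ * h * g) * t = t * (g⁻¹ * h * g) := by
      intro h hh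
      calc (g⁻¹ * h * g) * t = g⁻¹ * (h * (g * t * g⁻¹)) * g := by group
        _ = g⁻¹ * ((g * t * g⁻¹) * h) * g := by rw [hh]
        _ = t * (g⁻¹ * h * g) := by group
    have h2 := S.index _ _ (key a ha) (key b hb) ha' hb'
    have : g⁻¹ * (a * b) * g = g⁻¹ * a * g * (g⁻¹ * b * g) := by group
    rw [this]; exact h2
  cent := fun h hh => by
    have h1 := S.cent (g⁻¹ * h * g) (fun m hm => by
      have h2 := hh (g * m * g⁻¹) (mem_conjN.2 (by
        have : g⁻¹ * (g * m * g⁻¹) * g = m := by group
        rw [this]; exact hm))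
      calc g⁻¹ * h * g * m = g⁻¹ * (h * (g * m * g⁻¹)) * g := by group
        _ = g⁻¹ * ((g * m * g⁻¹) * h) * g := by rw [h2]
        _ = m * (g⁻¹ * h * g) := by group)
    have e : h = g * (g⁻¹ * h * g) * g⁻¹ := by group
    rcases h1 with h1 | h1
    · left; rw [e, h1]; group
    · right; rw [e, h1]
  surj := fun e => by
    obtain ⟨m, hm⟩ := S.surj e
    refine ⟨(conjE g M).symm m, ?_⟩
    rw [conjP_apply, MulEquiv.apply_symm_apply, hm]
  ker := fun m => by
    rw [conjP_apply, S.ker, coe_conjE]
    constructor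
    · rintro (h | h)
      · left
        have : (m : G) = g * (g⁻¹ * m * g) * g⁻¹ := by group
        rw [this, h]; group
      · right
        have : (m : G) = g * (g⁻¹ * m * g) * g⁻¹ := by group
        rw [this, h]
    · rintro (h | h)
      · left; rw [h]; group
      · right; rw [h]; group
  nosec := fun σ hσ => S.nosec ((conjE g M).toMonoidHom.comp σ) hσ

theorem exists_conj_iff {g x : G} : (∃ h : G, h * (g * t * g⁻¹) * h⁻¹ = x) ↔ ∃ h : G, h * t * h⁻¹ = x := by
  constructor
  · rintro ⟨h, rfl⟩
    exact ⟨h * g, by group⟩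
  · rintro ⟨h, rfl⟩
    exact ⟨h * g⁻¹, by group⟩

theorem exists_conj_iff' {g x : G} : (∃ h : G, h * t * h⁻¹ = g⁻¹ * x * g) ↔ ∃ h : G, h * t * h⁻¹ = x := by
  constructor
  · rintro ⟨h, hh⟩
    refine ⟨g * h, ?_⟩
    calc g * h * t * (g * h)⁻¹ = g * (h * t * h⁻¹) * g⁻¹ := by group
      _ = x := by rw [hh]; group
  · rintro ⟨h, rfl⟩
    exact ⟨g⁻¹ * h, by group⟩

theorem fusW_conj (W : FusW t M π R) (g : G) : FusW (g * t * g⁻¹) (conjN g M) (conjP g π) R where
  xor := fun m hm => by
    rw [conjP_apply] at hm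
    have h := W.xor _ hm
    rw [coe_conjE, exists_conj_iff'] at h
    rw [exists_conj_iff, exists_conj_iff]
    have e : t * (g⁻¹ * m * g) = g⁻¹ * (g * t * g⁻¹ * m) * g := by group
    rwa [e, exists_conj_iff'] at h
  inv := fun h hh m m' e hm => by
    rw [conjP_apply] at hm ⊢
    have h1 : (g⁻¹ * h * g) * t = t * (g⁻¹ * h * g) := by
      calc (g⁻¹ * h * g) * t = g⁻¹ * (h * (g * t * g⁻¹)) * g := by group
        _ = g⁻¹ * ((g * t * g⁻¹) * h) * g := by rw [hh]
        _ = t * (g⁻¹ * h * g) := by group
    refine W.inv _ h1 _ _ ?_ hm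
    rw [coe_conjE, coe_conjE, e]; group
  star := fun x y hx hy hne hc hD h hh => by
    rw [conjP_apply] at hx hy
    have h1 := W.star (conjE g M x) (conjE g M y) hx hy (fun e => hne ((conjE g M).injective e))
      (by
        rw [coe_conjE, coe_conjE]
        calc g⁻¹ * x * g * (g⁻¹ * y * g) = g⁻¹ * ((x : G) * y) * g := by group
          _ = g⁻¹ * ((y : G) * x) * g := by rw [hc]
          _ = g⁻¹ * y * g * (g⁻¹ * x * g) := by group)
      (by rw [coe_conjE, exists_conj_iff']; exact exists_conj_iff.1 hD)
      (g⁻¹ * h * g) (by rw [coe_conjE, ← hh]; group)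
    obtain ⟨m, hm, hmR⟩ := h1
    refine ⟨(conjE g M).symm m, ?_, ?_⟩
    · rw [coe_conjE_symm, hm, coe_conjE]; group
    · rw [conjP_apply, MulEquiv.apply_symm_apply]; exact hmR

end Setup

theorem perf_comap {A B : Type*} [Group A] [Group B] (e : A ≃* B) {Q : Subgroup B} (h : ⁅Q, Q⁆ = Q) :
    ⁅Q.comap e.toMonoidHom, Q.comap e.toMonoidHom⁆ = Q.comap e.toMonoidHom := by
  have h1 : Q.comap e.toMonoidHom = Q.map e.symm.toMonoidHom := by
    ext x
    rw [Subgroup.mem_comap, Subgroup.mem_map]
    constructor
    · intro hx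
      exact ⟨e x, hx, e.symm_apply_apply x⟩
    · rintro ⟨y, hy, rfl⟩
      have : e.toMonoidHom (e.symm.toMonoidHom y) = y := e.apply_symm_apply y
      rw [this]; exact hy
  rw [h1, ← Subgroup.map_commutator, h]

variable {hF : Fintype.card F = 2 ^ 2} {t : G} {M : Subgroup G} {π : M →* E} {R : Set E}

/-- Change of the base point. -/
theorem Hyp.conj (H : Hyp hF t M π R) (g : G) : Hyp hF (g * t * g⁻¹) (conjN g M) (conjP g π) R where
  S := setup_conj H.S g
  RF := H.RF
  W := fusW_conj H.W g
  perf1 := fun r hr => by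
    rw [conjP, ← Subgroup.comap_comap]
    exact perf_comap _ (H.perf1 r hr)
  perf2 := fun r hr s hs h => by
    rw [conjP, ← Subgroup.comap_comap]
    exact perf_comap _ (H.perf2 r hr s hs h)

/-- `b` is in the conjugate of `M` belonging to the conjugate `a` of `t`. -/
def NN (t : G) (M : Subgroup G) (a b : G) : Prop := ∃ g : G, a = g * t * g⁻¹ ∧ g⁻¹ * b * g ∈ M

/-- `b` is a good lift of a root involution with respect to the conjugate `a` of `t`. -/
def Rel (t : G) (M : Subgroup G) (π : M →* E) (R : Set E) (a b : G) : Prop :=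
  ∃ g : G, a = g * t * g⁻¹ ∧ (∃ h : g⁻¹ * b * g ∈ M, π ⟨g⁻¹ * b * g, h⟩ ∈ R) ∧ ∃ h : G, h * t * h⁻¹ = b

theorem nn_conj {g a b : G} : NN (g * t * g⁻¹) (conjN g M) a b ↔ NN t M a b := by
  constructor
  · rintro ⟨h, h1, h2⟩
    refine ⟨h * g, by rw [h1]; group, ?_⟩
    rw [mem_conjN] at h2
    have : (h * g)⁻¹ * b * (h * g) = g⁻¹ * (h⁻¹ * b * h) * g := by group
    rw [this]; exact h2
  · rintro ⟨h, h1, h2⟩
    refine ⟨h * g⁻¹, by rw [h1]; group, ?_⟩
    rw [mem_conjN]
    have : g⁻¹ * ((h * g⁻¹)⁻¹ * b * (h * g⁻¹)) * g = h⁻¹ * b * h := by group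
    rw [this]; exact h2

theorem rel_conj {g a b : G} : Rel (g * t * g⁻¹) (conjN g M) (conjP g π) R a b ↔ Rel t M π R a b := by
  constructor
  · rintro ⟨h, h1, ⟨h2, h3⟩, h4⟩
    refine ⟨h * g, by rw [h1]; group, ?_, exists_conj_iff.1 h4⟩
    have e : (h * g)⁻¹ * b * (h * g) = g⁻¹ * (h⁻¹ * b * h) * g := by group
    have h5 : (h * g)⁻¹ * b * (h * g) ∈ M := by rw [e]; exact mem_conjN.1 h2
    refine ⟨h5, ?_⟩
    have h6 : conjE g M ⟨h⁻¹ * b * h, h2⟩ = ⟨(h * g)⁻¹ * b * (h * g), h5⟩ := Subtype.ext e.symm
    rw [conjP_apply, h6] at h3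
    exact h3
  · rintro ⟨h, h1, ⟨h2, h3⟩, h4⟩
    refine ⟨h * g⁻¹, by rw [h1]; group, ?_, exists_conj_iff.2 h4⟩
    have e : g⁻¹ * ((h * g⁻¹)⁻¹ * b * (h * g⁻¹)) * g = h⁻¹ * b * h := by group
    have h5 : (h * g⁻¹)⁻¹ * b * (h * g⁻¹) ∈ conjN g M := mem_conjN.2 (by rw [e]; exact h2)
    refine ⟨h5, ?_⟩
    have h6 : conjE g M ⟨(h * g⁻¹)⁻¹ * b * (h * g⁻¹), h5⟩ = ⟨h⁻¹ * b * h, h2⟩ := Subtype.ext e
    rw [conjP_apply, h6]
    exact h3

theorem NN.equiv {a b : G} (h : NN t M a b) (g : G) : NN t M (g * a * g⁻¹) (g * b * g⁻¹) := by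
  obtain ⟨k, h1, h2⟩ := h
  refine ⟨g * k, by rw [h1]; group, ?_⟩
  have : (g * k)⁻¹ * (g * b * g⁻¹) * (g * k) = k⁻¹ * b * k := by group
  rw [this]; exact h2

theorem Rel.equiv {a b : G} (h : Rel t M π R a b) (g : G) : Rel t M π R (g * a * g⁻¹) (g * b * g⁻¹) := by
  obtain ⟨k, h1, ⟨h2, h3⟩, m, h4⟩ := h
  refine ⟨g * k, by rw [h1]; group, ?_, g * m, by rw [← h4]; group⟩
  have e : (g * k)⁻¹ * (g * b * g⁻¹) * (g * k) = k⁻¹ * b * k := by group
  refine ⟨by rw [e]; exact h2, ?_⟩
  have : (⟨(g * k)⁻¹ * (g * b * g⁻¹) * (g * k), by rw [e]; exact h2⟩ : M) = ⟨k⁻¹ * b * k, h2⟩ :=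
    Subtype.ext e
  rw [this]; exact h3

/-- A base point at every conjugate of `t`. -/
theorem Hyp.at (H : Hyp hF t M π R) {d : G} (hd : ∃ g : G, g * t * g⁻¹ = d) :
    ∃ (N : Subgroup G) (ρ : N →* E), Hyp hF d N ρ R ∧ (∀ a b, Rel d N ρ R a b ↔ Rel t M π R a b) ∧
      (∀ a b, NN d N a b ↔ NN t M a b) ∧ ∀ x, (∃ g : G, g * d * g⁻¹ = x) ↔ ∃ g : G, g * t * g⁻¹ = x := by
  obtain ⟨g, rfl⟩ := hd
  exact ⟨conjN g M, conjP g π, H.conj g, fun a b => rel_conj, fun a b => nn_conj, fun x => exists_conj_iff⟩

namespace Hyp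

theorem nn_base (H : Hyp hF t M π R) {x : G} : NN t M t x ↔ x ∈ M := by
  constructor
  · rintro ⟨g, h1, h2⟩
    have h3 : g * t = t * g := by
      calc g * t = g * t * g⁻¹ * g := by group
        _ = t * g := by rw [← h1]
    have h4 := H.S.norm g h3 _ h2
    have : g * (g⁻¹ * x * g) * g⁻¹ = x := by group
    rwa [this] at h4
  · intro h
    exact ⟨1, by group, by simpa using h⟩

theorem rel_base (H : Hyp hF t M π R) {x : G} :
    Rel t M π R t x ↔ (∃ h : x ∈ M, π ⟨x, h⟩ ∈ R) ∧ ∃ h : G, h * t * h⁻¹ = x := by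
  constructor
  · rintro ⟨g, h1, ⟨h2, h3⟩, h4⟩
    have h5 : g * t = t * g := by
      calc g * t = g * t * g⁻¹ * g := by group
        _ = t * g := by rw [← h1]
    have h6 := H.S.norm g h5 _ h2
    have e : g * (g⁻¹ * x * g) * g⁻¹ = x := by group
    rw [e] at h6
    exact ⟨⟨h6, H.W.inv g h5 ⟨_, h2⟩ ⟨x, h6⟩ e.symm h3⟩, h4⟩
  · rintro ⟨⟨h1, h2⟩, h3⟩
    refine ⟨1, by group, ?_, h3⟩
    have e : (1 : G)⁻¹ * x * 1 = x := by group
    refine ⟨by rw [e]; exact h1, ?_⟩
    have : (⟨(1 : G)⁻¹ * x * 1, by rw [e]; exact h1⟩ : M) = ⟨x, h1⟩ := Subtype.ext e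
    rw [this]; exact h2

theorem tt (H : Hyp hF t M π R) {x : G} (h : ∃ g : G, g * t * g⁻¹ = x) : x * x = 1 := by
  obtain ⟨g, rfl⟩ := h
  have : g * t * g⁻¹ * (g * t * g⁻¹) = g * (t * t) * g⁻¹ := by group
  rw [this, H.S.sq]; group

/-- Two elements of `M` with the same image. -/
theorem eq_or (H : Hyp hF t M π R) {x y : M} (h : π x = π y) : (x : G) = y ∨ (x : G) = t * y := by
  rcases H.S.ext.map_eq.1 h with h1 | h1
  · left; rw [h1]
  · right
    rw [h1]
    show (y : G) * t = t * y
    exact H.S.comm y y.2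

/-- Good lifts of the same root involution are equal. -/
theorem eq_of_map (H : Hyp hF t M π R) {x y : M} (hx : π x ∈ R) (cx : ∃ g : G, g * t * g⁻¹ = x)
    (cy : ∃ g : G, g * t * g⁻¹ = y) (h : π x = π y) : (x : G) = y := by
  rcases H.eq_or h.symm with h1 | h1
  · exact h1.symm
  · exfalso
    have h2 := H.W.xor x hx
    rw [← h1] at h2
    rcases h2 with ⟨-, h3⟩ | ⟨-, h3⟩
    · exact h3 cy
    · exact h3 cx

/-- Conjugation by an element whose image commutes with the root involution fixes the good lift. -/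
theorem comm_of (H : Hyp hF t M π R) {x : M} (hx : π x ∈ R) (cx : ∃ g : G, g * t * g⁻¹ = x) {m : M}
    (h : π m * π x = π x * π m) : (m : G) * x = x * m := by
  have h1 : π (m * x * m⁻¹) = π x := by
    rw [map_mul, map_mul, map_inv, h, mul_inv_cancel_right]
  have h2 : ((m * x * m⁻¹ : M) : G) = x := by
    refine H.eq_of_map (by rw [h1]; exact hx) ?_ cx h1
    obtain ⟨g, hg⟩ := cx
    refine ⟨m * g, ?_⟩
    show (m : G) * g * t * ((m : G) * g)⁻¹ = m * x * (m : G)⁻¹
    rw [← hg]; group
  have h3 : (m : G) * x * (m : G)⁻¹ = x := h2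
  calc (m : G) * x = (m : G) * x * (m : G)⁻¹ * m := by group
    _ = x * m := by rw [h3]

/-- A good lift of a root involution. -/
theorem exists_good (H : Hyp hF t M π R) {r : E} (hr : r ∈ R) :
    ∃ m : M, π m = r ∧ ∃ g : G, g * t * g⁻¹ = m := by
  obtain ⟨m, hm⟩ := H.S.surj r
  rcases H.W.xor m (by rw [hm]; exact hr) with ⟨h, -⟩ | ⟨h, -⟩
  · exact ⟨m, hm, h⟩
  · refine ⟨H.S.z * m, ?_, h⟩
    rw [map_mul, H.S.ext.mapz, one_mul, hm]

/-- Opposite root involutions have opposite good lifts. -/
theorem opp_iff (H : Hyp hF t M π R) {x y : M} (hx : π x ∈ R) (_hy : π y ∈ R)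
    (cx : ∃ g : G, g * t * g⁻¹ = x) (cy : ∃ g : G, g * t * g⁻¹ = y) :
    Opp (π x) (π y) ↔ Opp (x : G) y := by
  constructor
  · rintro ⟨h1, h2⟩
    refine ⟨fun h => h1 (by rw [Subtype.ext h]), ?_⟩
    have h3 : π ((x * y) ^ 3) = π 1 := by rw [map_pow, map_mul, h2, map_one]
    rcases H.eq_or h3 with h4 | h4
    · exact h4
    · exfalso
      -- `x y x = t (y x y)`
      have xx : (x : G) * x = 1 := H.tt cx
      have yy : (y : G) * y = 1 := H.tt cy
      have ct : ∀ m : M, (m : G) * t = t * m := fun m => H.S.comm m m.2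
      have h5 : ((x : G) * y) ^ 3 = t := by
        have h6 : (((x * y) ^ 3 : M) : G) = t * ((1 : M) : G) := h4
        rw [Subgroup.coe_one, mul_one] at h6
        exact h6
      have h6 : (x : G) * y * x = t * ((y : G) * x * y) := by
        have h7 : (x : G) * y * x * ((y : G) * x * y) = t := by
          rw [← h5, pow_succ, pow_two]; group
        calc (x : G) * y * x = (x : G) * y * x * ((y : G) * x * y) * ((y : G) * x * y)⁻¹ := by
              rw [mul_assoc _ _ ((y : G) * x * y)⁻¹, mul_inv_cancel, mul_one]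
          _ = t * ((y : G) * x * y)⁻¹ := by rw [h7]
          _ = t * ((y : G) * x * y) := by
            rw [mul_inv_rev, mul_inv_rev, inv_eq_of_mul_eq_one_left xx, inv_eq_of_mul_eq_one_left yy,
              mul_assoc (y : G)]
      have c1 : ∃ g : G, g * t * g⁻¹ = ((x * y * x : M) : G) := by
        obtain ⟨g, hg⟩ := cy
        refine ⟨x * g, ?_⟩
        show (x : G) * g * t * ((x : G) * g)⁻¹ = x * y * x
        rw [← hg]
        calc (x : G) * g * t * ((x : G) * g)⁻¹ = x * (g * t * g⁻¹) * (x : G)⁻¹ := by group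
          _ = x * (g * t * g⁻¹) * x := by rw [inv_eq_of_mul_eq_one_left xx]
      have c2 : ∃ g : G, g * t * g⁻¹ = ((y * x * y : M) : G) := by
        obtain ⟨g, hg⟩ := cx
        refine ⟨y * g, ?_⟩
        show (y : G) * g * t * ((y : G) * g)⁻¹ = y * x * y
        rw [← hg]
        calc (y : G) * g * t * ((y : G) * g)⁻¹ = y * (g * t * g⁻¹) * (y : G)⁻¹ := by group
          _ = y * (g * t * g⁻¹) * y := by rw [inv_eq_of_mul_eq_one_left yy]
      have h8 : π (y * x * y) ∈ R := by
        have h9 := H.RF.conj _ hx (π y)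
        have h10 : (π y)⁻¹ = π y := by
          rw [← map_inv]; congr 1
          exact Subtype.ext (inv_eq_of_mul_eq_one_left yy)
        rw [h10] at h9
        rwa [map_mul, map_mul]
      have h11 := H.W.xor _ h8
      have h12 : t * ((y * x * y : M) : G) = ((x * y * x : M) : G) := h6.symm
      rw [h12] at h11
      rcases h11 with ⟨-, h13⟩ | ⟨-, h13⟩
      · exact h13 c1
      · exact h13 c2
  · rintro ⟨h1, h2⟩
    refine ⟨fun h => h1 (H.eq_of_map hx cx cy h), ?_⟩
    have h3 : (x * y) ^ 3 = 1 := Subtype.ext h2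
    rw [← map_mul, ← map_pow, h3, map_one]

end Hyp

end Cfsg.Agent.BabyU.Ident
end

-- part: BabyU/Symm
section
/-!
# U-B: symmetry of the relation "good lift of a root involution"
-/

set_option autoImplicit false
set_option linter.unusedSectionVars false

namespace Cfsg.Agent.BabyU.Ident

open Cfsg Cfsg.Agent.R01.Lifts Cfsg.Agent.BabyU.RootCfg Cfsg.Agent.R01.PSUSix
open Cfsg.Agent.LieClassical.HermBasic
open Cfsg.Agent.ClassicalGeometry.UnitAutBasic (tau)
open Cfsg.Agent.SporadicStructure.UnitTwo (two_eq_zero add_self exists_omega pow_three)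
open scoped commutatorElement

universe u v w

variable {G : Type u} [Group G] {E : Type v} [Group E] {F : Type w} [Field F] [Fintype F]
variable {hF : Fintype.card F = 2 ^ 2} {t : G} {M : Subgroup G} {π : M →* E} {R : Set E}

/-- Every root involution has an opposite one. -/
theorem _root_.Cfsg.Agent.BabyU.RootCfg.RootFacts.exists_opp (hR : RootFacts hF R) {r : E} (hr : r ∈ R) :
    ∃ s ∈ R, Opp r s := by
  obtain ⟨a, ha, b, hb, h⟩ := hR.opp
  obtain ⟨g, rfl⟩ := hR.one a ha r hr
  exact ⟨g * b * g⁻¹, hR.conj b hb g, h.conj g⟩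

/-- Two vectors spanning a totally isotropic line. -/
theorem exists_orth (hF : Fintype.card F = 2 ^ 2) : ∃ v w : Fin 6 → F, v ≠ 0 ∧ w ≠ 0 ∧ hermForm 6 F 2 v v = 0 ∧
    hermForm 6 F 2 w w = 0 ∧ hermForm 6 F 2 v w = 0 ∧ ∀ c : F, w ≠ c • v := by
  have h2 := two_eq_zero hF
  refine ⟨![1, 1, 0, 0, 0, 0], ![0, 0, 1, 1, 0, 0], ?_, ?_, ?_, ?_, ?_, ?_⟩
  · intro h; have := congrFun h 0; simp at this
  · intro h; have := congrFun h 2; simp at this
  · rw [herm_def]; simp [Fin.sum_univ_succ]; linear_combination h2
  · rw [herm_def]; simp [Fin.sum_univ_succ]; linear_combination h2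
  · rw [herm_def]; simp [Fin.sum_univ_succ]
  · intro c h; have := congrFun h 2; simp at this

/-- Two different commuting root involutions commuting with a given opposite pair. -/
theorem _root_.Cfsg.Agent.BabyU.RootCfg.RootFacts.exists_pair (hR : RootFacts hF R) {r s : E} (hr : r ∈ R)
    (hs : s ∈ R) (h : Opp r s) : ∃ a ∈ R, ∃ b ∈ R, a ≠ b ∧ a * b = b * a ∧ a * r = r * a ∧ a * s = s * a ∧
      b * r = r * b ∧ b * s = s * b := by
  obtain ⟨ψ, C⟩ := hR.chart r hr
  obtain ⟨v, w, v0, w0, vv, ww, vw, hne⟩ := exists_orth hF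
  obtain ⟨a, ha, has, hav⟩ := C.exists_root hs h v0 vv
  obtain ⟨b, hb, hbs, hbw⟩ := C.exists_root hs h w0 ww
  refine ⟨a, ha, b, hb, ?_, (C.comm_iff hs h hav hbw has hbs).2 vw, mem_cent.1 hav.2.2.1, has,
    mem_cent.1 hbw.2.2.1, hbs⟩
  rintro rfl
  obtain ⟨-, -, m, e⟩ := hav
  obtain ⟨-, -, m', e'⟩ := hbw
  have h1 : tau hF v = tau hF w := by rw [← e, ← e']
  obtain ⟨c, -, hc⟩ := (tau_eq_iff hF (by norm_num) vv ww v0).1 h1
  exact hne c hc

namespace Hyp

theorem star' (H : Hyp hF t M π R) {x y : G} (hx : Rel t M π R t x) (hy : Rel t M π R t y) (hne : x ≠ y)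
    (hc : x * y = y * x) : Rel t M π R x y := by
  obtain ⟨⟨mx, rx⟩, g, hg⟩ := H.rel_base.1 hx
  obtain ⟨⟨my, ry⟩, hD⟩ := H.rel_base.1 hy
  obtain ⟨m, hm, hmR⟩ := H.W.star ⟨x, mx⟩ ⟨y, my⟩ rx ry (fun h => hne (congrArg Subtype.val h)) hc hD g hg
  refine ⟨g, hg.symm, ?_, hD⟩
  have h1 : g⁻¹ * y * g ∈ M := by
    have : (m : G) = g⁻¹ * y * g := hm
    rw [← this]; exact m.2
  refine ⟨h1, ?_⟩
  have : (⟨g⁻¹ * y * g, h1⟩ : M) = m := Subtype.ext hm.symm
  rw [this]; exact hmR

/-- a pair of commuting good lifts, each good for the other one -/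
theorem exists_sym (H : Hyp hF t M π R) : ∃ x y : G, Rel t M π R x y ∧ Rel t M π R y x := by
  obtain ⟨r, hr, s, hs, h⟩ := H.RF.opp
  obtain ⟨a, ha, b, hb, hne, hab, -⟩ := H.RF.exists_pair hr hs h
  obtain ⟨x, ex, cx⟩ := H.exists_good ha
  obtain ⟨y, ey, cy⟩ := H.exists_good hb
  have hxy : (x : G) * y = y * x :=
    H.comm_of (by rw [ey]; exact hb) cy (by rw [ex, ey]; exact hab)
  have rx : Rel t M π R t x := H.rel_base.2 ⟨⟨x.2, by rw [Subtype.coe_eta, ex]; exact ha⟩, cx⟩
  have ry : Rel t M π R t y := H.rel_base.2 ⟨⟨y.2, by rw [Subtype.coe_eta, ey]; exact hb⟩, cy⟩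
  have hn : (x : G) ≠ y := fun e => hne (by rw [← ex, ← ey, Subtype.ext e])
  exact ⟨x, y, H.star' rx ry hn hxy, H.star' ry rx hn.symm hxy.symm⟩

/-- transitivity on the pairs in the relation -/
theorem trans (H : Hyp hF t M π R) {x y : G} (hx : Rel t M π R t x) (hy : Rel t M π R t y) :
    ∃ m : M, (m : G) * x * (m : G)⁻¹ = y := by
  obtain ⟨⟨mx, rx⟩, cx⟩ := H.rel_base.1 hx
  obtain ⟨⟨my, ry⟩, cy⟩ := H.rel_base.1 hy
  obtain ⟨g, hg⟩ := H.RF.one _ rx _ ry
  obtain ⟨m, rfl⟩ := H.S.surj g
  refine ⟨m, ?_⟩
  have h1 : π (m * ⟨x, mx⟩ * m⁻¹) = π ⟨y, my⟩ := by rw [map_mul, map_mul, map_inv, hg]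
  refine H.eq_of_map (x := m * ⟨x, mx⟩ * m⁻¹) (y := ⟨y, my⟩) (by rw [h1]; exact ry) ?_ cy h1
  obtain ⟨k, hk⟩ := cx
  refine ⟨m * k, ?_⟩
  show (m : G) * k * t * ((m : G) * k)⁻¹ = m * x * (m : G)⁻¹
  rw [← hk]; group

theorem symm_base (H : Hyp hF t M π R) {c : G} (hc : Rel t M π R t c) : Rel t M π R c t := by
  obtain ⟨x, y, hxy, hyx⟩ := H.exists_sym
  obtain ⟨g, hg, -⟩ := id hxy
  have h1 := hxy.equiv g⁻¹
  have h2 := hyx.equiv g⁻¹
  have e : g⁻¹ * x * g⁻¹⁻¹ = t := by rw [hg]; group
  rw [e] at h1 h2
  obtain ⟨m, hm⟩ := H.trans h1 hc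
  have h3 := h2.equiv m
  rw [hm] at h3
  have e2 : (m : G) * t * (m : G)⁻¹ = t := by rw [H.S.comm m m.2]; group
  rwa [e2] at h3

theorem symm (H : Hyp hF t M π R) {a b : G} (h : Rel t M π R a b) : Rel t M π R b a := by
  obtain ⟨g, hg, -⟩ := id h
  have h1 := h.equiv g⁻¹
  have e : g⁻¹ * a * g⁻¹⁻¹ = t := by rw [hg]; group
  rw [e] at h1
  have h2 := (H.symm_base h1).equiv g
  have e1 : g * (g⁻¹ * b * g⁻¹⁻¹) * g⁻¹ = b := by group
  rw [e1, ← hg] at h2
  exact h2

theorem conjL (_H : Hyp hF t M π R) {a b : G} (h : Rel t M π R a b) : ∃ g : G, g * t * g⁻¹ = a := by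
  obtain ⟨g, hg, -⟩ := h
  exact ⟨g, hg.symm⟩

theorem conjR (_H : Hyp hF t M π R) {a b : G} (h : Rel t M π R a b) : ∃ g : G, g * t * g⁻¹ = b := by
  obtain ⟨g, -, -, h⟩ := h
  exact h

theorem star (H : Hyp hF t M π R) {c x y : G} (hx : Rel t M π R c x) (hy : Rel t M π R c y) (hne : x ≠ y)
    (hc : x * y = y * x) : Rel t M π R x y := by
  obtain ⟨N, ρ, H', h1, -, -⟩ := H.at (H.conjL hx)
  rw [← h1]
  exact H'.star' ((h1 _ _).2 hx) ((h1 _ _).2 hy) hne hc

theorem nn_of_rel (_H : Hyp hF t M π R) {a b : G} (h : Rel t M π R a b) : NN t M a b := by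
  obtain ⟨g, hg, ⟨h1, -⟩, -⟩ := h
  exact ⟨g, hg, h1⟩

theorem rel_comm (H : Hyp hF t M π R) {a b : G} (h : Rel t M π R a b) : a * b = b * a := by
  obtain ⟨g, hg, ⟨h1, -⟩, -⟩ := h
  have h2 := H.S.comm _ h1
  rw [hg]
  calc g * t * g⁻¹ * b = g * (t * (g⁻¹ * b * g)) * g⁻¹ := by group
    _ = g * (g⁻¹ * b * g * t) * g⁻¹ := by rw [h2]
    _ = b * (g * t * g⁻¹) := by group

theorem rel_ne (H : Hyp hF t M π R) {a b : G} (h : Rel t M π R a b) : a ≠ b := by
  rintro rfl
  obtain ⟨g, hg, ⟨h1, h2⟩, -⟩ := h
  have e : g⁻¹ * a * g = t := by rw [hg]; group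
  have h3 : (⟨g⁻¹ * a * g, h1⟩ : M) = H.S.z := Subtype.ext e
  rw [h3, H.S.ext.mapz] at h2
  exact H.RF.ne 1 h2 rfl

theorem nn_comm (H : Hyp hF t M π R) {a b : G} (h : NN t M a b) : a * b = b * a := by
  obtain ⟨g, hg, h1⟩ := h
  have h2 := H.S.comm _ h1
  rw [hg]
  calc g * t * g⁻¹ * b = g * (t * (g⁻¹ * b * g)) * g⁻¹ := by group
    _ = g * (g⁻¹ * b * g * t) * g⁻¹ := by rw [h2]
    _ = b * (g * t * g⁻¹) := by group

/-- Commutators of elements of the centraliser are in `M`. -/
theorem comm_mem (H : Hyp hF t M π R) {g h : G} (hg : g * t = t * g) (hh : h * t = t * h) : ⁅g, h⁆ ∈ M := by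
  have ginv : g⁻¹ * t = t * g⁻¹ := by
    calc g⁻¹ * t = g⁻¹ * (t * g) * g⁻¹ := by group
      _ = g⁻¹ * (g * t) * g⁻¹ := by rw [hg]
      _ = t * g⁻¹ := by group
  have hinv : h⁻¹ * t = t * h⁻¹ := by
    calc h⁻¹ * t = h⁻¹ * (t * h) * h⁻¹ := by group
      _ = h⁻¹ * (h * t) * h⁻¹ := by rw [hh]
      _ = t * h⁻¹ := by group
  rw [commutatorElement_def]
  by_cases mg : g ∈ M
  · have h1 := H.S.norm h hh _ (M.inv_mem mg)
    have : g * h * g⁻¹ * h⁻¹ = g * (h * g⁻¹ * h⁻¹) := by group
    rw [this]; exact M.mul_mem mg h1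
  · by_cases mh : h ∈ M
    · have h1 := H.S.norm g hg _ mh
      exact M.mul_mem h1 (M.inv_mem mh)
    · have h1 : g * h ∈ M := H.S.index g h hg hh mg mh
      have h2 : g⁻¹ * h⁻¹ ∈ M := H.S.index _ _ ginv hinv (fun h => mg (by simpa using M.inv_mem h))
        (fun h' => mh (by simpa using M.inv_mem h'))
      have : g * h * g⁻¹ * h⁻¹ = g * h * (g⁻¹ * h⁻¹) := by group
      rw [this]; exact M.mul_mem h1 h2

/-- The centraliser in `M` of a good lift `c` lies in the conjugate of `M` belonging to `c`. -/
theorem cent_base (H : Hyp hF t M π R) {c g : G} (hc : Rel t M π R t c) (hg : g ∈ M) (hgc : g * c = c * g) :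
    NN t M c g := by
  obtain ⟨⟨mc, rc⟩, cc⟩ := H.rel_base.1 hc
  -- the base point `c`
  obtain ⟨N, ρ, H', h1, h2, h3⟩ := H.at cc
  rw [← h2, H'.nn_base]
  -- the preimage of the centraliser
  set P := (Subgroup.centralizer ({π ⟨c, mc⟩} : Set E)).comap π with hP
  have hPc : ∀ m ∈ P, (m : G) * c = c * m := by
    intro m hm
    exact H.comm_of (x := ⟨c, mc⟩) rc cc (mem_cent.1 hm)
  have hperf := H.perf1 _ rc
  rw [← hP] at hperf
  have hle : P ≤ N.comap M.subtype := by
    rw [← hperf, Subgroup.commutator_le]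
    intro x hx y hy
    show (⁅x, y⁆ : M).1 ∈ N
    have : ((⁅x, y⁆ : M) : G) = ⁅(x : G), (y : G)⁆ := rfl
    rw [this]
    exact H'.comm_mem (hPc x hx) (hPc y hy)
  have hgP : (⟨g, hg⟩ : M) ∈ P := by
    show π ⟨g, hg⟩ ∈ Subgroup.centralizer ({π ⟨c, mc⟩} : Set E)
    rw [mem_cent, ← map_mul, ← map_mul]
    congr 1
    exact Subtype.ext hgc
  exact hle hgP

theorem cent (H : Hyp hF t M π R) {a c g : G} (hc : Rel t M π R a c) (hg : NN t M a g) (hgc : g * c = c * g) :
    NN t M c g := by
  obtain ⟨N, ρ, H', h1, h2, -⟩ := H.at (H.conjL hc)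
  rw [← h2]
  exact H'.cent_base ((h1 _ _).2 hc) (H'.nn_base.1 ((h2 _ _).2 hg)) hgc

end Hyp

end Cfsg.Agent.BabyU.Ident
end

private theorem dce_0a4008b7dded : _root_.True := by
  try have : _root_.True := by simp only [_root_.Cfsg.Agent.BabyU.Ident.conjN.eq_1]
  try have : _root_.True := by simp only [_root_.Cfsg.Agent.BabyU.Ident.conjP.eq_1]
  exact _root_.True.intro
end

-- part: BabyU/KeyM
section
prune_inst 0x2030700440020000001885100200204400000002006b000111a00702014e530120010f0148e01e10913a2a7020028040001001d9423000002a00820040040000042a60c60240b00021000040f807180c00000000000000000000000000041004000000000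
set_option linter.all false
open scoped Cfsg.Agent.FastGrp

-- part: BabyU/FusU1
section
/-!
# U-B: the full fusion statement (u1)

Every conjugate of `t` in `M`, different from `t`, lies over a root involution.

Input: `Ident.Hyp` (with `FusW`), one orbit of symplectic pairs, the list of the involutions of `M` (`KeyM`) and a heptad:
seven commuting good lifts with product one.
-/

set_option autoImplicit false

namespace Cfsg.Agent.BabyU.FusU1

open Cfsg Cfsg.Agent.BabyU Cfsg.Agent.BabyU.RootCfg Cfsg.Agent.BabyU.Ident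

universe u v w

variable {G : Type u} [Group G] {E : Type v} [Group E] {F : Type w} [Field F] [Fintype F]
variable {hF : Fintype.card F = 2 ^ 2} {t : G} {M : Subgroup G} {π : M →* E} {R : Set E}

/-- The list of the involutions of `M`. -/
def KeyM (t : G) (M : Subgroup G) (π : M →* E) (R : Set E) : Prop :=
  ∀ y : M, y * y = 1 → (y : G) ≠ 1 → (y : G) ≠ t →
    π y ∈ R ∨ (∃ a ∈ R, ∃ b ∈ R, a ≠ b ∧ a * b = b * a ∧ π y = a * b) ∨
    ∃ x₁ x₂ x₃ : G, _root_.Cfsg.Agent.BabyU.Ident.Rel t M π R t x₁ ∧ _root_.Cfsg.Agent.BabyU.Ident.Rel t M π R t x₂ ∧ _root_.Cfsg.Agent.BabyU.Ident.Rel t M π R t x₃ ∧ x₁ ≠ x₂ ∧ x₁ ≠ x₃ ∧ x₂ ≠ x₃ ∧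
      x₁ * x₂ = x₂ * x₁ ∧ x₁ * x₃ = x₃ * x₁ ∧ x₂ * x₃ = x₃ * x₂ ∧ (y : G) = x₁ * x₂ * x₃

/-- Seven commuting good lifts with product one. -/
def Heptad (t : G) (M : Subgroup G) (π : M →* E) (R : Set E) : Prop :=
  ∃ x : Fin 7 → G, (∀ i, _root_.Cfsg.Agent.BabyU.Ident.Rel t M π R t (x i)) ∧ (∀ i j, i ≠ j → x i ≠ x j ∧ x i * x j = x j * x i) ∧
    x 0 * x 1 * x 2 * x 3 * x 4 * x 5 * x 6 = 1

/-- Symplectic pairs form one orbit. -/
def Sym (R : Set E) : Prop :=
  ∀ a ∈ R, ∀ b ∈ R, ∀ a' ∈ R, ∀ b' ∈ R, a ≠ b → a * b = b * a → a * b ∉ R →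
    a' ≠ b' → a' * b' = b' * a' → a' * b' ∉ R → ∃ g : E, g * a * g⁻¹ = a' ∧ g * b * g⁻¹ = b'

variable (H : Hyp hF t M π R)

include H

theorem prod_notin {a b : G} (h : _root_.Cfsg.Agent.BabyU.Ident.Rel t M π R a b) : ¬ ∃ g : G, g * t * g⁻¹ = a * b := by
  obtain ⟨g, rfl, ⟨hm, hr⟩, hD⟩ := h
  rcases H.W.xor ⟨g⁻¹ * b * g, hm⟩ hr with ⟨-, h2⟩ | ⟨-, h2⟩
  · intro h3
    apply h2
    rw [← exists_conj_iff' (g := g⁻¹)]
    obtain ⟨k, hk⟩ := h3
    refine ⟨k, ?_⟩
    rw [hk]
    show g * t * g⁻¹ * b = g⁻¹⁻¹ * (t * (g⁻¹ * b * g)) * g⁻¹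
    group
  · exact absurd ((exists_conj_iff' (g := g)).2 hD) h2

theorem ne_one {x : G} (h : ∃ g : G, g * t * g⁻¹ = x) : x ≠ 1 := by
  rintro rfl
  obtain ⟨g, hg⟩ := h
  apply H.S.ne
  calc t = g⁻¹ * (g * t * g⁻¹) * g := by group
    _ = 1 := by rw [hg]; group

/-- The list of the involutions at every base point. -/
theorem keyG (K : KeyM t M π R) {c y : G} (h : NN t M c y) (hy : y * y = 1) (h1 : y ≠ 1) (hc : y ≠ c) :
    (_root_.Cfsg.Agent.BabyU.Ident.Rel t M π R c y ∨ _root_.Cfsg.Agent.BabyU.Ident.Rel t M π R c (c * y)) ∨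
    (∃ x₁ x₂ : G, _root_.Cfsg.Agent.BabyU.Ident.Rel t M π R c x₁ ∧ _root_.Cfsg.Agent.BabyU.Ident.Rel t M π R c x₂ ∧ x₁ ≠ x₂ ∧ x₁ * x₂ = x₂ * x₁ ∧
      (y = x₁ * x₂ ∨ y = c * x₁ * x₂)) ∨
    ∃ x₁ x₂ x₃ : G, _root_.Cfsg.Agent.BabyU.Ident.Rel t M π R c x₁ ∧ _root_.Cfsg.Agent.BabyU.Ident.Rel t M π R c x₂ ∧ _root_.Cfsg.Agent.BabyU.Ident.Rel t M π R c x₃ ∧ x₁ ≠ x₂ ∧ x₁ ≠ x₃ ∧ x₂ ≠ x₃ ∧
      x₁ * x₂ = x₂ * x₁ ∧ x₁ * x₃ = x₃ * x₁ ∧ x₂ * x₃ = x₃ * x₂ ∧ y = x₁ * x₂ * x₃ := by
  obtain ⟨g, rfl, hM⟩ := h
  have back : ∀ x : G, g * (g⁻¹ * x * g) * g⁻¹ = x := fun x => by group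
  have conj : ∀ {a b : G}, _root_.Cfsg.Agent.BabyU.Ident.Rel t M π R a b → _root_.Cfsg.Agent.BabyU.Ident.Rel t M π R (g * a * g⁻¹) (g * b * g⁻¹) := fun h => h.equiv g
  have ne : ∀ {a b : G}, a ≠ b → g * a * g⁻¹ ≠ g * b * g⁻¹ := by
    intro a b h h'
    exact h (mul_left_cancel (mul_right_cancel h'))
  have cm : ∀ {a b : G}, a * b = b * a → (g * a * g⁻¹) * (g * b * g⁻¹) = (g * b * g⁻¹) * (g * a * g⁻¹) := by
    intro a b h
    calc (g * a * g⁻¹) * (g * b * g⁻¹) = g * (a * b) * g⁻¹ := by group
      _ = g * (b * a) * g⁻¹ := by rw [h]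
      _ = _ := by group
  obtain ⟨y', hy'⟩ : ∃ y' : M, (y' : G) = g⁻¹ * y * g := ⟨⟨_, hM⟩, rfl⟩
  have hy0 : y = g * y' * g⁻¹ := by rw [hy', back]
  rcases K y' (Subtype.ext (by
      show (y' : G) * y' = 1
      rw [hy']
      calc g⁻¹ * y * g * (g⁻¹ * y * g) = g⁻¹ * (y * y) * g := by group
        _ = 1 := by rw [hy]; group)) (by
      rw [hy']
      intro h
      apply h1
      rw [← back y, h]; group) (by
      rw [hy']
      intro h
      apply hc
      rw [← back y, h]) with h | ⟨a, ha, b, hb, hne, hab, h⟩ | ⟨x₁, x₂, x₃, r1, r2, r3, n1, n2, n3, c1, c2, c3, h⟩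
  · left
    rcases H.W.xor y' h with ⟨h2, -⟩ | ⟨h2, -⟩
    · left
      rw [hy0]
      exact conj (H.rel_base.2 ⟨⟨y'.2, h⟩, h2⟩)
    · right
      have h3 : g * t * g⁻¹ * y = g * (t * y') * g⁻¹ := by rw [hy0]; group
      rw [h3]
      refine conj (H.rel_base.2 ⟨⟨M.mul_mem H.S.mem y'.2, ?_⟩, h2⟩)
      have h4 : π ⟨t * y', M.mul_mem H.S.mem y'.2⟩ = π y' := by
        have : (⟨t * y', M.mul_mem H.S.mem y'.2⟩ : M) = H.S.z * y' := rfl
        rw [this, map_mul, H.S.ext.mapz, one_mul]
      rw [h4]; exact h
  · right; left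
    obtain ⟨x₁, e1, d1⟩ := H.exists_good ha
    obtain ⟨x₂, e2, d2⟩ := H.exists_good hb
    have hcomm : (x₁ : G) * x₂ = x₂ * x₁ := H.comm_of (by rw [e2]; exact hb) d2 (by rw [e1, e2]; exact hab)
    have hn : (x₁ : G) ≠ x₂ := fun e => hne (by rw [← e1, ← e2, Subtype.ext e])
    refine ⟨g * x₁ * g⁻¹, g * x₂ * g⁻¹, conj (H.rel_base.2 ⟨⟨x₁.2, by rw [Subtype.coe_eta, e1]; exact ha⟩, d1⟩),
      conj (H.rel_base.2 ⟨⟨x₂.2, by rw [Subtype.coe_eta, e2]; exact hb⟩, d2⟩), ne hn, cm hcomm, ?_⟩
    have h5 : π y' = π (x₁ * x₂) := by rw [h, map_mul, e1, e2]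
    rcases H.eq_or h5 with h6 | h6
    · left
      rw [hy0, h6]
      show g * ((x₁ : G) * x₂) * g⁻¹ = _
      group
    · right
      rw [hy0, h6]
      show g * (t * ((x₁ : G) * x₂)) * g⁻¹ = _
      group
  · right; right
    refine ⟨g * x₁ * g⁻¹, g * x₂ * g⁻¹, g * x₃ * g⁻¹, conj r1, conj r2, conj r3, ne n1, ne n2, ne n3, cm c1, cm c2,
      cm c3, ?_⟩
    rw [hy0, h]; group

/-- If one product `t x y` of a symplectic pair is a conjugate of `t`, then all. -/
theorem all_base (sym : Sym R) {x₀ y₀ : M} (hx₀ : _root_.Cfsg.Agent.BabyU.Ident.Rel t M π R t x₀) (hy₀ : _root_.Cfsg.Agent.BabyU.Ident.Rel t M π R t y₀) (hne₀ : (x₀ : G) ≠ y₀)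
    (hc₀ : (x₀ : G) * y₀ = y₀ * x₀) (hR : π x₀ * π y₀ ∉ R) (hD₀ : ∃ g : G, g * t * g⁻¹ = t * x₀ * y₀)
    {x y : G} (hx : _root_.Cfsg.Agent.BabyU.Ident.Rel t M π R t x) (hy : _root_.Cfsg.Agent.BabyU.Ident.Rel t M π R t y) (hne : x ≠ y) (hc : x * y = y * x) :
    ∃ g : G, g * t * g⁻¹ = t * x * y := by
  obtain ⟨⟨mx, rx⟩, dx⟩ := H.rel_base.1 hx
  obtain ⟨⟨my, ry⟩, dy⟩ := H.rel_base.1 hy
  obtain ⟨⟨mx₀, rx₀⟩, dx₀⟩ := H.rel_base.1 hx₀
  obtain ⟨⟨my₀, ry₀⟩, dy₀⟩ := H.rel_base.1 hy₀
  obtain ⟨X, rfl⟩ : ∃ X : M, (X : G) = x := ⟨⟨x, mx⟩, rfl⟩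
  obtain ⟨Y, rfl⟩ : ∃ Y : M, (Y : G) = y := ⟨⟨y, my⟩, rfl⟩
  rw [Subtype.coe_eta] at rx ry rx₀ ry₀
  have hcE : π X * π Y = π Y * π X := by
    rw [← map_mul, ← map_mul]; congr 1; exact Subtype.ext hc
  have hcE₀ : π x₀ * π y₀ = π y₀ * π x₀ := by
    rw [← map_mul, ← map_mul]; congr 1; exact Subtype.ext hc₀
  by_cases hXY : π X * π Y ∈ R
  · rw [← map_mul] at hXY
    rcases H.W.xor _ hXY with ⟨h1, -⟩ | ⟨h1, -⟩
    · exact absurd h1 (prod_notin H (H.star' hx hy hne hc))
    · obtain ⟨g, hg⟩ := h1
      refine ⟨g, ?_⟩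
      rw [hg]
      show t * ((X : G) * Y) = _
      group
  · obtain ⟨e, he1, he2⟩ := sym _ rx₀ _ ry₀ _ rx _ ry (fun h => hne₀ (H.eq_of_map rx₀ dx₀ dy₀ h)) hcE₀ hR
      (fun h => hne (H.eq_of_map rx dx dy h)) hcE hXY
    obtain ⟨m, rfl⟩ := H.S.surj e
    have move : ∀ {a b : M}, π a ∈ R → (∃ g : G, g * t * g⁻¹ = a) → (∃ g : G, g * t * g⁻¹ = b) →
        π m * π a * (π m)⁻¹ = π b → (m : G) * a * (m : G)⁻¹ = b := by
      intro a b ha da db h
      have h1 : π (m * a * m⁻¹) = π b := by rw [map_mul, map_mul, map_inv, h]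
      have h2 : π (m * a * m⁻¹) ∈ R := by
        rw [map_mul, map_mul, map_inv]
        exact H.RF.conj _ ha _
      refine H.eq_of_map (x := m * a * m⁻¹) h2 ?_ db h1
      obtain ⟨g, hg⟩ := da
      refine ⟨m * g, ?_⟩
      show (m : G) * g * t * ((m : G) * g)⁻¹ = m * a * (m : G)⁻¹
      rw [← hg]; group
    have f1 := move rx₀ dx₀ dx he1
    have f2 := move ry₀ dy₀ dy he2
    obtain ⟨g, hg⟩ := hD₀
    refine ⟨m * g, ?_⟩
    have ht : (m : G) * t * (m : G)⁻¹ = t := by rw [H.S.comm m m.2]; group
    calc (m : G) * g * t * ((m : G) * g)⁻¹ = m * (g * t * g⁻¹) * (m : G)⁻¹ := by group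
      _ = (m * t * (m : G)⁻¹) * (m * x₀ * (m : G)⁻¹) * (m * y₀ * (m : G)⁻¹) := by rw [hg]; group
      _ = t * X * Y := by rw [ht, f1, f2]

/-- Transport of a statement on pairs of good lifts to other base points. -/
theorem to_all {P : G → Prop} (hP : ∀ g x, P x → P (g * x * g⁻¹))
    (h : ∀ x y : G, _root_.Cfsg.Agent.BabyU.Ident.Rel t M π R t x → _root_.Cfsg.Agent.BabyU.Ident.Rel t M π R t y → x ≠ y → x * y = y * x → P (t * x * y)) {c x y : G}
    (hx : _root_.Cfsg.Agent.BabyU.Ident.Rel t M π R c x) (hy : _root_.Cfsg.Agent.BabyU.Ident.Rel t M π R c y) (hne : x ≠ y) (hc : x * y = y * x) : P (c * x * y) := by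
  obtain ⟨g, hg⟩ := H.conjL hx
  have h1 := hx.equiv g⁻¹
  have h2 := hy.equiv g⁻¹
  have e : g⁻¹ * c * g⁻¹⁻¹ = t := by rw [← hg]; group
  rw [e] at h1 h2
  have h3 := hP g _ (h _ _ h1 h2 (fun h => hne (mul_left_cancel (mul_right_cancel h))) (by
    calc (g⁻¹ * x * g⁻¹⁻¹) * (g⁻¹ * y * g⁻¹⁻¹) = g⁻¹ * (x * y) * g⁻¹⁻¹ := by group
      _ = g⁻¹ * (y * x) * g⁻¹⁻¹ := by rw [hc]
      _ = _ := by group))
  have e2 : g * (t * (g⁻¹ * x * g⁻¹⁻¹) * (g⁻¹ * y * g⁻¹⁻¹)) * g⁻¹ = c * x * y := by rw [← hg]; group
  rwa [e2] at h3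

/-- Two elements commuting with `c` and not in `N_c` have product in `N_c`. -/
theorem nn_mul {c x y : G} (hc : ∃ g : G, g * t * g⁻¹ = c) (hx : x * c = c * x) (hy : y * c = c * y)
    (hx' : ¬ NN t M c x) (hy' : ¬ NN t M c y) : NN t M c (x * y) := by
  obtain ⟨g, rfl⟩ := hc
  have conj : ∀ v : G, v * (g * t * g⁻¹) = (g * t * g⁻¹) * v → (g⁻¹ * v * g) * t = t * (g⁻¹ * v * g) := by
    intro v hv
    calc (g⁻¹ * v * g) * t = g⁻¹ * (v * (g * t * g⁻¹)) * g := by group
      _ = g⁻¹ * ((g * t * g⁻¹) * v) * g := by rw [hv]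
      _ = _ := by group
  refine ⟨g, rfl, ?_⟩
  have := H.S.index _ _ (conj x hx) (conj y hy) (fun h => hx' ⟨g, rfl, h⟩) (fun h => hy' ⟨g, rfl, h⟩)
  have e : g⁻¹ * x * g * (g⁻¹ * y * g) = g⁻¹ * (x * y) * g := by group
  rwa [e] at this

/-- The contradiction. -/
theorem contra (K : KeyM t M π R) (hep : Heptad t M π R)
    (hA : ∀ x y : G, _root_.Cfsg.Agent.BabyU.Ident.Rel t M π R t x → _root_.Cfsg.Agent.BabyU.Ident.Rel t M π R t y → x ≠ y → x * y = y * x →
      ∃ g : G, g * t * g⁻¹ = t * x * y) : False := by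
  -- all products of three
  have A2 : ∀ {c x y : G}, _root_.Cfsg.Agent.BabyU.Ident.Rel t M π R c x → _root_.Cfsg.Agent.BabyU.Ident.Rel t M π R c y → x ≠ y → x * y = y * x →
      ∃ g : G, g * t * g⁻¹ = c * x * y := fun h1 h2 h3 h4 =>
    to_all H (P := fun z => ∃ g : G, g * t * g⁻¹ = z) (by
      rintro g _ ⟨k, rfl⟩
      exact ⟨g * k, by group⟩) hA h1 h2 h3 h4
  -- (W)
  have W : ∀ {c y : G}, NN t M c y → y * y = 1 → y ≠ 1 → y ≠ c →
      (∃ g : G, g * t * g⁻¹ = y) ∨ ∃ g : G, g * t * g⁻¹ = c * y := by
    intro c y h hy h1 hc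
    rcases keyG H K h hy h1 hc with (h | h) | ⟨x₁, x₂, r1, r2, n1, c1, h | h⟩ |
      ⟨x₁, x₂, x₃, r1, r2, r3, n1, n2, n3, c1, c2, c3, h⟩
    · exact Or.inl (H.conjR h)
    · exact Or.inr (H.conjR h)
    · right
      rw [h, ← mul_assoc]
      exact A2 r1 r2 n1 c1
    · left
      rw [h]
      exact A2 r1 r2 n1 c1
    · left
      rw [h]
      exact A2 (H.star r1 r2 n1 c1) (H.star r1 r3 n2 c2) n3 c3
  obtain ⟨x, hx, hc, hprod⟩ := hep
  have rel : ∀ i j, i ≠ j → _root_.Cfsg.Agent.BabyU.Ident.Rel t M π R (x i) (x j) := fun i j h =>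
    H.star (hx i) (hx j) (hc i j h).1 (hc i j h).2
  have sq : ∀ i, x i * x i = 1 := fun i => H.tt (H.conjR (hx i))
  have cm : ∀ i j, x i * x j = x j * x i := by
    intro i j
    by_cases h : i = j
    · rw [h]
    · exact (hc i j h).2
  have hX : ∃ g : G, g * t * g⁻¹ = x 0 * x 1 * x 2 :=
    A2 (rel 0 1 (by decide)) (rel 0 2 (by decide)) (hc 1 2 (by decide)).1 (cm 1 2)
  have cX : ∀ i j, (x i * x j) * (x 0 * x 1 * x 2) = (x 0 * x 1 * x 2) * (x i * x j) := by
    intro i j
    have h1 : ∀ k, Commute (x k) (x 0 * x 1 * x 2) := fun k =>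
      ((show Commute (x k) (x 0) from cm k 0).mul_right (cm k 1)).mul_right (cm k 2)
    exact ((h1 i).mul_left (h1 j)).eq
  -- the pairs
  have nn : ∀ i j k l : Fin 7, i ≠ j → k ≠ l → (x 0 * x 1 * x 2) * (x i * x j) = x k * x l →
      ¬ NN t M (x 0 * x 1 * x 2) (x i * x j) := by
    intro i j k l hij hkl e h
    have hno : ∀ i j, i ≠ j → ¬ ∃ g : G, g * t * g⁻¹ = x i * x j := fun i j h => prod_notin H (rel i j h)
    rcases W h (by
        calc (x i * x j) * (x i * x j) = x i * (x j * x i) * x j := by group
          _ = x i * (x i * x j) * x j := by rw [cm i j]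
          _ = (x i * x i) * (x j * x j) := by group
          _ = 1 := by rw [sq, sq, one_mul]) (by
        intro h1
        apply (hc i j hij).1
        calc x i = x i * (x j * x j) := by rw [sq, mul_one]
          _ = (x i * x j) * x j := by group
          _ = x j := by rw [h1, one_mul]) (by
        intro h1
        apply hno i j hij
        rw [h1]; exact hX) with h2 | h2
    · exact hno i j hij h2
    · rw [e] at h2
      exact hno k l hkl h2
  have key : ∀ a b c d : G, x 0 * x 1 * x 2 * a * b * c * d = 1 → c * c = 1 → d * d = 1 → c * d = d * c →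
      (x 0 * x 1 * x 2) * (a * b) = c * d := by
    intro a b c d h h1 h2 h3
    calc (x 0 * x 1 * x 2) * (a * b) = (x 0 * x 1 * x 2 * a * b * c * d) * d⁻¹ * c⁻¹ := by group
      _ = d⁻¹ * c⁻¹ := by rw [h]; group
      _ = d * c := by rw [inv_eq_of_mul_eq_one_left h1, inv_eq_of_mul_eq_one_left h2]
      _ = c * d := h3.symm
  have p34 : (x 0 * x 1 * x 2) * (x 3 * x 4) = x 5 * x 6 := key _ _ _ _ hprod (sq 5) (sq 6) (cm 5 6)
  have p45 : (x 0 * x 1 * x 2) * (x 4 * x 5) = x 3 * x 6 := by
    refine key _ _ _ _ ?_ (sq 3) (sq 6) (cm 3 6)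
    calc x 0 * x 1 * x 2 * x 4 * x 5 * x 3 * x 6 = x 0 * x 1 * x 2 * x 4 * (x 5 * x 3) * x 6 := by group
      _ = x 0 * x 1 * x 2 * (x 4 * x 3) * x 5 * x 6 := by rw [cm 5 3]; group
      _ = x 0 * x 1 * x 2 * x 3 * x 4 * x 5 * x 6 := by rw [cm 4 3]; group
      _ = 1 := hprod
  have p35 : (x 0 * x 1 * x 2) * (x 3 * x 5) = x 4 * x 6 := by
    refine key _ _ _ _ ?_ (sq 4) (sq 6) (cm 4 6)
    calc x 0 * x 1 * x 2 * x 3 * x 5 * x 4 * x 6 = x 0 * x 1 * x 2 * x 3 * (x 5 * x 4) * x 6 := by group
      _ = x 0 * x 1 * x 2 * x 3 * x 4 * x 5 * x 6 := by rw [cm 5 4]; group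
      _ = 1 := hprod
  have n34 := nn 3 4 5 6 (by decide) (by decide) p34
  have n45 := nn 4 5 3 6 (by decide) (by decide) p45
  have n35 := nn 3 5 4 6 (by decide) (by decide) p35
  apply n35
  have h := nn_mul H hX (cX 3 4) (cX 4 5) n34 n45
  have e : x 3 * x 4 * (x 4 * x 5) = x 3 * x 5 := by
    calc x 3 * x 4 * (x 4 * x 5) = x 3 * (x 4 * x 4) * x 5 := by group
      _ = x 3 * x 5 := by rw [sq, mul_one]
  rwa [e] at h

/-- `t x y` is a conjugate of `t` only if it is a good lift. -/
theorem claim (K : KeyM t M π R) (hep : Heptad t M π R) (sym : Sym R) {x y : G} (hx : _root_.Cfsg.Agent.BabyU.Ident.Rel t M π R t x)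
    (hy : _root_.Cfsg.Agent.BabyU.Ident.Rel t M π R t y) (hne : x ≠ y) (hc : x * y = y * x) (hD : ∃ g : G, g * t * g⁻¹ = t * x * y) :
    _root_.Cfsg.Agent.BabyU.Ident.Rel t M π R t (t * x * y) := by
  by_contra hcon
  obtain ⟨⟨mx, rx⟩, dx⟩ := H.rel_base.1 hx
  obtain ⟨⟨my, ry⟩, dy⟩ := H.rel_base.1 hy
  have hR : π ⟨x, mx⟩ * π ⟨y, my⟩ ∉ R := by
    intro h
    apply hcon
    refine H.rel_base.2 ⟨⟨M.mul_mem (M.mul_mem H.S.mem mx) my, ?_⟩, hD⟩
    have : (⟨t * x * y, M.mul_mem (M.mul_mem H.S.mem mx) my⟩ : M) = H.S.z * ⟨x, mx⟩ * ⟨y, my⟩ := rfl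
    rw [this, map_mul, map_mul, H.S.ext.mapz, one_mul]
    exact h
  exact contra H K hep fun x' y' hx' hy' hne' hc' =>
    all_base H sym (x₀ := ⟨x, mx⟩) (y₀ := ⟨y, my⟩) hx hy hne hc hR hD hx' hy' hne' hc'

theorem claim' (K : KeyM t M π R) (hep : Heptad t M π R) (sym : Sym R) {c x y : G} (hx : _root_.Cfsg.Agent.BabyU.Ident.Rel t M π R c x)
    (hy : _root_.Cfsg.Agent.BabyU.Ident.Rel t M π R c y) (hne : x ≠ y) (hc : x * y = y * x) (hD : ∃ g : G, g * t * g⁻¹ = c * x * y) :
    _root_.Cfsg.Agent.BabyU.Ident.Rel t M π R c (c * x * y) := by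
  obtain ⟨g, hg⟩ := H.conjL hx
  have h1 := hx.equiv g⁻¹
  have h2 := hy.equiv g⁻¹
  have e : g⁻¹ * c * g⁻¹⁻¹ = t := by rw [← hg]; group
  rw [e] at h1 h2
  have e2 : t * (g⁻¹ * x * g⁻¹⁻¹) * (g⁻¹ * y * g⁻¹⁻¹) = g⁻¹ * (c * x * y) * g := by rw [← hg]; group
  have h3 := claim H K hep sym h1 h2 (fun h => hne (mul_left_cancel (mul_right_cancel h))) (by
    calc (g⁻¹ * x * g⁻¹⁻¹) * (g⁻¹ * y * g⁻¹⁻¹) = g⁻¹ * (x * y) * g⁻¹⁻¹ := by group
      _ = g⁻¹ * (y * x) * g⁻¹⁻¹ := by rw [hc]
      _ = _ := by group) (by rw [e2, exists_conj_iff']; exact hD)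
  have h4 := h3.equiv g
  rw [e2] at h4
  have e3 : g * (g⁻¹ * (c * x * y) * g) * g⁻¹ = c * x * y := by group
  rwa [e3, hg] at h4

/-- **(u1)** -/
theorem root (K : KeyM t M π R) (hep : Heptad t M π R) (sym : Sym R) (y : M)
    (hD : ∃ g : G, g * t * g⁻¹ = y) (hne : (y : G) ≠ t) : π y ∈ R := by
  have hyt : (y : G) * t = t * y := H.S.comm y y.2
  have fin : _root_.Cfsg.Agent.BabyU.Ident.Rel t M π R t y → π y ∈ R := by
    intro h
    obtain ⟨⟨h1, h2⟩, -⟩ := H.rel_base.1 h
    exact h2
  rcases keyG H K (H.nn_base.2 y.2) (H.tt hD) (ne_one H hD) hne with (h | h) | ⟨x₁, x₂, r1, r2, n1, c1, h | h⟩ |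
      ⟨x₁, x₂, x₃, r1, r2, r3, n1, n2, n3, c1, c2, c3, h⟩
  · exact fin h
  · obtain ⟨⟨h1, h2⟩, -⟩ := H.rel_base.1 h
    have : (⟨t * y, h1⟩ : M) = H.S.z * y := rfl
    rw [this, map_mul, H.S.ext.mapz, one_mul] at h2
    exact h2
  · exfalso
    rw [h] at hD
    exact prod_notin H (H.star r1 r2 n1 c1) hD
  · apply fin
    rw [h] at hD ⊢
    exact claim H K hep sym r1 r2 n1 c1 hD
  · apply fin
    have s2 := H.star r1 r2 n1 c1
    have s3 := H.star r1 r3 n2 c2
    have hD' : ∃ g : G, g * t * g⁻¹ = x₁ * x₂ * x₃ := by rw [← h]; exact hD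
    have h4 := claim' H K hep sym s2 s3 n3 c3 hD'
    rw [← h] at h4
    exact H.star (H.symm r1) h4 (fun e => hne e.symm) hyt.symm

end Cfsg.Agent.BabyU.FusU1
end

-- part: BabyU/Heptad
section
/-!
# U-B: a heptad

The seven roots of an `E₇` frame give seven commuting good lifts with product one.
-/

set_option autoImplicit false

namespace Cfsg.Agent.BabyU.Heptad

open Cfsg Cfsg.Agent.BabyU Cfsg.Agent.BabyU.RootCfg Cfsg.Agent.BabyU.Ident
open Cfsg.Agent.TwoESix.Cox10 Cfsg.Agent.TwoESix.Lift Cfsg.Agent.BabyU.Lab Cfsg.Agent.BabyU.Chain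

universe u v w

variable {G : Type u} [Group G] {E : Type v} [Group E] {F : Type w} [Field F] [Fintype F]
variable {hF : Fintype.card F = 2 ^ 2} {t : G} {M : Subgroup G} {π : M →* E} {R : Set E}

/-- The pairs of a frame. -/
theorem pairs {M : Type*} [Group M] {m : Fin 10 → M} {π : M →* E} {T : Set E} {z : M} (R : Roots E T)
    (e1 : ∀ r ∈ T, ∀ s ∈ T, (r * s) ^ 4 = 1 ∨ (r * s) ^ 3 = 1) (hz : ZRels m z) (hπz : π z = 1) (hT : ∀ i, π (m i) ∈ T)
    {G : List (List (List (Fin 10)))} {i j : Fin 10} {F : List (List (Fin 10) × Fin 10)} (hij : i ≠ j)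
    (hl : _root_.Cfsg.Agent.TwoESix.Cox10.lab i j = 2) (hc : allChk G i j F = true) {a b : ℕ} (hab : a < b) (hb : b < 7) :
    ev m (pal (F.getD a ([], 0))) * ev m (pal (F.getD b ([], 0))) =
      ev m (pal (F.getD b ([], 0))) * ev m (pal (F.getD a ([], 0))) ∧
    π (ev m (pal (F.getD a ([], 0)))) ≠ π (ev m (pal (F.getD b ([], 0)))) := by
  have hs' : M10.IsLiftable (fun i => π (m i)) := by
    intro i j
    show (π (m i) * π (m j)) ^ _ = 1
    rw [← map_mul, ← map_pow, hz.lift i j, map_one]
  have h9' : ev (fun i => π (m i)) W321 ^ 9 = 1 := by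
    rw [← ev_map, ← map_pow, hz.e321, hπz]
  rw [allChk, List.all_eq_true] at hc
  have h1 := hc a (List.mem_range.2 (by omega))
  rw [List.all_eq_true] at h1
  have h2 := h1 b (List.mem_range.2 hb)
  rw [Bool.or_eq_true, Bool.not_eq_true', pairChk, Bool.and_eq_true, Bool.and_eq_true] at h2
  rcases h2 with h2 | h2
  · have : Nat.blt a b = true := by rw [Nat.blt_eq]; exact hab
    rw [this] at h2; exact absurd h2 (by decide)
  · obtain ⟨⟨c1, c2⟩, c3⟩ := h2
    set p := F.getD a ([], 0) with hp
    set q := F.getD b ([], 0) with hq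
    set g := (G.getD a []).getD b [] with hg
    have d1 := ev_eq_ev hz.lift c1
    have d2 := ev_eq_ev hz.lift c2
    have d3 := ev_eq_ev hz.lift c3
    rw [ev_append, ev_append] at d1
    rw [ev_append, ev_append, ev_reverse hz.lift, ev_cons, ev_nil, mul_one] at d2 d3
    refine ⟨d1, ?_⟩
    intro heq
    apply (node_sep R e1 hs' hT h9' hij hl).1
    show π (m i) = π (m j)
    rw [← d2, ← d3, map_mul, map_mul, heq, map_mul, map_mul]

variable (H : Hyp hF t M π R)

include H

/-- Either all nodes are good lifts, or all their products with `t`. -/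
theorem dich {m : Fin 10 → M} (hs : M10.IsLiftable m) (hT : ∀ i, π (m i) ∈ R) :
    (∀ i, ∃ g : G, g * t * g⁻¹ = m i) ∨ ∀ i, ∃ g : G, g * t * g⁻¹ = t * m i := by
  have cj : ∀ i j, adj i j = true → (m i * m j) * m i * (m i * m j)⁻¹ = m j := fun i j h =>
    conj_braid (braid hs h)
  rcases H.W.xor _ (hT 3) with ⟨h, -⟩ | ⟨h, -⟩
  · left
    refine all_nodes _ (fun i j hij hi => ?_) h
    obtain ⟨g, hg⟩ := hi
    refine ⟨(m i * m j : M) * g, ?_⟩
    have h1 : (m j : G) = ((m i * m j : M) : G) * m i * ((m i * m j : M) : G)⁻¹ :=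
      (congrArg Subtype.val (cj i j hij)).symm
    rw [h1, ← hg]; group
  · right
    refine all_nodes _ (fun i j hij hi => ?_) h
    obtain ⟨g, hg⟩ := hi
    refine ⟨(m i * m j : M) * g, ?_⟩
    have ht : ((m i * m j : M) : G) * t = t * ((m i * m j : M) : G) := H.S.comm _ (m i * m j).2
    have h1 : (m j : G) = ((m i * m j : M) : G) * m i * ((m i * m j : M) : G)⁻¹ :=
      (congrArg Subtype.val (cj i j hij)).symm
    rw [h1]
    generalize ((m i * m j : M) : G) = w at ht
    calc w * g * t * (w * g)⁻¹ = w * (g * t * g⁻¹) * w⁻¹ := by group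
      _ = w * t * m i * w⁻¹ := by rw [hg]; group
      _ = t * (w * m i * w⁻¹) := by rw [ht]; group

omit H in
theorem prod_seven {m : Fin 10 → M} (F : List (List (Fin 10) × Fin 10)) (hF : F.length = 7) :
    ev m (pal (F.getD 0 ([], 0))) * ev m (pal (F.getD 1 ([], 0))) * ev m (pal (F.getD 2 ([], 0))) *
      ev m (pal (F.getD 3 ([], 0))) * ev m (pal (F.getD 4 ([], 0))) * ev m (pal (F.getD 5 ([], 0))) *
      ev m (pal (F.getD 6 ([], 0))) = ev m (F.map pal).flatten := by
  match F, hF with
  | [a, b, c, d, e, f, g], _ =>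
    simp only [List.map_cons, List.map_nil, List.flatten_cons, List.flatten_nil, ev_append, ev_nil, mul_one]
    simp only [List.getD_cons_zero, List.getD_cons_succ]
    group

theorem exists_heptad (Rt : Roots E R) {m : Fin 10 → M} (hz : ZRels m H.S.z) (hT : ∀ i, π (m i) ∈ R) :
    FusU1.Heptad t M π R := by
  have hπz : π H.S.z = 1 := H.S.ext.mapz
  have inR : ∀ p, π (ev m (pal p)) ∈ R := by
    intro p
    rw [ev_pal hz.lift, map_mul, map_mul, map_inv]
    exact H.RF.conj _ (hT _) _
  rcases dich H hz.lift hT with hD | hD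
  · -- frame `FB`
    refine ⟨fun k => (ev m (pal (FB.getD k.1 ([], 0))) : M), fun k => ?_, fun a b hab => ?_, ?_⟩
    · refine H.rel_base.2 ⟨⟨(ev m (pal (FB.getD k.1 ([], 0))) : M).2, ?_⟩, ?_⟩
      · rw [Subtype.coe_eta]; exact inR _
      · show ∃ h : G, h * t * h⁻¹ = ((ev m (pal (FB.getD k.1 ([], 0))) : M) : G)
        rw [ev_pal hz.lift]
        obtain ⟨g, hg⟩ := hD (FB.getD k.1 ([], 0)).2
        refine ⟨(ev m (FB.getD k.1 ([], 0)).1 : M) * g, ?_⟩
        show _ = ((ev m (FB.getD k.1 ([], 0)).1 : M) : G) * m (FB.getD k.1 ([], 0)).2 *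
          ((ev m (FB.getD k.1 ([], 0)).1 : M) : G)⁻¹
        rw [← hg]; group
    · rcases Nat.lt_or_gt_of_ne (fun h : a.1 = b.1 => hab (Fin.ext h)) with h | h
      · obtain ⟨h1, h2⟩ := pairs Rt H.RF.ord hz hπz hT (by decide) (by decide) all_FB h b.2
        exact ⟨fun e => h2 (by rw [Subtype.ext e]), congrArg Subtype.val h1⟩
      · obtain ⟨h1, h2⟩ := pairs Rt H.RF.ord hz hπz hT (by decide) (by decide) all_FB h a.2
        exact ⟨fun e => h2 (by rw [Subtype.ext e]), congrArg Subtype.val h1.symm⟩
    · have h1 := prod_seven (m := m) FB rfl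
      have h2 := ev_eq_ev hz.lift chk_FB
      rw [ev_rep, hz.e231] at h2
      rw [h2] at h1
      exact congrArg Subtype.val h1
  · -- frame `FA`
    have ht : ∀ x : M, (x : G) * t = t * x := fun x => H.S.comm x x.2
    refine ⟨fun k => t * (ev m (pal (FA.getD k.1 ([], 0))) : M), fun k => ?_, fun a b hab => ?_, ?_⟩
    · refine H.rel_base.2 ⟨⟨M.mul_mem H.S.mem (ev m (pal (FA.getD k.1 ([], 0))) : M).2, ?_⟩, ?_⟩
      · have : (⟨t * (ev m (pal (FA.getD k.1 ([], 0))) : M),
          M.mul_mem H.S.mem (ev m (pal (FA.getD k.1 ([], 0))) : M).2⟩ : M) =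
            H.S.z * ev m (pal (FA.getD k.1 ([], 0))) := rfl
        rw [this, map_mul, hπz, one_mul]; exact inR _
      · show ∃ h : G, h * t * h⁻¹ = t * ((ev m (pal (FA.getD k.1 ([], 0))) : M) : G)
        rw [ev_pal hz.lift]
        obtain ⟨g, hg⟩ := hD (FA.getD k.1 ([], 0)).2
        refine ⟨(ev m (FA.getD k.1 ([], 0)).1 : M) * g, ?_⟩
        show _ = t * (((ev m (FA.getD k.1 ([], 0)).1 : M) : G) * m (FA.getD k.1 ([], 0)).2 *
          ((ev m (FA.getD k.1 ([], 0)).1 : M) : G)⁻¹)
        calc ((ev m (FA.getD k.1 ([], 0)).1 : M) : G) * g * t * (((ev m (FA.getD k.1 ([], 0)).1 : M) : G) * g)⁻¹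
            = ((ev m (FA.getD k.1 ([], 0)).1 : M) : G) * (g * t * g⁻¹) *
              ((ev m (FA.getD k.1 ([], 0)).1 : M) : G)⁻¹ := by group
          _ = (((ev m (FA.getD k.1 ([], 0)).1 : M) : G) * t) * m (FA.getD k.1 ([], 0)).2 *
              ((ev m (FA.getD k.1 ([], 0)).1 : M) : G)⁻¹ := by rw [hg]; group
          _ = _ := by rw [ht]; group
    · have cm : ∀ x y : M, x * y = y * x → (t * (x : G)) * (t * y) = (t * y) * (t * x) := by
        intro x y h
        have h' : (x : G) * y = y * x := congrArg Subtype.val h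
        calc (t * (x : G)) * (t * y) = t * (x * t) * y := by group
          _ = t * (t * x) * y := by rw [ht]
          _ = t * t * (x * y) := by group
          _ = t * t * (y * x) := by rw [h']
          _ = t * (t * y) * x := by group
          _ = t * (y * t) * x := by rw [ht]
          _ = _ := by group
      rcases Nat.lt_or_gt_of_ne (fun h : a.1 = b.1 => hab (Fin.ext h)) with h | h
      · obtain ⟨h1, h2⟩ := pairs Rt H.RF.ord hz hπz hT (by decide) (by decide) all_FA h b.2
        exact ⟨fun e => h2 (by rw [Subtype.ext (mul_left_cancel e)]), cm _ _ h1⟩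
      · obtain ⟨h1, h2⟩ := pairs Rt H.RF.ord hz hπz hT (by decide) (by decide) all_FA h a.2
        exact ⟨fun e => h2 (by rw [Subtype.ext (mul_left_cancel e)]), cm _ _ h1.symm⟩
    · have h1 := prod_seven (m := m) FA rfl
      have h2 := ev_eq_ev hz.lift chk_FA
      rw [ev_rep, hz.e321] at h2
      rw [h2] at h1
      have h3 : (((ev m (pal (FA.getD 0 ([], 0))) * ev m (pal (FA.getD 1 ([], 0))) *
        ev m (pal (FA.getD 2 ([], 0))) * ev m (pal (FA.getD 3 ([], 0))) * ev m (pal (FA.getD 4 ([], 0))) *
        ev m (pal (FA.getD 5 ([], 0))) * ev m (pal (FA.getD 6 ([], 0))) : M)) : G) = t := by rw [h1]; rfl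
      have seven : ∀ a b c d e f g : M, t * (a : G) * (t * b) * (t * c) * (t * d) * (t * e) * (t * f) * (t * g) =
          t * ((a * b * c * d * e * f * g : M) : G) := by
        intro a b c d e f g
        have hc : ∀ x : M, Commute (x : G) t := ht
        have two : ∀ x y : M, (x : G) * (t * y) = t * ((x * y : M) : G) := by
          intro x y
          show (x : G) * (t * y) = t * ((x : G) * y)
          rw [← mul_assoc, ht, mul_assoc]
        have step : ∀ x y : M, t * (x : G) * (t * y) = ((x * y : M) : G) := by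
          intro x y
          rw [mul_assoc, two, ← mul_assoc, H.S.sq, one_mul]
        rw [step, two, step, two, step, two]
      show t * (ev m (pal (FA.getD 0 ([], 0))) : M) * (t * (ev m (pal (FA.getD 1 ([], 0))) : M)) *
        (t * (ev m (pal (FA.getD 2 ([], 0))) : M)) * (t * (ev m (pal (FA.getD 3 ([], 0))) : M)) *
        (t * (ev m (pal (FA.getD 4 ([], 0))) : M)) * (t * (ev m (pal (FA.getD 5 ([], 0))) : M)) *
        (t * (ev m (pal (FA.getD 6 ([], 0))) : M)) = 1
      rw [seven, h3, H.S.sq]

end Cfsg.Agent.BabyU.Heptad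
end

-- part: BabyU/KeyM
section
/-!
# U-B: the list of the involutions of `M` from the list of the involutions of `E`

`keyM` : `KeyM` from the list of the involutions of `E` and the fusion of the two lifts of the third type.
`root` : (u1) with all inputs on `E` and `M`.
-/

set_option autoImplicit false

namespace Cfsg.Agent.BabyU.KeyM

open Cfsg Cfsg.Agent.BabyU Cfsg.Agent.BabyU.RootCfg Cfsg.Agent.BabyU.Ident
open Cfsg.Agent.TwoESix.Cox10 Cfsg.Agent.TwoESix.Lift Cfsg.Agent.BabyU.Lab

universe u v w

variable {G : Type u} [Group G] {E : Type v} [Group E] {F : Type w} [Field F] [Fintype F]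
variable {hF : Fintype.card F = 2 ^ 2} {t : G} {M : Subgroup G} {π : M →* E} {R : Set E}

/-- The list of the involutions of `E` and the fusion of the lifts of the third type. -/
structure KeyE (t : G) (M : Subgroup G) (π : M →* E) (R : Set E) (Tri : E → E → E → Prop) : Prop where
  tri : ∀ p q r, Tri p q r → p ∈ R ∧ q ∈ R ∧ r ∈ R ∧ p ≠ q ∧ p ≠ r ∧ q ≠ r ∧
    p * q = q * p ∧ p * r = r * p ∧ q * r = r * q
  key : ∀ f : E, f * f = 1 → f ≠ 1 → f ∈ R ∨ (∃ a b, (a ∈ R ∧ b ∈ R ∧ a ≠ b ∧ a * b = b * a ∧ a * b ∉ R) ∧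
    f = a * b) ∨ ∃ p q r, Tri p q r ∧ f = p * q * r
  lifts : ∀ p q r, Tri p q r → ∃ x : M, π x = p * q * r ∧ ∃ m : M, (m : G) * x * (m : G)⁻¹ = t * x

variable (H : Hyp hF t M π R)

include H

theorem keyM {Tri : E → E → E → Prop} (K : KeyE t M π R Tri) : FusU1.KeyM t M π R := by
  intro y hy h1 ht
  have hπ1 : π y ≠ 1 := by
    intro h
    rcases (H.S.ker y).1 h with h2 | h2
    · exact h1 h2
    · exact ht h2
  rcases K.key (π y) (by rw [← map_mul, hy, map_one]) hπ1 with h | ⟨a, b, ⟨ha, hb, hne, hab, -⟩, h⟩ |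
    ⟨p, q, r, hT, h⟩
  · exact Or.inl h
  · exact Or.inr (Or.inl ⟨a, ha, b, hb, hne, hab, h⟩)
  · right; right
    obtain ⟨hp, hq, hr, npq, npr, nqr, cpq, cpr, cqr⟩ := K.tri p q r hT
    obtain ⟨x₁, e1, d1⟩ := H.exists_good hp
    obtain ⟨x₂, e2, d2⟩ := H.exists_good hq
    obtain ⟨x₃, e3, d3⟩ := H.exists_good hr
    have r1 : _root_.Cfsg.Agent.BabyU.Ident.Rel t M π R t x₁ := H.rel_base.2 ⟨⟨x₁.2, by rw [Subtype.coe_eta, e1]; exact hp⟩, d1⟩
    have r2 : _root_.Cfsg.Agent.BabyU.Ident.Rel t M π R t x₂ := H.rel_base.2 ⟨⟨x₂.2, by rw [Subtype.coe_eta, e2]; exact hq⟩, d2⟩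
    have r3 : _root_.Cfsg.Agent.BabyU.Ident.Rel t M π R t x₃ := H.rel_base.2 ⟨⟨x₃.2, by rw [Subtype.coe_eta, e3]; exact hr⟩, d3⟩
    have c12 : (x₁ : G) * x₂ = x₂ * x₁ := H.comm_of (by rw [e2]; exact hq) d2 (by rw [e1, e2]; exact cpq)
    have c13 : (x₁ : G) * x₃ = x₃ * x₁ := H.comm_of (by rw [e3]; exact hr) d3 (by rw [e1, e3]; exact cpr)
    have c23 : (x₂ : G) * x₃ = x₃ * x₂ := H.comm_of (by rw [e3]; exact hr) d3 (by rw [e2, e3]; exact cqr)
    have n12 : (x₁ : G) ≠ x₂ := fun e => npq (by rw [← e1, ← e2, Subtype.ext e])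
    have n13 : (x₁ : G) ≠ x₃ := fun e => npr (by rw [← e1, ← e3, Subtype.ext e])
    have n23 : (x₂ : G) ≠ x₃ := fun e => nqr (by rw [← e2, ← e3, Subtype.ext e])
    have h5 : π y = π (x₁ * x₂ * x₃) := by rw [h, map_mul, map_mul, e1, e2, e3]
    rcases H.eq_or h5 with h6 | h6
    · exact ⟨x₁, x₂, x₃, r1, r2, r3, n12, n13, n23, c12, c13, c23, h6⟩
    · -- the other lift
      obtain ⟨x, ex, m, hm⟩ := K.lifts p q r hT
      have ctm : (m : G) * t = t * m := H.S.comm m m.2
      have h7 : ∃ m : M, (m : G) * (x₁ * x₂ * x₃ : M) * (m : G)⁻¹ = t * (x₁ * x₂ * x₃ : M) := by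
        have h8 : π x = π (x₁ * x₂ * x₃) := by rw [ex, map_mul, map_mul, e1, e2, e3]
        rcases H.eq_or h8 with h9 | h9
        · exact ⟨m, by rw [← h9]; exact hm⟩
        · refine ⟨m, ?_⟩
          have h10 : ((x₁ * x₂ * x₃ : M) : G) = t * x := by
            rw [h9, ← mul_assoc, H.S.sq, one_mul]
          rw [h10]
          calc (m : G) * (t * x) * (m : G)⁻¹ = (m : G) * t * x * (m : G)⁻¹ := by group
            _ = t * (m * x * (m : G)⁻¹) := by rw [ctm]; group
            _ = t * (t * x) := by rw [hm]
      obtain ⟨n, hn⟩ := h7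
      have ctn : (n : G) * t * (n : G)⁻¹ = t := by rw [H.S.comm n n.2]; group
      have eqv : ∀ {b : G}, _root_.Cfsg.Agent.BabyU.Ident.Rel t M π R t b → _root_.Cfsg.Agent.BabyU.Ident.Rel t M π R t (n * b * (n : G)⁻¹) := by
        intro b hb
        have := hb.equiv (n : G)
        rwa [ctn] at this
      have ne' : ∀ {a b : G}, a ≠ b → (n : G) * a * (n : G)⁻¹ ≠ n * b * (n : G)⁻¹ := fun h h' =>
        h (mul_left_cancel (mul_right_cancel h'))
      have cm : ∀ {a b : G}, a * b = b * a →
          ((n : G) * a * (n : G)⁻¹) * (n * b * (n : G)⁻¹) = (n * b * (n : G)⁻¹) * (n * a * (n : G)⁻¹) := by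
        intro a b h
        calc ((n : G) * a * (n : G)⁻¹) * (n * b * (n : G)⁻¹) = n * (a * b) * (n : G)⁻¹ := by group
          _ = n * (b * a) * (n : G)⁻¹ := by rw [h]
          _ = _ := by group
      refine ⟨n * x₁ * (n : G)⁻¹, n * x₂ * (n : G)⁻¹, n * x₃ * (n : G)⁻¹, eqv r1, eqv r2, eqv r3, ne' n12, ne' n13,
        ne' n23, cm c12, cm c13, cm c23, ?_⟩
      rw [h6, ← hn]
      show (n : G) * ((x₁ : G) * x₂ * x₃) * (n : G)⁻¹ = _
      group

/-- **(u1)** -/
theorem root {Tri : E → E → E → Prop} (K : KeyE t M π R Tri) (Rt : Roots E R) {m : Fin 10 → M}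
    (hz : ZRels m H.S.z) (hT : ∀ i, π (m i) ∈ R) (y : M) (hD : ∃ g : G, g * t * g⁻¹ = y) (hne : (y : G) ≠ t) :
    π y ∈ R :=
  FusU1.root H (keyM H K) (Heptad.exists_heptad H Rt hz hT) Rt.sym y hD hne

end Cfsg.Agent.BabyU.KeyM
end
end

-- part: BabyM/ClosCode
section
set_option linter.all false
open scoped Cfsg.Agent.FastGrp

/-!
# Numbers which are not codes of X-lanes (helper33)

Binary search in the sorted table of the codes of the X-lanes.
-/

set_option autoImplicit false

namespace Cfsg.Agent.BabyM.ClosCode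

open Cfsg.Agent.Lib.PermNet hiding tb tb_eq
open Cfsg.Agent.Monster Cfsg.Agent.Monster.VecEngine Cfsg.Agent.Monster.VecSpace
open Cfsg.Agent.BabyM.KTabData Cfsg.Agent.BabyM.Conc Cfsg.Agent.BabyM.KTab Cfsg.Agent.BabyM.KGood

/-- One step of the binary search of the last code `≤ x`. -/
noncomputable def bstep (x st lo : ℕ) : ℕ :=
  Bool.rec lo (Nat.add lo st) (and (Nat.blt (Nat.add lo st) 2300) (Nat.ble (cd (ord (Nat.add lo st))) x))

/-- The binary search. -/
noncomputable def bsearch (x : ℕ) (k : ℕ → Bool) (l : List ℕ) : ℕ → Bool :=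
  List.rec (motive := fun _ => ℕ → Bool) k (fun st _ ih lo => seqB (bstep x st lo) ih) l

/-- `x` lies between two consecutive codes. -/
noncomputable def gapOK (x lo : ℕ) : Bool :=
  and (Nat.blt lo 2300) (and
    (Bool.rec (and (Nat.beq lo 0) (Nat.blt x (cd (ord 0)))) true (Nat.blt (cd (ord lo)) x))
    (Bool.rec (Nat.blt x (cd (ord (Nat.succ lo)))) true (Nat.beq lo 2299)))

/-- `x` is not a code. -/
noncomputable def notCode (x : ℕ) : Bool :=
  bsearch x (gapOK x) [2048, 1024, 512, 256, 128, 64, 32, 16, 8, 4, 2, 1] 0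

theorem gapOK_sound {x lo : ℕ} (h : gapOK x lo = true) {k : ℕ} (hk : k < 2300) : cd (ord k) ≠ x := by
  have h' : and (Nat.blt lo 2300) (and
    (Bool.rec (and (Nat.beq lo 0) (Nat.blt x (cd (ord 0)))) true (Nat.blt (cd (ord lo)) x))
    (Bool.rec (Nat.blt x (cd (ord (Nat.succ lo)))) true (Nat.beq lo 2299))) = true := h
  rw [Bool.and_eq_true, Bool.and_eq_true, blt_iff] at h'
  obtain ⟨h1, h2, h3⟩ := h'
  rcases Nat.lt_or_ge lo k with hlt | hge
  · have hne : Nat.beq lo 2299 = false := by
      rw [Bool.eq_false_iff]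
      intro h
      have := Nat.eq_of_beq_eq_true h
      omega
    rw [hne] at h3
    have h4 : x < cd (ord (lo + 1)) := (blt_iff _ _).mp h3
    have h5 : cd (ord (lo + 1)) ≤ cd (ord k) := by
      rcases Nat.lt_or_ge (lo + 1) k with h6 | h6
      · exact (cd_ord_lt h6 hk).le
      · have : lo + 1 = k := by omega
        rw [this]
    omega
  · cases h6 : Nat.blt (cd (ord lo)) x with
    | true =>
      have h4 := (blt_iff _ _).mp h6
      have h5 : cd (ord k) ≤ cd (ord lo) := by
        rcases Nat.lt_or_ge k lo with h7 | h7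
        · exact (cd_ord_lt h7 h1).le
        · have : k = lo := by omega
          rw [this]
      omega
    | false =>
      rw [h6] at h2
      have h7 : and (Nat.beq lo 0) (Nat.blt x (cd (ord 0))) = true := h2
      rw [Bool.and_eq_true, blt_iff] at h7
      have h8 := Nat.eq_of_beq_eq_true h7.1
      have h9 : k = 0 := by omega
      rw [h9]
      omega

theorem bsearch_sound {x : ℕ} {k : ℕ → Bool} {l : List ℕ} {lo : ℕ} (h : bsearch x k l lo = true) :
    ∃ lo', k lo' = true := by
  induction l generalizing lo with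
  | nil => exact ⟨lo, h⟩
  | cons st l ih =>
    have h' : seqB (bstep x st lo) (bsearch x k l) = true := h
    rw [seqB_eq] at h'
    exact ih h'

theorem notCode_sound {x : ℕ} (h : notCode x = true) {i : ℕ} (hi : U.testBit i = true) (h1 : i < 4096)
    (h2 : cd i ≠ 0) : cd i ≠ x := by
  obtain ⟨lo, hlo⟩ := bsearch_sound h
  obtain ⟨h3, h4⟩ := ord_rk hi h1 h2
  rw [← h3]
  exact gapOK_sound hlo h4


end Cfsg.Agent.BabyM.ClosCode
end

-- part: BM/StageWConj
section
prune_inst 0x3030710464020000001885100200204420000002006b000131a00702094f5301a0050f014af01e1091322ef06002804000100119423000002a008a0040040000042360e60274bc0031000000f807180c00000000000000000000000000041004000000000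
set_option linter.all false
open scoped Cfsg.Agent.FastGrp

/-!
# S1704, stage W: the images of the generators of the presented Baby Monster are transpositions of the model
-/

set_option autoImplicit false

namespace Cfsg.Agent.BM.StageW

open Cfsg.Agent.Monster.VecEngine Cfsg.Agent.BabyM.Conc Cfsg.Agent.BabyM.Model Cfsg.Agent.BabyM.Inst
  Cfsg.Agent.BabyM.InstMem Cfsg.Agent.BabyM.WordsInst Cfsg.Spor Cfsg.Spor.BabyMonster

/-- `p t₀ p⁻¹ = t11` as a check of words. -/
theorem conj_chk : chk (([.Z0, .Z2, .Z4, .Z5, .Z6] : List Cfsg.Agent.BabyM.Conc.Ltr) ++ ([.p] : List Cfsg.Agent.BabyM.Conc.Ltr)) (([.p] : List Cfsg.Agent.BabyM.Conc.Ltr) ++ tw .t11) = true := by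
  decide +kernel

/-- Braided involutions are conjugate. -/
theorem isConj_of_braid {G : Type*} [Group G] {a b : G} (ha : a * a = 1) (hb : b * b = 1)
    (h : (a * b) ^ 3 = 1) : IsConj a b := by
  rw [isConj_iff]
  refine ⟨a * b, ?_⟩
  have h1 : a * b * a * b * a * b = 1 := by
    rw [← h, pow_succ, pow_succ, pow_one]; simp only [mul_assoc]
  have ha' : a⁻¹ = a := inv_eq_of_mul_eq_one_left ha
  have hb' : b⁻¹ = b := inv_eq_of_mul_eq_one_left hb
  rw [mul_inv_rev, ha', hb']
  -- `a b a b a = b`
  calc a * b * a * (b * a) = (a * b * a * b * a * b) * b⁻¹ := by group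
    _ = b := by rw [h1, one_mul, hb']

section

variable {K₀ : Type} [Group K₀] (A : BAll M K₀) (O : base.Ok)

include A O

theorem isConj_edge (a b : Gen) (h : coxLabel edges a b = 3) : IsConj (x a) (x b) := by
  have := cox A O a b
  rw [h] at this
  exact isConj_of_braid (sq A O a) (sq A O b) this

/-- All generators are conjugate to `t11`. -/
theorem isConj_t11 (t : Gen) : IsConj (x t) (x .t11) := by
  have e10 : IsConj (x .t10) (x .t11) := isConj_edge A O _ _ (by decide)
  have e9 : IsConj (x .t9) (x .t11) := (isConj_edge A O .t9 .t10 (by decide)).trans e10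
  have e5 : IsConj (x .t5) (x .t11) := (isConj_edge A O .t5 .t9 (by decide)).trans e9
  have e4 : IsConj (x .t4) (x .t11) := (isConj_edge A O .t4 .t5 (by decide)).trans e5
  have e3 : IsConj (x .t3) (x .t11) := (isConj_edge A O .t3 .t4 (by decide)).trans e4
  have e2 : IsConj (x .t2) (x .t11) := (isConj_edge A O .t2 .t3 (by decide)).trans e3
  have e1 : IsConj (x .t1) (x .t11) := (isConj_edge A O .t1 .t2 (by decide)).trans e2
  have e6 : IsConj (x .t6) (x .t11) := (isConj_edge A O .t6 .t5 (by decide)).trans e5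
  have e7 : IsConj (x .t7) (x .t11) := (isConj_edge A O .t7 .t6 (by decide)).trans e6
  have e8 : IsConj (x .t8) (x .t11) := (isConj_edge A O .t8 .t7 (by decide)).trans e7
  cases t
  exacts [e1, e2, e3, e4, e5, e6, e7, e8, e9, e10, IsConj.refl _]

/-- The generator `t11` is conjugate to the transposition `t₀` of the model. -/
theorem isConj_t₀ (t : Gen) : IsConj (⟨M.t₀, A.C_le_G A.t₀_C⟩ : M.G) (x t) := by
  refine IsConj.trans ?_ (isConj_t11 A O t).symm
  have h := eq_of_chk A O conj_chk
  rw [Wg_append, Wg_append, Wg_tw] at h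
  have h0 : Wg [.Z0, .Z2, .Z4, .Z5, .Z6] = (⟨M.t₀, A.C_le_G A.t₀_C⟩ : M.G) := Subtype.ext rfl
  rw [h0] at h
  rw [isConj_iff]
  exact ⟨Wg [.p], by rw [h, mul_inv_cancel_right]⟩

/-- Every generator is `g t₀ g⁻¹`. -/
theorem exists_conj (t : Gen) : ∃ g : M.G, x t = g * ⟨M.t₀, A.C_le_G A.t₀_C⟩ * g⁻¹ := by
  obtain ⟨g, hg⟩ := isConj_iff.1 (isConj_t₀ A O t)
  exact ⟨g, hg.symm⟩

end

end Cfsg.Agent.BM.StageW
end
end
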