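import Mathlib
import Cfsg.Agent.BabyM.KRow
import Cfsg.Agent.BabyM.KRowData
import Cfsg.Agent.BabyM.Instance
import Cfsg.Agent.BabyM.AbsFinal
import Cfsg.Agent.FastGrp
import Cfsg.Agent.Prune
set_option linter.all false

section
prune_inst 0x7ffcfffbeff8bfffffff7e7ff7bfcffdfff9bfffe6fffdcbffe9ffff7bff6f6defe5fbaf8fefd0fcdff6e23c10f87b53ff7eefffe36fdc7ffffdfff45ffbffdfffffbd2d71ffbcbe1ffe6ffffbf37fae7f3fffffffffffffffffffffffffffffffbfffffffff

-- part: BabyU/ClosFacts
section
prune_inst 0x30000100740000000018008401002000640001900023000140000840090921012040070102f0320011182ee0600a8008110000c90238000020008a0040000000042920e000341c0011000040c805180c00000000000000000000000000000004000000000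
set_option linter.all false
open scoped Cfsg.Agent.FastGrp

/-!
# Closing for the Baby Monster: the facts

`H ≤ G` is a copy of the Baby Monster, `t` a transposition (2A), `z` a 2B-involution, `P = O₂(C_H(z))` of order `2^23`,
`t ∈ P`, `M` the subgroup of index two of `C_H(t)` (the stabilizer of the axis of `t`), `t₁ ∈ P` a second transposition
commuting with `t`, `c = t t₁` (class 2B).

`Inner H P M z t t₁` : the facts about `H`.
`Facts H P M z t t₁` : in addition `C_G(t) ≤ H` and every `G`-conjugate of `t` in `M` is an `H`-conjugate of `t`.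
The pencil proof of `H = G` is `blueprints/R19/helper248/closingB.md`; the names F1, ... refer to it.
-/

set_option autoImplicit false

namespace Cfsg.Agent.BabyU.Clos

variable {G : Type*} [Group G]

/-- The conjugates of `t` under `H`. -/
def cls (H : Subgroup G) (t : G) : Set G := {d | ∃ h ∈ H, h * t * h⁻¹ = d}

/-- The conjugates of `t`. -/
def cl (t : G) : Set G := {d | ∃ g : G, g * t * g⁻¹ = d}

/-- `{1, z, c, c z}` -/
def four (z c : G) : Set G := {a | a = 1 ∨ a = z ∨ a = c ∨ a = c * z}

/-- The transpositions of `P` whose product with `c` is a transposition. -/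
def dd (H P : Subgroup G) (t c : G) : Set G := {d | d ∈ cls H t ∧ d ∈ P ∧ d * c ∈ cls H t}

/-- The facts about `H`. -/
structure Inner (H P M : Subgroup G) (z t t₁ : G) : Prop where
  t_sq : t * t = 1
  t_ne : t ≠ 1
  z_sq : z * z = 1
  z_ne : z ≠ 1
  tP : t ∈ P
  zP : z ∈ P
  PH : P ≤ H
  MH : M ≤ H
  two : IsPGroup 2 P
  zc : ∀ q ∈ P, q * z = z * q
  P_norm : ∀ h ∈ H, h * z = z * h → ∀ q ∈ P, h * q * h⁻¹ ∈ P
  P_comm : ∀ q ∈ P, ∀ r ∈ P, q * r = r * q ∨ q * r = r * q * z
  /-- F1 -/
  fuse : ∃ q ∈ P, q * t * q⁻¹ = t * z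
  /-- F2 -/
  z_notin : z ∉ cls H t
  M_comm : ∀ m ∈ M, m * t = t * m
  M_norm : ∀ g ∈ H, g * t = t * g → ∀ m ∈ M, g * m * g⁻¹ ∈ M
  M_index : ∀ g ∈ H, ∀ h ∈ H, g * t = t * g → h * t = t * h → g ∉ M → h ∉ M → g * h ∈ M
  tM : t ∈ M
  PM : ∀ q ∈ P, q * t = t * q → q ∈ M
  /-- F3 -/
  adj : ∀ s ∈ cls H t, s ∈ M → s ≠ t → ∃ h ∈ H, h * t = t * h ∧ h * (t * z) * h⁻¹ = s
  /-- F4 -/
  sgn : ∀ g ∈ H, g * t = t * g → g * z = z * g → ∀ q ∈ P, q * t * q⁻¹ = t * z → (g ∈ M ↔ q⁻¹ * g * q ∈ M)
  /-- F5 -/
  odd : Odd (Nat.card {s : G // s ∈ cls H t ∧ s ∈ M ∧ s ≠ t})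
  /-- F6 -/
  zM : ∀ h ∈ H, (h * t * h⁻¹) * z = z * (h * t * h⁻¹) → h⁻¹ * z * h ∈ M
  /-- F7 -/
  perp : ∀ r ∈ H, r * z = z * r → r * t = t * r →
    (∀ d ∈ cls H t, d ∈ P → d * t = t * d → r * d = d * r) → r ∈ P
  /-- F8 -/
  classes : ∀ u ∈ H, u * u = 1 → u ≠ 1 →
    (∃ h ∈ H, h⁻¹ * u * h ∈ M) ∨ ∃ d ∈ cls H t, u * d = d * u ∧ u * d ∈ cls H t
  /-- F9 -/
  fourB : ∀ s ∈ cls H t, (s * t * s) * t = t * (s * t * s) → s * t * s ≠ t → s * t * s ∈ M
  /-- F10 -/
  ord : ∀ s ∈ cls H t, ∃ n : ℕ, 0 < n ∧ n ≤ 4 ∧ (s * t) ^ n = 1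
  /-- F11 -/
  uniq : ∀ d ∈ cls H t, d ∈ P → ∀ e ∈ cls H t, e ∈ P → d * e ≠ e * d → ∀ s ∈ cls H t, s ∈ P → ∀ s' ∈ cls H t, s' ∈ P →
    (s * s' = d * e ∨ s * s' = d * e * z) → s = d ∨ s = d * z ∨ s = e ∨ s = e * z
  /-- F12 -/
  rel : ∃ l : List G, (∀ w ∈ l, w ∈ cls H t ∧ w ∈ P) ∧ Odd l.length ∧ (l.prod = 1 ∨ l.prod = z)
  /-- F13 -/
  irr : ∀ N : Subgroup G, N ≤ P → (∀ h ∈ H, h * z = z * h → ∀ n ∈ N, h * n * h⁻¹ ∈ N) →
    (∀ n ∈ N, n = 1 ∨ n = z) ∨ t ∈ N
  /-- F14 -/
  t₁D : t₁ ∈ cls H t
  t₁P : t₁ ∈ P
  t₁_comm : t₁ * t = t * t₁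
  t₁_ne : t₁ ≠ t
  t₁_ne' : t₁ ≠ t * z
  trans : ∀ d ∈ cls H t, d ∈ P → d * t = t * d → d ≠ t → d ≠ t * z →
    ∃ h ∈ H, h * t = t * h ∧ h * z = z * h ∧ (h * d * h⁻¹ = t₁ ∨ h * d * h⁻¹ = t₁ * z)
  /-- F15 -/
  uniq₂ : ∀ f ∈ dd H P t (t * t₁), ∀ f' ∈ dd H P t (t * t₁), (∀ a ∈ four z (t * t₁), f' ≠ f * a) →
    ∀ s ∈ dd H P t (t * t₁), ∀ s' ∈ dd H P t (t * t₁), (∃ a ∈ four z (t * t₁), s * s' = f * f' * a) →
    (∃ a ∈ four z (t * t₁), s = f * a) ∨ ∃ a ∈ four z (t * t₁), s = f' * a
  /-- F16 -/
  gen : ∃ f ∈ dd H P t (t * t₁), ∃ f' ∈ dd H P t (t * t₁), (∀ a ∈ four z (t * t₁), f' ≠ f * a) ∧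
    ∀ x : G, (x = 1 ∨ x ∈ dd H P t (t * t₁)) → ∃ l : List G,
      (∀ h ∈ l, h ∈ H ∧ h * z = z * h ∧ (h * (t * t₁) * h⁻¹ = t * t₁ ∨ h * (t * t₁) * h⁻¹ = t * t₁ * z)) ∧
      (l.map fun h => h * (f * f' * x) * h⁻¹).prod ∈ cls H t

/-- The facts with the hypotheses on `G`. -/
structure Facts (H P M : Subgroup G) (z t t₁ : G) : Prop extends Inner H P M z t t₁ where
  cent : ∀ g : G, g * t = t * g → g ∈ H
  /-- (u) -/
  u : ∀ s ∈ cl t, s ∈ M → s ∈ cls H t

/-- `g` is `+` on `d` -/
def Pos (M : Subgroup G) (t d g : G) : Prop := ∃ k : G, k * t * k⁻¹ = d ∧ k⁻¹ * g * k ∈ M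

section basic

theorem mem_cl_self (t : G) : t ∈ cl t := ⟨1, by group⟩

theorem mem_cls_self (H : Subgroup G) (t : G) : t ∈ cls H t := ⟨1, H.one_mem, by group⟩

theorem cls_sub (H : Subgroup G) (t : G) : cls H t ⊆ cl t := fun _ ⟨h, _, e⟩ => ⟨h, e⟩

theorem cl_conj {t d : G} (hd : d ∈ cl t) (g : G) : g * d * g⁻¹ ∈ cl t := by
  obtain ⟨k, rfl⟩ := hd
  exact ⟨g * k, by group⟩

theorem cl_conj' {t d : G} (hd : d ∈ cl t) (g : G) : g⁻¹ * d * g ∈ cl t := by
  have := cl_conj hd g⁻¹
  rwa [inv_inv] at this

theorem cls_conj {H : Subgroup G} {t d : G} (hd : d ∈ cls H t) {g : G} (hg : g ∈ H) : g * d * g⁻¹ ∈ cls H t := by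
  obtain ⟨k, hk, rfl⟩ := hd
  exact ⟨g * k, H.mul_mem hg hk, by group⟩

theorem cls_conj' {H : Subgroup G} {t d : G} (hd : d ∈ cls H t) {g : G} (hg : g ∈ H) : g⁻¹ * d * g ∈ cls H t := by
  have := cls_conj hd (H.inv_mem hg)
  rwa [inv_inv] at this

theorem cls_mem {H : Subgroup G} {t d : G} (ht : t ∈ H) (hd : d ∈ cls H t) : d ∈ H := by
  obtain ⟨k, hk, rfl⟩ := hd
  exact H.mul_mem (H.mul_mem hk ht) (H.inv_mem hk)

theorem cl_sq {t d : G} (ht : t * t = 1) (hd : d ∈ cl t) : d * d = 1 := by
  obtain ⟨g, rfl⟩ := hd
  calc (g * t * g⁻¹) * (g * t * g⁻¹) = g * (t * t) * g⁻¹ := by group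
    _ = 1 := by rw [ht]; group

theorem cl_ne {t d : G} (ht : t ≠ 1) (hd : d ∈ cl t) : d ≠ 1 := by
  obtain ⟨g, rfl⟩ := hd
  intro h
  apply ht
  have : t = g⁻¹ * (g * t * g⁻¹) * g := by group
  rw [this, h]; group

end basic

/-! ### Transport -/

section map

variable {Γ : Type*} [Group Γ] {P M : Subgroup Γ} {z t t₁ : Γ}

theorem map_mem_cls {H : Subgroup Γ} {x : Γ} (φ : Γ →* G) (hφ : Function.Injective φ) :
    φ x ∈ cls (H.map φ) (φ t) ↔ x ∈ cls H t := by
  constructor
  · rintro ⟨_, ⟨h, hh, rfl⟩, e⟩
    exact ⟨h, hh, hφ (by rw [← e, map_mul, map_mul, map_inv])⟩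
  · rintro ⟨h, hh, rfl⟩
    exact ⟨φ h, ⟨h, hh, rfl⟩, by rw [map_mul, map_mul, map_inv]⟩

theorem exists_of_mem_cls {H : Subgroup Γ} {y : G} (φ : Γ →* G) (hy : y ∈ cls (H.map φ) (φ t)) :
    ∃ x ∈ cls H t, φ x = y := by
  obtain ⟨_, ⟨h, hh, rfl⟩, e⟩ := hy
  exact ⟨h * t * h⁻¹, ⟨h, hh, rfl⟩, by rw [← e, map_mul, map_mul, map_inv]⟩

theorem exists_of_mem_four {c : Γ} {a : G} (φ : Γ →* G) (ha : a ∈ four (φ z) (φ c)) :
    ∃ b ∈ four z c, φ b = a := by
  rcases ha with rfl | rfl | rfl | rfl
  · exact ⟨1, Or.inl rfl, map_one φ⟩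
  · exact ⟨z, Or.inr (Or.inl rfl), rfl⟩
  · exact ⟨c, Or.inr (Or.inr (Or.inl rfl)), rfl⟩
  · exact ⟨c * z, Or.inr (Or.inr (Or.inr rfl)), map_mul φ _ _⟩

theorem map_mem_four {c b : Γ} (φ : Γ →* G) (hb : b ∈ four z c) : φ b ∈ four (φ z) (φ c) := by
  rcases hb with rfl | rfl | rfl | rfl
  · exact Or.inl (map_one φ)
  · exact Or.inr (Or.inl rfl)
  · exact Or.inr (Or.inr (Or.inl rfl))
  · exact Or.inr (Or.inr (Or.inr (map_mul φ _ _)))

theorem exists_of_mem_dd {H : Subgroup Γ} {c : Γ} {y : G} (φ : Γ →* G) (hφ : Function.Injective φ)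
    (hy : y ∈ dd (H.map φ) (P.map φ) (φ t) (φ c)) : ∃ x ∈ dd H P t c, φ x = y := by
  obtain ⟨h1, ⟨x, hx, rfl⟩, h3⟩ := hy
  rw [← map_mul, map_mem_cls φ hφ] at h3
  exact ⟨x, ⟨(map_mem_cls φ hφ).1 h1, hx, h3⟩, rfl⟩

theorem map_mem_dd {H : Subgroup Γ} {c x : Γ} (φ : Γ →* G) (hφ : Function.Injective φ) (hx : x ∈ dd H P t c) :
    φ x ∈ dd (H.map φ) (P.map φ) (φ t) (φ c) := by
  obtain ⟨h1, h2, h3⟩ := hx
  exact ⟨(map_mem_cls φ hφ).2 h1, ⟨x, h2, rfl⟩, by rw [← map_mul]; exact (map_mem_cls φ hφ).2 h3⟩

end map

end Cfsg.Agent.BabyU.Clos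
end

-- part: BabyU/ClosLane
section
prune_inst 0x10004100140000000000000002000000040000000020000000000040000001000040010000001200800020000000000811000100022000000000000000000000000000000000000000000000c804000000000000000000000000000000000000000000000
set_option linter.all false
open scoped Cfsg.Agent.FastGrp

-- part: BabyU/ClosLaneTab
section
/-!
# Closing for the Baby Monster: kernel checks on the codes of the 2300 lanes (helper404)
-/

set_option autoImplicit false
set_option Elab.async false

namespace Cfsg.Agent.BabyU.ClosLaneTab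

open Cfsg.Agent.Monster Cfsg.Agent.Monster.VecEngine Cfsg.Agent.Monster.VecSpace
open Cfsg.Agent.Monster.PauliBasic Cfsg.Agent.Monster.PauliRep Cfsg.Agent.Monster.PauliClif Cfsg.Agent.Monster.PauliBits
open Cfsg.Agent.BabyM.KTabData Cfsg.Agent.BabyM.KRowData Cfsg.Agent.BabyM.QAct Cfsg.Agent.BabyM.QData
open Cfsg.Agent.BabyM.Conc Cfsg.Agent.BabyM.KTab Cfsg.Agent.BabyM.KRow

/-! ### A sufficient test for not being a code -/

noncomputable def B1 : ℕ := 0x880100106f000002000080000000410101103c1200c1111280803002230800010118880008000000080000013108480c08b000000008ac850100c404400083411012202000000000000000000000000004451010000800200000000000000008800440000000008f0004c000008000062010088a0024180182040050124100d000000000000000012110002208200050000000000000000000040010001004000000000e0001010200010300000000000001000001000000000000800080000000004080088700488c044000340048800000000002200880211448000005500000000001111040000000000000041110000008000200000000001000000040000000210400008000000000000000000050420080c800404000000000000000000000000200001000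008400000000000000008000800044800078000000000040018000020000004020040000000000000325105100000200008220220000001002a000000452000020080001000440240038808800208c481074400c0410c000000000000000000000084282000440400000000000000000000500000401000000403010000000220000000101080000001000400000000000000000002080000000000000000000000400211008089000000400060008a0044000800800044000040000000000000010000000000000000000000000000000000000000000000008088000022028000002000050000c1002003020010002020800a00c0302040400000110140001000004000000000b000440cc0000c2120820008000800000050222200000080000000000000000000000000000000000000000000000000005000080045408000000000000008086004018a000341a0020000000804060010000004000610010000000000000000000000000000800400000000000000000000000200000000040000004101020000000000000000000000000000200100400400001431400c0000048800040082100000080000008100004002020040001000000000000000000001130000040000000000000000008001000000000000000000000000000000000001000001000000000000000000600000008080600000040000000004000000000000000000000900004010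00080000000000000080000000000000000000000000000000000000000000000000000000000000000000001044001006902000000080000000390004c0a4000c00900000002000c0000000000000000000000080080000000600000000000000000008000010000000000200000000000000001011000000600000000000000000000008000000001000000000000000000000000000000000000000000000000000000000000000000000002000000000400000000000000000000000020001000000000000000000000800401002000000000000000000000544200004c4000000000000000000001120200010220000800003004002130010808a20002a0c10092004140560500004000020000018004002000000000000c0000000500c0d0008080006008080002000000400000000000010080000000010002802000002000101006000010000000000000000000000202014002200050000000000000000100000405000000000000000000040000000000100000000000000000000000000000000000000000000000000000000080010000430890000c0122200000002111000000111000000000010000401410000010000001110000000000080800000000000101000000000000000000000000000000000000000000000000000000008000000200000000000800000000104000000002000001200000001000a0010000090001200004884000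0408000000000000000000000004000010015c00200000000000000000008000040000000000200000000100000840000808800000000840010000104000000000000000000412108001222010000000000000000004000014001000000000004000000000000000000010000000000000000000000000000000000000000000000000000000000000000000000080020000000000000000000000000004000000000000000100000000000000000000000000000000000000000000000000000000000000008000000000008000000000000000000820000880800025500000111000000100000000000100050020820140a24040000008200020088000000000000000000000000000000000000000000000000000000000000000000100000000000400000000000000000002101002800000000000000020000000000000000000000002000100082000000000000000000000000000400200000000000004000000004000000000000000100000800000000000000000000000000000000000000000000000000000000000000000000000000000000000000000000000000000001000801010000001400000000000000000000000480000000000200008000000000000000000000000000000000000000000008000008000000000000100040000000000000000000000061002000010000200000000000008ac0000068000000000000000000000000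0000000000000000000000000000000000000010000010000000000000000000008600010000800000000080000000010004001600001000000000000000000020000100000000000000000000000010000000000000000000000000000040000008000000000400000000000000000000000001100000002000000080000000000000000000000000000000000000000008000000000000400000000000000000100000008000000000000000000040000010000a00000220800002008008103080001510000000000120110002c222a00008080a0000000000000200080020400c848804047000080000888002000000000000000000a02309000002000000000000000000000000000000000000400808008808048000000000004040000044a2090500e00200000200000d00020000000000000000200010010001001000000000000000000010000200000000000000000000100020220010200000000000000000000000008000040000000000c00028884020000040000443804400000001800001008000200400000042000000000200000000222000402000000000000000000000000400002000000000040000000000040000000000000000000800040400000804000000000000000002000000000002000000000000000000040400804080000000000008000000000000000000000000000000000000000000000000000000000000000000000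0000088200080600102100000000000400080cb0044c00a00000000080400020408000008040002800800000000000000000000000800100000000000000000000000000000000000012010000020280000000000000000000000000400000020000000000000000000000000000000000000000000000000000000000000000000400000000000000000200000000000000000000000c0000000000000000000001000040000000820000000000000000021802008300202080000000000000000000400002000000000200000000400000401000048040000c00000020000802000000000000000000200010000000000000000000000000000000000000000000040000000000800004000000800000000140020104000008000060002080000000000010000000200000000000000000000000000000000000000000000000001000000000000000000000001000000000000000000000000000000000000000000000000000000000800040c04000b000000000000000000004411000010040000000000000002000000000002000000000000000000000000000000000000000000000000000000000000000000000000000000000000000000404000000000000000000000000000000000000000000000000004000008000000000000000180000000000000000000000000000022000000209002000000000000201000000002400000000004000020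0000000044000000904000000008008020900000000040000000000800000000000000000000000000000000000000000000000001000000000000000000000000000010000000000000000000000000000000000000000000000000000000000000000000000400400000004480a0009040000000000000000000200000000000000800000000020020000004000000400000000000020000000002000000000000000040440000044000000000000000000000000002220002022000200000000020000462c001018420028000280000000220000000000000000000000000000000000000000000000000000000000000000000008000000020000000000000000000500000020000022000000000000020000000022090002000000000000000000000040000200000000000000000000000000020000000000000000000000000020000000040002000000000000000000000000000000000000000000000000000000000000000000000000000000000000000000000000002000003020000022000000000000000000000100000000002000000000000000000000002008000000000010000000100000000000000000008000002000000000000000000000000200004000000211000000000002000000000000000000000800803008408000000000000000000000000000000000000000000000000080800000000000000008408000000840000000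000000000800000000000000000000001211000001000000000000000000000000000000040080000000000080000000000020000000000000001000000020000000000000000000008000002000000000000004000040000000000000000000000000000000000001000000000000000000200000000004000000000002000000000000000000000000000000000000000000000000000000000000000000008000000080000100000020000000000000000002000018000100000004110802800004000002000010080000000000000000000000000008040002880000800000c000000000000000000000000000000000000000000000000000000000100000000020000000000020010000000000000000000000000000000000000000000000000000000000000000000000400000010000000000000001000000004020000000080000000000000000000000000000000000000200000000002000000001041000001150000200000000000000000020000000000000000000000000000000000000000000000000000000040000020600000000000000820000000000000000000000000000000000000000000000000000000000010000000000000000000000000020000000000000000000000008040000000000000000000000000000000000000000000000000000000000000000000000000000000000400000000000080000001000000000000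02000000000000000000000000000000000000000000000000000001000000000000000000000400000000000004400000000000220000000000000000000000000000000000000000010000400000820010040000000000000000000000000008000000000002000080000002000000000000400100000000000200100000000000000000800000048800000300000008000000044c0400000400800000008004a0000c40d004080000030044000402411804a00a2220980c0040020000000000000001800000000020020900000002000141000200000001000240000000000004200000002000044000000090004004080a044000480a80000000040004000a0090804000400000000000000001000400020800000000000000000000000000000000040000200000000000000000000000000000000000000400000000404400004000410410000000000000202000000000000000404000420000c005002200000000000000000040322a202200000000000000000000000000000000000000000000000000000000002000000000000000000004000000000000000000000000400402002000000000000000000048108008a00804040000002000000100008000000000040000200010008020080100020000001101000000000000000040408080000804000000000000000000820000006003880000200010201000001000c00020001000001000000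00010000008000000000008000000000000000080000000100000000000000000000000000000000000000000100000000000000000004000000000000000000000000000000000000000000000000000000000000000000000000000000000000000000000410000000000000000000000000000100000000000100000000040000000080002000000208822008800880000000800000400000c00000402006002804112200840a8800020000000000000000080000000200000000000000020000000003010008000200000000000000000000000000000000000000000000000000000000000000000000088000400020008000000400000000000000800000010000000000000000000000000000000000000000200010000000800000100000000000000000000000010008008800020000000000000008000000000040000800000000000000000000000000000000000000000000000000000000000000000000000000000000000100000000004000000000000000000000000000000000001200000000000000000000000000000000000000000050000000000000000000060008008800040000000000000000000000000000000020200000000000000200009000202000004200008488000600000000000000000000000000000000000000000000000000000000082000200090000000001000000004000080000000000000000000000000000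0020000004000000000000000000000000000000000000001000002000000000800000000000000000040000000000000000000000000000000400020000000000001004000000000002000000020000000000000000000000000000000000000008000000104000000000020000000c0200800008000400400040402000000000000000000000004004020020000000000000000000822120002202420000000000000000000000000000000000000000000800000000000000000000100000000000000000000c00c0000000c000000000000000000080020006108082000000000001000000000400000000000000000000000000000000000000000000000000000000000040000000002000000000000000000000000000000000000041000000100001001100040010000120000000000080000004000000010000000000000000000000000000000000000000000000000000200000080000000000000000000000000000000000000000000020000000000000000000400000000000000000000000000000000000000000100000004000000000000000000000000000000000000000000000000000000000008000000000100000000000000000000000000081000420000000200004120001000100040020021a0012000b0000000000004000000001000000000000000000000000000000000000000000000000000000000000000000040020000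00000000000000000000000000000000000000000000000400000000000000100000000000000000000000000000000000000000000000000000000000000000010002222200212000300000000102000000000000000000000000000400000100000040000000000008200080880000000000000000000000000000020000080000000000000000002200082000002208000000008000000000000000000000000000020000000008000000000000000280080000a0070000000000000000000000000000000000000000000000000000000000000000080002000000000000000000000000000000000002000000010000020000400000000000000000000000000000000000000000800000004000002002800000002010000000020000000000000000200004000000000000000008000020000000000000040000040000000000000000000000000000000000000440000000000000000000000000000000000000040000000000000200000000022000000000000000000000000000000000000000000000020000000000800008002000000000000000000000000000000000000008000000000000000080000000000000000000000000000000000000000000000000000000000000000000000000000002000000200000000000000000000000000000000000000080001000000000000000000400000000080000000000000000000060000000000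000000000000000000020000000000000000040000000000000000000300000000000000000000000000000000000000000000100020000000020100000003020000010000000000000000800000000000008000040000000000000000880800808000000c00000800000480000008008888000440000508101003280c1100900000000000000000000000001000000000004000000000020000000002050000020200000000000000000000000000000000000000000000000000000000000000000004000004080014000000000080000000000004000000002000000000000000000000040000000008000000000000000000000000000000000000000000000090408400000040400000000000400000001000000000000002000000000000000000000000000000000000000000000000000000000000000000000000000000002000000008000000000000000000000000000400000000000000000080000000004010000000000000000000000000009000000040048040000000000000000000000000000000000000000040000040000000000000002002010002030000000000000000000000a8800100040808000000000000000000000000000000000000101020000000112000000000000000000000000010020000000000000000000000000000000000000010000800000000400000008000000000000000000000000001000000000000200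000000000000000000000000000000001000000080000008000008000000000000000100004000000000000000000000000000000000000000000000000000000000000000000000800000000000000000000000400000000000000000008400000004000080000000000000000400110c010400190000000000000000000000000000000000000000000100000000000002000000000000000000000004200000000000000040000000080000080004004400010400000000000000400400000000000000000000000000000000000000000000000000000080010000000000000000000000000000000000000011000000400400000008000000000000008000000000000000000000000000000000000000000000000000000000000000000000000000000000000000000001040011010110040000000000010008020000040000000000001000000000000000000000000800000000000000000000000000000000000800000000000000800000000000000000000000000000000000000000000000000000000100000000000000000020000000000000040800000000000000000000000000000000000000000000000000000000001000000000000000000000100000000000000000000000000000000000001000000000800000000000000000000000000000000000044000000100100000000000000000200000000000000088000000200000000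4001000000000000000000000000000000000000000000000100004000000000000010040010000400000000000000000200080000000000000000000000000420080000800808000000000a00000000000000000000000040000001100101100000000000000000010000000000100000000000000000008000000000000000002000000000000000000000000000000880000804880004000000000000000000000000000000000000010000000000000000000004000000000000000000000000400000000080000000000000000000000010000008000000020000010000000000000000000000101001008000100000000000010000000000001008000000000000000000000000000100000001000080020000000000000000000000000000000000000000000000000000200200000000000000000001000000000000000000000000000800000000000000000000000000088000000010000400000000000000000000000400001000000000000000000000000000000000000002000000000020000000000000000000000000000000000000000000000000000000000000000000000000000040000000000000000000000004000000000000000020000040000000000000002000100000000000000000000000000000000000004000002000000000000000000004000000000000000002000000000000000000400080000000000000000000000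0000000000000000000000000300000102000000200010000201000000000000000000000000000000000000000000000800000000400000000000000000000000000000000000000000000001000000001000000000000000000000000000000c00000000000100020000002000000000000400000000000000000000000c00000000000000000000000000000000000000000000000000000000000000004000000000001000000000040040000000000000000000000000022000000020000000400000000000000000000000000000000100000010000004400000200000000000000020000000000000000000000000000000000000000000000000000000000000000000000000000002800000000000040000101400000080000000400000000100000200000000000004000000000000000002000000000002008040010000000000000000000000000000000000004000000000000010000200040000000000800000001000000000000000008000000000000000001000000000000000000000000800000010020000000000001000000010001011600000000040000000010000000000000000000400000000100080000200000000000000800001000000000000000000000000000000000000400400000001001000020000000000000080000000000008000000000000800000000100000000100000000000000000181a004800000010030000002000001000e135110010116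

noncomputable def B2 : ℕ := 0x200000000000000000000000080000000000000000000000000000000000808000000010001000000000000000000000000000000000200400000000420000000000000000000000000000000008108100000000000000000000000000000000200000000000080000000000000000000000000000000000000000000000000000000000000000000000000000000000000000000000000000000000000000000000000004001000000000000000000020000000004000000000001000800000000000000020000000000008000000000200002000000000000011000008800000000088000000000000000000000000000000000000000000000000000000000202000000000000000000000000000000000000000004000400000000000000000000400000010000000000000400002000000000000010000000000800000000100000000000000000000400000000000004041008041010000000000000000000000000000004000400000000000000000000000000008100000000040000000000000000000000000010000000000000000000000000000000000003800001c0000000000000000000000000000000000000000062044000000002008000100000001080000000000002004000000000000000000282000280000204104004000000000018280000000000800800002000000000000400000008000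0000000000000000000000000000000000000000000000000040040000000000100000000000000000000c800800000040000040048000000040000000002000000000000000000400000080000000000000002200000000000000000200008603900000000001002000000000000002000000000000000009000000000000000000000100000000000000000000002000000000000000002000000010000000000000000000402000000000b400001000000000000000000020000028000230000000000000000000000000000000000000000000000000002821100000000800000002000000000061400000400000200008000000000000000000000000000800000000000000040000000000000000000000000000002100000000000000000000000000000010000001000000000000000000000000000000000000000000000000000000000000900000000000020004000000402014004004400004410000001000000000000000000004000000000000000000000021000000000000000008008000000000000000000000000204000001080000000000000000000000000000010000000000088008c000000000012002000002000000000040020000000000000000800200088010800000400000400001000400000000000000020000100980090000000000001000001100000000000000000000000000000000000001000000001000000000000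000000000000000480021000000000000000004000000000000000000000000001000000000200400000000040e000000000020000000000000001000000000000000200000002000000060000028000000000800000000000100000000000000000000000000000000000000000000000000000000400000000000000000400000e000001000000000400000000000000000000000000000000011000000000000000000000000000000000000000000000000090000800000100000000000090900000000000800010810210800008210010000000200000000004164000000000040000000001000000000000000000000000000000200000007000002000000400400100000000000000000000000000000000000004000200b00004100000000000000000000000000400000400004c1000000000000000000000000000000000000000000000000800a01000100000000000000000000010000000000000400000000000000000000000800000004000000000000000000000000000000000000000000000000000000440000000000040000000000000000010000000000000000006000000000000702000000000000000000100000001401000800001000400000400401000020000000000000020004140910000000000000040000004000000000000000001000008000000000000000000300040201008003000008000001004000000000010000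000200000000c381000000000000000000000000000000000000000000020060040200000010800000008000100040000200000000000000000000000000408000800000400000000002000000000000000000008000000000000000000000000000000000000040000000400000000000000000000000000000000000040400000000000000000000000000010000000040000000000000000040c0000000000001008003000004000000000010000000000000000200020000000000000100000000000100000000000000002000000000200000000000000000000000800001000000000000000000000000000000000000000000000000000000000000000000000000000100000000000000004000000000002000003000000000100c08000000000000008000000000000000000000000002000000001400000414000810000000000000000000000000111001000000000000000801004804230000000000000000020000000040c00001c080010000000010000000004000000000000000002100800080000000101000000000000000000000000000000000020040002004000000889808118000110000001100800800402000002000400004400004000404404000000000414000000000008280018000004000000000100000000000000021000000000040200600000000000000000000000000000000000000000000000080000000000000000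00000000040000000000000000800010000400000000020000000000080000000000000000040000000000008800000200000000000020000000000000000000000000000000000000000000000000000000000000000000000000000800000000040000000000000000000000000000000000000000000000000000000000000000000000000002000000200000022000000000000000000400400000000220000000000000000000000000000000010800000001000800100000000000000000200000000000000000000000000000000000000000000000000000000000102000000000000000000000000000000000000000000000000000000000000000000000000810000000000c2004300000000000000000000000000000000081000000000000000000000004004440040000000000000000000000000000000200010000000000000000000020000000100000000020080002004000000400002000800000000080000010001000000000000000000000000000800000000000000000000000000040000000100800000020040000000000000280801000000080000042800204000800000800102000000404000010000400014040014000004000000000000000000002004000000000000000000000000000000000200000003200042000000000004000000080000000000000000000000000000410006c00000000000000108010000000000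4b80000000000000000000000000000000000000000000000000012000020002000000000000000000000000000000010000002000000000000000000000000000000000000000080020000000000000000000000000000000000001100000000000000000000000000000000000000000200000000100000000000004000002000000000000400004c0000800000000000000001008002900000000002100404000002200000000000000008000000800006800002800002000600000000000000000000000000000000000000000000000000200000000002000000000000000008010000040200000000000000000002000000000000000100000000000200400000000002000023000040000000000000000000000000010000000000000000414004004000000000000000000000000200000000040000000000000000000000000000000000000000000400000000020000000400004c000000000004800000000000000000000040000400000000000000000000000000000000000000000000000000000000000000000600402604000002000060000030020002000021000000000000404020000000000020000000000044004004100000000480000000000000000000000000000000000000800200000000000000000000000000000000001000000000444000000000000000000000000000000000000000000000000000000000000000040200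00000000000000000000000000400900150090000000100080000108000001000000000000000200000000000000000000000000004000000000100000000000000000000000004000000004000000000000000000000000000210048000000008000000000000001001b000000000500020000020040000000000200000100000000000000000001000940002000000100404000000200000002000000000000002022000004060002000006000000000000000000000000000000000000000000000000000000000000000000001100000000000000000000000000000000080000000000b00000001000104000004000a0000000600000000000000000000000002000000000000000008000000040040000000000000040000441000001000000100000070200000000020400000200000000000000000000000000000000000000010000000000000400000000000000000000000000001000041c60000400000000000000000001000800000008100d200000000000000000000000000000000000000000000000000010400014000400000000000000000000000000000002000000000000400004410000001000000020000000000000000000000420004000020000000100000001101000000000000000000000000000003001001000001000000044000c200000000001400080800000404000800000401000000000000000200000000000000000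000080008000000200020000000000000000c000c000000000000000000000000200400000000000000000000000000000000000002000000000000000100000800000004000000000000040000100000000000000000000000000100000082000000c00043000000000000000000000010080000000000000000000000000040000000006202200000000000000000000000000010000000000000200000000000000000000000000000000000000000000400000000080000000000000000000004800000000010000000004000000000000000000000000000000000000004004000044000000000000000000000000000000000000000004200002004000200442044200200442002000000000000000000002000001000000000000000000480000000000000004000000000100000000046000020000000000000000000000000000000000000000000000000003010000000001400000004000c00280020000010000010200000200020100000081000100004100000040024001020200010000808000004100004000004020000060046420400044000004000040000000000000000000002040002110c8000000000000001000000000000400000000000000000000000000000000000000000000000000000000000020200000000000400281400000828100400000810000000000000000000006600000000004000062040000000000000000000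00000000000000080000002000000000000000000000000000000000000000000000000000100000001000000000000000000200400000000000000000000000000000000000000000140000000000000000000a00600000000000000000100100a000000000000080000000000200000000000000040060008000000000180002809100000900800000000000000000000830000820002020001484000120080004000100b00000100008000000000000100000000000000000000000000000000000000000000000800000020000000000000a00600000000000000000100100a00400000000000000000000001000000000000006000000000800000000010000000000000000000000000000000000000000000000000000000000000000000010000000000000000400000000000000000000000000000000000000000000000000000000000000000000000000000000000000000000010880001000000000000400000000000000000000000e004000000000000000008000100000080100004000000000000001000000000000000000021000000000000001000004000000000000000000000000010800000000000000000000000000000000000000000000400000000000040023000002000111008091080090008600004000000000000000000080000000000200000000002100800000000000400000000002000000040002000000000000000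0000000000000000000000000000000000000000000008c00000000000000100000000000000000000000000008000002000000000000000000000000000000088000000000000000000000000000000000000002002000000000000000000000000000000000000000000000000000000000000000000800000000000000040000000000021000000000000000000000000000000000c800800000010000000000000000000000000000000004000010000000000000000000000000000000000000000010006c000004000000000000000000001010000000100010200020000000202000002600000600400044000000000220200088000010000000000000000008000000000000000000004001000000000000000000000000000000000000000000230280000000000000000000000000000000000000000024000000204c0000000100088180119000000000000040860000000000004000040041000040000040001808980011000000000006000820010000800100800000000000000042024020000404046044040008500800002210000000000000000000000000000000000000000400004c1000000000000000000010000000000000000000000200000000000000481010004400000000000000800000000000000000200000000000018400000000000004000200000000000000000000000000000000000000000000020000200000000000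000000000000000000000000000010000000000000400000200000001000000000000000000000000000000000000000000000000000000001c60000000040000000000000000000000000000000000000000000000000000004024042000001000080000100800000000000010000000020000000000100000002000000000000000000000000000000000001000040000000000000000000048000000000000000000000000000000000000000000100100000000000000000000000000000000000000000000400004000000000000000000000000000000000000000000000000000000000000000080001401000010000000000000000000000000000000004000001000000000000000000000010000000800000000000000000000000000000000000000000080000000000000004000000000010004810000000000400000000000400000000000000040000004410000400000019081880100000000000040000601000200000400000000000000000000000000000000000000000000000000000000000000400000000001000000000000004800000000000000200000800000000000000000000000000000000000000000000000000000001108800000000000000202000000000001000461000000000000000000000000001000800000080100000000000010000000040000000000000000000000000000000000000000000000104b000001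00000080000000000100000000000000000000000000000000000000000400000000000000100000000000000000002200000100000000100000800000000000000200000000000000126000000000000084010010000000000000000000000000000000000000000000000000000000000000000000000000000000101000000000000000000000000000420000000000000000000000000000000020000000000000000800000000000002000000020000010000000000000040000000000000000000000100000004000000000000200010080000000000008000000001000020600040000000000040400040000040000000000000000000000000400000000001000000000000000020000000100000000000100004000000000000000000000000004000400040000000004180021082010080080041001001000000110000000000000020042000040000200004180810000818001000000000000020000000000000000800000000010000000200000000010040000000000010880001004000000040000000000000000000000000088000d3000102000000000000000000000000010000000000008042400000828100000000000000000000000020000000000000001000000000082400000000000020000018000000000000000004000000000000200000000000000000800009900080800000000000000000040000000000000008000000000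0000000000000000000000000000000000008082000004000000006000038010080001c000100004100100a000000000001008000000000000000000000000000000000100801000810800040000000000000000000000000800000000000000000000000000000000000000000004000000000800000000000000000000000000000000000000000000000000000000000000020020000004000040000080100080001000000000000000000000000820001820000000000414100000000000908010000000000000000000000040004280000002818000000000001000000000400000000000000480000c10000000083000002c14000400000000000000000000000202108000092000200000004000000000000000000080000000000008042400000828100000000000040410000000040000080410000010142400600220040008881000100011081010000108800000000000000000000000000000000000000000100c404001048001000000000000000200000000000000000080000000002000000000000000000000000000000220000000000000000000000000000000000000000000000000000000000000000000080080000000000000000000000000000000000000000010000000029000000080000000000000000000000000000000000000000004800000200000400000000000000000000000000000000000000000000000000000000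0000000000010040000000000000010000a1000000000000000000400040000200000000000002000020008600000008800180890011020040840000000000000000000000000000080001000000000000000000000000000000000000000000000000000000000000000000000000000000000000004b80000000000000000000000080000000000000200000000000000000a1010000400000000000040010000000000000000000000002000000000000001a0000000040000000002000000000000000000000000000000000000000000000000001100000000000000000000100000000000000000000002000000000004000010000000000000000000000000000000000000000000000000000000000000000b4000010001000000000000000000000000000000000000000040020200400001000000010009808000000000000001000000000000040000000000000040010000000000000000000000000001000b000000000000800000000000000000000000000400000008000000000000000000000000000000000000000000000000000410b00000000010101000000010001020002000000020280000008001100000009080001000009408000090000000000000000000000010000000000000000000008000000040000000000000000000000000000000000000000000000000000000000100d20000000000000000040020000000007004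00800109000190118000000002000045020000000000000000020000060002008000080118081080102204100000000000000000010180008040020000000200412010040004a00800000810090090001000000200000004000000000000000000000000000000000000000000000000000200000000000000e00000000060000090811110088001004502000000000000000000010000000000000002000000000000000500000080000000000040020000000000000000000001000000000800000000000000000000000000000000000000010000b0000000000008000000000000000000000000000000000210000004004000000000000000000000000000000000000000000000000000000000000000000000000001000010000000000000000000000000000000000000000000080000000000000000000000000000204000000000100000000000000000000010000c0000380000041c0020000004000000000000000000049004004841000003024002000000008001000100c00000200042020446004108890080008081102000000000000000000000100000000002004100000000008000014000000000080080000110000000000000000000000000000000000002000081200800023000040000000c0020000000001000003000002000000000800000000000000210000000000000000000200200440000000008010100080000000000000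00000001c08000000000000000000000c0000000000000109000800000000000000000200000000000000000000000000010000000000000000000000000000000000000004c200000000030000010000000011000040000000000040000000800000000000000000100010000006004000002010000c100038000000100000100104a0180800100000000004006400044000291000008009108000091088000000001000000000260010000410100000800000100400000000000008000000040000000000000110880000000040000040000000000000000000000080080000c30010040c0000020004001000000800b0000220440002464400018988000100800010400400000041400000010000400081104020440406200020100880089800110181008001019080904202000000404200040002100808402000105024140906b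

noncomputable def h1 (x : ℕ) : ℕ := Nat.land (Nat.xor x (Nat.shiftRight x 16)) 0xffff

noncomputable def h2 (x : ℕ) : ℕ := Nat.land (Nat.xor x (Nat.shiftRight x 1)) 0xffff

/-- `x` is no code. -/
noncomputable def non (x : ℕ) : Bool := not (and (tb B1 (h1 x)) (tb B2 (h2 x)))

theorem bm_check : allN 12 (fun i => Bool.rec (and (tb B1 (h1 (cd i))) (tb B2 (h2 (cd i)))) true (Nat.beq (cd i) 0)) 0 =
    true := by decide +kernel

theorem non_sound {x : ℕ} (h : non x = true) {i : Lane U} (hi : Cd.isX i) : cd i.1 ≠ x := by
  rintro rfl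
  have hi' := isX_iff.1 hi
  have e1 := allN_spec bm_check (Nat.zero_le i.1) (by rw [zero_add]; exact hi'.1)
  have h0 : Nat.beq (cd i.1) 0 = false := by
    rw [Bool.eq_false_iff]
    intro hh
    exact hi'.2 (Nat.eq_of_beq_eq_true hh)
  rw [h0] at e1
  have e2 : and (tb B1 (h1 (cd i.1))) (tb B2 (h2 (cd i.1))) = true := e1
  unfold non at h
  rw [e2] at h
  exact absurd h (by decide)

/-- Use of a check over all lanes. -/
theorem lane_spec {q : ℕ → Bool} (h : allN 12 (fun i => Bool.rec (q (cd i)) true (Nat.beq (cd i) 0)) 0 = true)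
    {i : Lane U} (hi : Cd.isX i) : q (cd i.1) = true := by
  have hi' := isX_iff.1 hi
  have e1 := allN_spec h (Nat.zero_le i.1) (by rw [zero_add]; exact hi'.1)
  have h0 : Nat.beq (cd i.1) 0 = false := by
    rw [Bool.eq_false_iff]
    intro hh
    exact hi'.2 (Nat.eq_of_beq_eq_true hh)
  rw [h0] at e1
  exact e1

/-! ### F11 -/

noncomputable def q11 (x : ℕ) : Bool := or (Nat.beq x 0x75) (or (Nat.beq x 0x6f645) (non (Nat.xor x 0x6f630)))

theorem chk11 : allN 12 (fun i => Bool.rec (q11 (cd i)) true (Nat.beq (cd i) 0)) 0 = true := by decide +kernel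

theorem f11 {i k : Lane U} (hi : Cd.isX i) (hk : Cd.isX k) (h : cd k.1 = cd i.1 ^^^ (0x75 ^^^ 0x6f645)) :
    cd i.1 = 0x75 ∨ cd i.1 = 0x6f645 := by
  have e := lane_spec chk11 hi
  unfold q11 at e
  rw [Bool.or_eq_true, Bool.or_eq_true] at e
  rcases e with e | e | e
  · exact Or.inl (Nat.eq_of_beq_eq_true e)
  · exact Or.inr (Nat.eq_of_beq_eq_true e)
  · exact absurd h (non_sound e hk)

/-! ### The 22 pairs -/

/-- The smaller codes of the 22 pairs. -/
def VL : List ℕ := [0x1, 0x2, 0x4, 0x8, 0x10, 0x20, 0x40, 0x75, 0x80, 0x9f, 0x100, 0x14b, 0x1b3, 0x1ed, 0x200, 0x23a, 0x2cc, 0x2e3, 0x31d, 0x366, 0x3b4, 0x3da]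

/-- The lanes of the smaller codes of the 22 pairs, the other ones are 32 larger. -/
def LL : List ℕ := [1293, 1294, 1295, 1296, 1297, 1298, 1299, 1281, 1300, 1282, 1301, 1283, 1285, 1288, 1302, 1292, 1287, 1284, 1291, 1286, 1290, 1289]

noncomputable def memL (l : List ℕ) (x : ℕ) : Bool := List.rec (motive := fun _ => Bool) false (fun a _ ih => or (Nat.beq a x) ih) l

theorem memL_iff {l : List ℕ} {x : ℕ} : memL l x = true ↔ x ∈ l := by
  induction l with
  | nil => exact ⟨fun h => Bool.noConfusion h, fun h => absurd h (by simp)⟩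
  | cons a l ih =>
    show or (Nat.beq a x) (memL l x) = true ↔ _
    rw [Bool.or_eq_true, ih, List.mem_cons, Nat.beq_eq]
    exact or_congr ⟨Eq.symm, Eq.symm⟩ Iff.rfl

noncomputable def q15 (x : ℕ) : Bool := or (non (Nat.xor x 0x400)) (memL VL (Nat.land x 0x3ffbff))

theorem chk15 : allN 12 (fun i => Bool.rec (q15 (cd i)) true (Nat.beq (cd i) 0)) 0 = true := by decide +kernel

theorem land_cases {x : ℕ} (hx : x < 2 ^ 22) : x = Nat.land x 0x3ffbff ∨ x = Nat.land x 0x3ffbff ^^^ 0x400 := by
  show x = x &&& 0x3ffbff ∨ x = (x &&& 0x3ffbff) ^^^ 0x400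
  have key : ∀ i, (0x3ffbff : ℕ).testBit i = (decide (i < 22) && !decide (i = 10)) := by
    intro i
    by_cases h : i < 22
    · interval_cases i <;> rfl
    · rw [Nat.testBit_lt_two_pow (lt_of_lt_of_le (by norm_num : (0x3ffbff : ℕ) < 2 ^ 22)
        (Nat.pow_le_pow_right (by norm_num) (by omega)))]
      simp [h]
  have key2 : ∀ i, (0x400 : ℕ).testBit i = decide (i = 10) := by
    intro i
    have : (0x400 : ℕ) = 2 ^ 10 := by norm_num
    rw [this, Nat.testBit_two_pow]
    simp [eq_comm]
  have hx2 : ∀ i, ¬ i < 22 → x.testBit i = false := fun i hi =>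
    Nat.testBit_lt_two_pow (lt_of_lt_of_le hx (Nat.pow_le_pow_right (by norm_num) (by omega)))
  cases h10 : x.testBit 10 with
  | false =>
    left
    apply Nat.eq_of_testBit_eq
    intro i
    rw [Nat.testBit_and, key]
    by_cases h : i < 22
    · by_cases h' : i = 10
      · subst h'; simp [h10]
      · simp [h, h']
    · simp [hx2 i h]
  | true =>
    right
    apply Nat.eq_of_testBit_eq
    intro i
    rw [Nat.testBit_xor, Nat.testBit_and, key, key2]
    by_cases h : i < 22
    · by_cases h' : i = 10
      · subst h'; simp [h10]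
      · simp [h, h']
    · have h' : i ≠ 10 := by omega
      simp [hx2 i h, h']

/-- The codes whose sum with `0x400` is a code. -/
theorem f15 {i k : Lane U} (hi : Cd.isX i) (hk : Cd.isX k) (h : cd k.1 = cd i.1 ^^^ 0x400) :
    ∃ a ∈ VL, cd i.1 = a ∨ cd i.1 = a ^^^ 0x400 := by
  have e := lane_spec chk15 hi
  unfold q15 at e
  rw [Bool.or_eq_true] at e
  rcases e with e | e
  · exact absurd h (non_sound e hk)
  · exact ⟨_, memL_iff.1 e, land_cases (cd_lt _)⟩

theorem VL_lt : ∀ a ∈ VL, a < 2 ^ 10 := by decide

/-- Both codes of a pair are codes. -/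
noncomputable def pairOK (a i : ℕ) : Bool :=
  and (and (Nat.beq (cd i) a) (Nat.beq (cd (i + 32)) (Nat.xor a 0x400))) (and (tb U i) (tb U (i + 32)))

theorem pair_check : (List.zip VL LL).all (fun q => pairOK q.1 q.2) = true := by decide +kernel

theorem zip_check : (List.zip VL LL).all (fun q => decide (q.1 ≠ 0 ∧ q.1 ^^^ 0x400 ≠ 0 ∧ q.2 + 32 < 4096)) = true := by
  decide +kernel

theorem mem_zip' : ∀ a ∈ VL, ∃ q ∈ List.zip VL LL, q.1 = a := by decide

theorem mem_zip : ∀ a ∈ VL, ∃ i, (a, i) ∈ List.zip VL LL := by
  intro a ha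
  obtain ⟨⟨b, i⟩, hq, rfl⟩ := mem_zip' a ha
  exact ⟨i, hq⟩

theorem exists_lane {a : ℕ} (ha : a ∈ VL) : (∃ i : Lane U, Cd.isX i ∧ cd i.1 = a) ∧
    ∃ i : Lane U, Cd.isX i ∧ cd i.1 = a ^^^ 0x400 := by
  obtain ⟨i, hi⟩ := mem_zip a ha
  have h1 := List.all_eq_true.1 pair_check _ hi
  have h2 := List.all_eq_true.1 zip_check _ hi
  unfold pairOK at h1
  rw [Bool.and_eq_true, Bool.and_eq_true, Bool.and_eq_true, tb_eq, tb_eq] at h1
  rw [decide_eq_true_eq] at h2
  obtain ⟨⟨c1, c2⟩, c3, c4⟩ := h1
  obtain ⟨d1, d2, d3⟩ := h2
  have e1 : cd i = a := Nat.eq_of_beq_eq_true c1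
  have e2 : cd (i + 32) = a ^^^ 0x400 := Nat.eq_of_beq_eq_true c2
  refine ⟨⟨⟨i, c3⟩, isX_iff.2 ⟨?_, ?_⟩, e1⟩, ⟨⟨i + 32, c4⟩, isX_iff.2 ⟨d3, ?_⟩, e2⟩⟩
  · show i < 4096
    have : i + 32 < 4096 := d3
    omega
  · show cd i ≠ 0
    rw [e1]; exact d1
  · show cd (i + 32) ≠ 0
    rw [e2]; exact d2

/-- F15 -/
noncomputable def q4 (a b c d : ℕ) : Bool :=
  or (or (Nat.beq c a) (Nat.beq c b)) (not (or (Nat.beq (Nat.xor (Nat.xor a b) (Nat.xor c d)) 0)
    (Nat.beq (Nat.xor (Nat.xor a b) (Nat.xor c d)) 0x400)))

noncomputable def allL (l : List ℕ) (q : ℕ → Bool) : Bool := List.rec (motive := fun _ => Bool) true (fun a _ ih => and (q a) ih) l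

theorem allL_spec {l : List ℕ} {q : ℕ → Bool} (h : allL l q = true) {x : ℕ} (hx : x ∈ l) : q x = true := by
  induction l with
  | nil => exact absurd hx (by simp)
  | cons a l ih =>
    have h' : and (q a) (allL l q) = true := h
    rw [Bool.and_eq_true] at h'
    rcases List.mem_cons.1 hx with rfl | hx
    · exact h'.1
    · exact ih h'.2 hx

private noncomputable def MV : ℕ :=
  List.rec (motive := fun _ => ℕ) 0 (fun a _ ih => Nat.lor ih (Nat.pow 2 a)) VL

private theorem mv_chk : allL VL (tb MV) = true := by decide +kernel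

private theorem chk3 : allL VL (fun a => allL VL (fun b => Bool.rec (allL VL (fun c =>
    Bool.rec (Bool.rec (Bool.rec true false (tb MV (Nat.xor (Nat.xor a b) c))) true (Nat.beq c b)) true (Nat.beq c a)))
    true (Nat.beq a b))) = true := by decide +kernel

theorem f4 {a b c d : ℕ} (ha : a ∈ VL) (hb : b ∈ VL) (hc : c ∈ VL) (hd : d ∈ VL) (hab : a ≠ b)
    (h : (a ^^^ b) ^^^ (c ^^^ d) = 0 ∨ (a ^^^ b) ^^^ (c ^^^ d) = 0x400) : c = a ∨ c = b := by
  have h1 := allL_spec (allL_spec chk3 ha) hb
  cases e1 : Nat.beq a b
  swap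
  · exact absurd (Nat.eq_of_beq_eq_true e1) hab
  rw [e1] at h1
  have h2 := allL_spec h1 hc
  cases e2 : Nat.beq c a
  swap
  · exact Or.inl (Nat.eq_of_beq_eq_true e2)
  cases e3 : Nat.beq c b
  swap
  · exact Or.inr (Nat.eq_of_beq_eq_true e3)
  exfalso
  rw [e2, e3] at h2
  rcases h with h | h
  · rw [← Nat.xor_assoc, Nat.xor_eq_zero_iff] at h
    have h3 : Nat.xor (Nat.xor a b) c = d := h
    rw [h3, allL_spec mv_chk hd] at h2
    exact Bool.false_ne_true h2
  · have h3 := Nat.xor_lt_two_pow (Nat.xor_lt_two_pow (VL_lt a ha) (VL_lt b hb))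
      (Nat.xor_lt_two_pow (VL_lt c hc) (VL_lt d hd))
    rw [h] at h3
    exact absurd h3 (by norm_num)

private theorem allL_of {l : List ℕ} {q : ℕ → Bool} (h : ∀ x ∈ l, q x = true) : allL l q = true := by
  induction l with
  | nil => rfl
  | cons a l ih =>
    show and (q a) (allL l q) = true
    rw [h a List.mem_cons_self, ih fun x hx => h x (List.mem_cons_of_mem _ hx)]
    rfl

theorem chk4 : allL VL (fun a => allL VL (fun b => or (Nat.beq a b) (allL VL (fun c => allL VL (fun d => q4 a b c d))))) =
    true := by
  refine allL_of fun a ha => allL_of fun b hb => ?_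
  cases e1 : Nat.beq a b
  swap
  · rfl
  rw [Bool.false_or]
  refine allL_of fun c hc => allL_of fun d hd => ?_
  have h := f4 ha hb hc hd (Nat.ne_of_beq_eq_false e1)
  delta q4
  rw [Bool.or_eq_true, Bool.or_eq_true, Bool.not_eq_true', Nat.beq_eq, Nat.beq_eq, ← Bool.not_eq_true, Bool.or_eq_true,
    Nat.beq_eq, Nat.beq_eq]
  exact (em _).imp h id

end Cfsg.Agent.BabyU.ClosLaneTab
end

-- part: BabyU/ClosLane
section
/-!
# Closing for the Baby Monster: the facts on the lanes (helper404)

The fields `uniq`, `rel`, `t₁D`, `t₁P`, `t₁_comm`, `t₁_ne`, `t₁_ne'`, `trans`, `uniq₂`, `gen` (F11, F12, F14, F15, F16) of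
`Clos.Inner` for the concrete model, `H = Inst.M.G`, `P = Inst.M.Q`, `z = Inst.M.z`, `t = Inst.M.t₀`, `t₁ = t1`.
-/

set_option autoImplicit false

namespace Cfsg.Agent.BabyU.ClosLane

open Cfsg.Agent.Monster Cfsg.Agent.Monster.VecEngine Cfsg.Agent.Monster.VecSpace
open Cfsg.Agent.Monster.PauliBasic Cfsg.Agent.Monster.PauliRep Cfsg.Agent.Monster.PauliClif Cfsg.Agent.Monster.PauliBits
open Cfsg.Agent.BabyM Cfsg.Agent.BabyM.QAct Cfsg.Agent.BabyM.Model Cfsg.Agent.BabyM.Conc Cfsg.Agent.BabyM.KTab
open Cfsg.Agent.BabyM.KRow Cfsg.Agent.BabyM.KQ Cfsg.Agent.BabyM.KRowData Cfsg.Agent.BabyM.QIrrInst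
open Cfsg.Agent.BabyU.Clos Cfsg.Agent.BabyU.ClosLaneTab


/-- The elements of the Pauli group over the classes of the lanes. -/
abbrev PP : Set (Pauli 11) := QData.Good.P Cd

theorem A : BAll Inst.M GroupInst.K₀ := Instance.all

theorem mem_Γ {g : V ≃ₗ[ℚ] V} (hg : g ∈ Inst.M.G) : g ∈ Inst.M.Γ := A.G_le hg

theorem t₀_R : Inst.M.t₀ = Cd.R (Cd.c Inst.laneB) := KLink.t₀_eq

theorem base_P : Cd.c Inst.laneB ∈ PP := ⟨Inst.laneB, KLink.i₀_X, rfl⟩

/-! ### The transpositions in `Q` -/

/-- The transpositions in `Q` are conjugate to `t₀` under `C`. -/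
theorem exists_C {d : V ≃ₗ[ℚ] V} (hd : d ∈ cls Inst.M.G Inst.M.t₀) (hQ : d ∈ Inst.M.Q) :
    ∃ h ∈ Inst.M.C, d = h * Inst.M.t₀ * h⁻¹ := by
  obtain ⟨g, hg, rfl⟩ := hd
  obtain ⟨j, h, hh, e⟩ := (A.D_eq (g Inst.M.d₀)).2 ⟨g, hg, rfl⟩
  by_cases hj : j = Inst.M.j₀
  · subst hj
    rw [A.orb.d_j₀] at e
    have h1 := A.conj_t 1 g h (one_mem _) (mem_Γ hg) (A.C_le hh) (Or.inl e)
    refine ⟨h, hh, ?_⟩
    rw [← h1, one_mul, inv_one, mul_one]
  · exfalso
    obtain ⟨g', hg', e', x, hx, hne⟩ := Instance.tr.moves j hj
    have hhg : h * g' ∈ Inst.M.G := mul_mem (A.C_le_G hh) hg'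
    have h1 := A.conj_t 1 g (h * g') (one_mem _) (mem_Γ hg) (mem_Γ hhg) (Or.inl (by
      rw [LinearEquiv.mul_apply, e']; exact e))
    rw [one_mul, inv_one, mul_one] at h1
    rw [h1] at hQ
    have h2 := A.grp.Q_normal' h hh _ hQ
    have h3 : h⁻¹ * (h * g' * Inst.M.t₀ * (h * g')⁻¹) * h = g' * Inst.M.t₀ * g'⁻¹ := by group
    rw [h3] at h2
    exact hne (A.Q_U _ h2 x hx)

/-- Elements of `C` and the automorphisms of the Pauli group. -/
theorem exists_aut {h : V ≃ₗ[ℚ] V} (hh : h ∈ Inst.M.C) :
    ∃ α : MulAut (Pauli 11), (∀ x, h * Cd.R x * h⁻¹ = Cd.R (α x)) ∧ ∀ x ∈ PP, α x ∈ PP := by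
  obtain ⟨α, hα, hX⟩ := KFact.fact h hh
  refine ⟨α, fun x => ?_, QData.Good.mem_P_of_X hX⟩
  rw [hα x, mul_inv_cancel_right]

theorem exists_P {d : V ≃ₗ[ℚ] V} (hd : d ∈ cls Inst.M.G Inst.M.t₀) (hQ : d ∈ Inst.M.Q) : ∃ x ∈ PP, d = Cd.R x := by
  obtain ⟨h, hh, rfl⟩ := exists_C hd hQ
  obtain ⟨α, hα, hP⟩ := exists_aut hh
  exact ⟨α (Cd.c Inst.laneB), hP _ base_P, by rw [← hα, t₀_R]⟩

theorem R_mem_Q (x : Pauli 11) : Cd.R x ∈ Inst.M.Q := KLink.link.mem_Q.2 ⟨x, rfl⟩

theorem z_R : Inst.M.z = Cd.R (Pauli.z 11) := KLink.link.z_eq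

theorem mem_cls {x : Pauli 11} (hx : x ∈ PP) : Cd.R x ∈ cls Inst.M.G Inst.M.t₀ := by
  obtain ⟨g, hg, e⟩ := QIrr.exists_conj KLink.link hx
  rw [← t₀_R] at e
  rcases e with e | e
  · exact ⟨g, A.C_le_G hg, e⟩
  · obtain ⟨q, hq, -, hq2⟩ := A.exists_q
    refine ⟨g * q, mul_mem (A.C_le_G hg) (A.C_le_G (A.grp.Q_le hq)), ?_⟩
    have h1 : g * q * Inst.M.t₀ * (g * q)⁻¹ = g * (q * Inst.M.t₀) * q⁻¹ * g⁻¹ := by group
    have h2 : g * (Inst.M.t₀ * q * Inst.M.z) * q⁻¹ * g⁻¹ = g * (Inst.M.t₀ * (q * Inst.M.z) * q⁻¹) * g⁻¹ := by group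
    have h3 : g * (Inst.M.t₀ * (Inst.M.z * q) * q⁻¹) * g⁻¹ = g * Inst.M.t₀ * g⁻¹ * (g * Inst.M.z * g⁻¹) := by group
    rw [h1, hq2, h2, A.grp.z_comm q (A.grp.Q_le hq), h3, A.grp.z_comm g hg, mul_inv_cancel_right, e, mul_assoc,
      A.grp.z_sq, mul_one]

/-- The class of a code. -/
noncomputable def v (m : ℕ) : B 11 × B 11 := ab (dec 11 m)

theorem v_xor (x y : ℕ) : v (x ^^^ y) = v x + v y := ab_dec_xor x y

theorem add_self' (a : B 11 × B 11) : a + a = 0 := by
  have h : ∀ b : B 11, b + b = 0 := fun b => by
    funext i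
    exact CharTwo.add_self_eq_zero (b i)
  exact Prod.ext (h _) (h _)

theorem v_inj {x y : ℕ} (hx : x < 2 ^ 22) (hy : y < 2 ^ 22) (h : v x = v y) : x = y := eq_of_ab_dec hx hy h

theorem v_base : v (cd Inst.laneB.1) = v 0x75 := by
  show v (cd 1281) = v 0x75
  rw [KLink.cd_1281]

/-! ### Action of words -/

/-- `g` maps the class of `m` to the class of `n`. -/
def Act (g : V ≃ₗ[ℚ] V) (m n : ℕ) : Prop := ∀ x, ab x = v m → ∃ y, ab y = v n ∧ g * Cd.R x * g⁻¹ = Cd.R y

theorem Act.mul {g h : V ≃ₗ[ℚ] V} {l m n : ℕ} (hg : Act g m n) (hh : Act h l m) : Act (g * h) l n := by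
  intro x hx
  obtain ⟨y, hy, e1⟩ := hh x hx
  obtain ⟨w, hw, e2⟩ := hg y hy
  refine ⟨w, hw, ?_⟩
  rw [← e2, ← e1]; group

theorem Act.R (y : Pauli 11) (m : ℕ) : Act (Cd.R y) m m := by
  intro x hx
  refine ⟨y * x * y⁻¹, ?_, ?_⟩
  · rw [QData.Good.ab_conj]; exact hx
  · rw [map_mul, map_mul, map_inv]

/-- The kernel check of one step. -/
noncomputable def stepOK (I m n : ℕ) : Bool :=
  and (Nat.beq (wfold (fun k => 2 ^ k) m pos 0) m) (Nat.beq (Nat.land (wfold (im I) m pos 0) 0x3fffff) n)

theorem v_land (x : ℕ) : v (Nat.land x 0x3fffff) = v x := by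
  have h : ∀ k < 22, bit (x &&& 0x3fffff) k = bit x k := by
    intro k hk
    have h2 : (0x3fffff : ℕ) = 2 ^ 22 - 1 := by norm_num
    have h3 : (x &&& 0x3fffff).testBit k = x.testBit k := by
      rw [Nat.testBit_and, h2, Nat.testBit_two_pow_sub_one]
      simp [hk]
    have h4 := bit_eq_one_iff (x &&& 0x3fffff) k
    have h5 := bit_eq_one_iff x k
    rw [h3, ← h5] at h4
    rcases zmod2_cases (bit (x &&& 0x3fffff) k) with h6 | h6 <;> rcases zmod2_cases (bit x k) with h7 | h7
    · rw [h6, h7]
    · rw [h4.2 h7, h7]
    · rw [h6, h4.1 h6]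
    · rw [h6, h7]
  refine Prod.ext ?_ ?_
  · funext i; exact h (11 + i.1) (by have := i.2; omega)
  · funext i; exact h i.1 (by have := i.2; omega)

theorem act_of {l : Ltr} {I m n : ℕ} (hrel : ∀ k < 22, E l * Cd.R (dec 11 (2 ^ k)) = Cd.R (dec 11 (im I k)) * E l)
    (h : stepOK I m n = true) : Act (E l) m n := by
  obtain ⟨α, hα⟩ := KCore.exists_aut Cd.R Cd.R_injective (E l) closure_gens (by
    rintro x ⟨k, hk, rfl⟩
    exact ⟨_, hrel k hk⟩)
  have hα' : ∀ k < 22, α (dec 11 (2 ^ k)) = dec 11 (im I k) := by
    intro k hk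
    apply Cd.R_injective
    exact mul_right_cancel ((hα _).symm.trans (hrel k hk))
  unfold stepOK at h
  rw [Bool.and_eq_true] at h
  have h1 : wfold (fun k => 2 ^ k) m pos 0 = m := Nat.eq_of_beq_eq_true h.1
  have h2 : Nat.land (wfold (im I) m pos 0) 0x3fffff = n := Nat.eq_of_beq_eq_true h.2
  have h3 := wfold_sound hα' m pos (by decide) 0 0 (by rw [dec_zero, map_one])
  rw [h1] at h3
  intro x hx
  refine ⟨α x, ?_, ?_⟩
  · rw [ab_aut_congr α (show ab x = ab (dec 11 m) from hx), h3, ← h2, v_land]
    rfl
  · rw [hα x, mul_inv_cancel_right]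

theorem act_p {m n : ℕ} (h : stepOK I_p m n = true) : Act (E .p) m n := act_of KRelP.rel_p h

theorem act_p8 : Act (E .p8) 0x75 0x14b := by
  have h : E .p8 = E .p * (E .p * (E .p * (E .p * (E .p * (E .p * (E .p * E .p)))))) := by
    rw [TransInv.pow_eight]; rfl
  rw [h]
  refine Act.mul (m := 0x1) (act_p (by decide +kernel)) ?_
  refine Act.mul (m := 0x20) (act_p (by decide +kernel)) ?_
  refine Act.mul (m := 0x3da) (act_p (by decide +kernel)) ?_
  refine Act.mul (m := 0x8) (act_p (by decide +kernel)) ?_
  refine Act.mul (m := 0x1ed) (act_p (by decide +kernel)) ?_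
  refine Act.mul (m := 0x2e3) (act_p (by decide +kernel)) ?_
  exact Act.mul (m := 0x9f) (act_p (by decide +kernel)) (act_p (by decide +kernel))

theorem act_p6 : Act (E .p6) 0x1f6e6d 0x6f645 := by
  have h : E .p6 = E .p * (E .p * (E .p * (E .p * (E .p * E .p)))) := by
    rw [TransInv.pow_six]; rfl
  rw [h]
  refine Act.mul (m := 0xede82) (act_p (by decide +kernel)) ?_
  refine Act.mul (m := 0x1d3e8e) (act_p (by decide +kernel)) ?_
  refine Act.mul (m := 0x133e69) (act_p (by decide +kernel)) ?_
  refine Act.mul (m := 0xbfe0f) (act_p (by decide +kernel)) ?_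
  exact Act.mul (m := 0x1fff36) (act_p (by decide +kernel)) (act_p (by decide +kernel))

theorem act_rep : Act (W [.p8, .xi, .p6]) 0x75 0x6f645 := by
  rw [ConcGrp.W_three]
  exact Act.mul (Act.mul act_p6 (act_of (m := 0x14b) KRelXi.rel_xi (by decide +kernel))) act_p8

theorem act_y1 : Act (W [.y1]) 0x75 0x475 := by
  rw [W_single]
  exact act_of KRelY1.rel_y1 (by decide +kernel)

/-! ### The orbits of the centraliser of `t₀` -/

theorem R_eq_or {x y : Pauli 11} (h : ab x = ab y) : Cd.R x = Cd.R y ∨ Cd.R x = Cd.R y * Inst.M.z := by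
  rcases (ab_eq_iff x y).1 h with h | h
  · left; rw [h]
  · right; rw [h, z_R, ← map_mul, Pauli.mul_z, ← Pauli.z_mul]

theorem ab_of_R {x y : Pauli 11} (h : Cd.R x = Cd.R y ∨ Cd.R x = Cd.R y * Inst.M.z) : ab x = ab y := by
  apply (ab_eq_iff x y).2
  rcases h with h | h
  · left; exact Cd.R_injective h
  · right
    rw [z_R, ← map_mul, Pauli.mul_z, ← Pauli.z_mul] at h
    exact Cd.R_injective h

theorem ab_base : ab (Cd.c Inst.laneB) = v 0x75 := v_base

/-- The three classes in `Q` up to `C_C(t₀)`. -/
theorem orb {y : Pauli 11} (hy : y ∈ PP) : ∃ l ∈ Inst.M.C, l * Inst.M.t₀ = Inst.M.t₀ * l ∧ ∃ y', l * Cd.R y * l⁻¹ = Cd.R y' ∧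
    (ab y' = v 0x75 ∨ ab y' = v 0x475 ∨ ab y' = v 0x6f645) := by
  obtain ⟨h, hh, e⟩ := exists_C (mem_cls hy) (R_mem_Q y)
  obtain ⟨l, hl, r, hr, hb⟩ := TransFields.cover 0 (h Inst.M.d₀) ⟨h, hh, rfl⟩
  have hlC : l ∈ Inst.M.C := hl.1
  have hld : l Inst.M.d₀ = Inst.M.d₀ := by rw [← TransFields.M_d_zero]; exact TransFields.stab_d hl
  have hc : l * Inst.M.t₀ = Inst.M.t₀ * l := A.t₀_comm l (A.C_le hlC) (Or.inl hld)
  have h1 : l⁻¹ * (h * Inst.M.t₀ * h⁻¹) * (l⁻¹)⁻¹ = W r.h * Inst.M.t₀ * (W r.h)⁻¹ :=
    A.conj_t l⁻¹ h (W r.h) (A.C_le (Inst.M.C.inv_mem hlC)) (A.C_le hh) (mem_Γ (TransFields.W_mem_MG _)) (by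
      rcases hb with hb | hb
      · left; rw [hb, inv_apply_self']
      · right; rw [hb, map_neg, inv_apply_self'])
  rw [← e] at h1
  refine ⟨l⁻¹, Inst.M.C.inv_mem hlC, ?_, ?_⟩
  · rw [inv_mul_eq_iff_eq_mul, ← mul_assoc, hc, mul_inv_cancel_right]
  rw [h1, t₀_R]
  have key : ∀ {g : V ≃ₗ[ℚ] V} {n : ℕ}, Act g 0x75 n → ∃ y', g * Cd.R (Cd.c Inst.laneB) * g⁻¹ = Cd.R y' ∧ ab y' = v n := by
    intro g n hg
    obtain ⟨y', h2, h3⟩ := hg _ ab_base
    exact ⟨y', h3, h2⟩
  have hr' : r ∈ TransData.T0.reps := hr
  simp only [TransData.T0, List.mem_cons, List.not_mem_nil, or_false] at hr'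
  rcases hr' with rfl | rfl | rfl | rfl
  · obtain ⟨y', h2, h3⟩ := key (Act.R 1 0x75)
    rw [map_one] at h2
    exact ⟨y', h2, Or.inl h3⟩
  · have h4 : Act (W [.X0]) 0x75 0x75 := by
      rw [W_single, E_X0]; exact Act.R _ _
    obtain ⟨y', h2, h3⟩ := key h4
    exact ⟨y', h2, Or.inl h3⟩
  · obtain ⟨y', h2, h3⟩ := key act_y1
    exact ⟨y', h2, Or.inr (Or.inl h3)⟩
  · obtain ⟨y', h2, h3⟩ := key act_rep
    exact ⟨y', h2, Or.inr (Or.inr h3)⟩

/-- Commutation depends on the classes only. -/
theorem comm_congr {x x' y y' : Pauli 11} (hx : ab x = ab x') (hy : ab y = ab y') (h : x * y = y * x) :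
    x' * y' = y' * x' := by
  rw [Pauli.commute_iff] at h ⊢
  have h1 : x.a = x'.a := congrArg Prod.fst hx
  have h2 : x.b = x'.b := congrArg Prod.snd hx
  have h3 : y.a = y'.a := congrArg Prod.fst hy
  have h4 : y.b = y'.b := congrArg Prod.snd hy
  unfold Pauli.form at h ⊢
  rw [← h1, ← h2, ← h3, ← h4]; exact h

theorem not_comm : dec 11 0x6f645 * dec 11 0x75 ≠ dec 11 0x75 * dec 11 0x6f645 := by
  rw [← dec_mulN (by norm_num), ← dec_mulN (by norm_num)]
  intro h
  have h1 : (dec 11 (mulN 11 0x6f645 0x75)).s = (dec 11 (mulN 11 0x75 0x6f645)).s := by rw [h]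
  have h2 : bit (mulN 11 0x6f645 0x75) 22 = bit (mulN 11 0x75 0x6f645) 22 := h1
  revert h2
  decide +kernel

theorem comm_1 : dec 11 0x475 * dec 11 0x75 = dec 11 0x75 * dec 11 0x475 := by
  rw [← dec_mulN (by norm_num), ← dec_mulN (by norm_num)]
  have : mulN 11 0x475 0x75 = mulN 11 0x75 0x475 := by decide +kernel
  rw [this]

/-- The transposition `t₁ = t₀ ^ y₁`. -/
noncomputable def t1 : V ≃ₗ[ℚ] V := Cd.R (dec 11 0x475)

theorem PP_of {a : ℕ} (h : ∃ i : Lane U, Cd.isX i ∧ cd i.1 = a) {x : Pauli 11} (hx : ab x = v a) : x ∈ PP := by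
  obtain ⟨i, hi, rfl⟩ := h
  exact ⟨i, hi, hx⟩

theorem t1_P : dec 11 0x475 ∈ PP := PP_of (a := 0x475) (exists_lane (a := 0x75) (by decide)).2 rfl

/-- field `t₁D` -/
theorem t1_mem : t1 ∈ cls Inst.M.G Inst.M.t₀ := mem_cls t1_P

/-- field `t₁P` -/
theorem t1_Q : t1 ∈ Inst.M.Q := R_mem_Q _

theorem base_comm {x : Pauli 11} (hx : x * dec 11 0x75 = dec 11 0x75 * x) : Cd.R x * Inst.M.t₀ = Inst.M.t₀ * Cd.R x := by
  rw [t₀_R, ← map_mul, ← map_mul, comm_congr rfl ab_base.symm hx]

/-- field `t₁_comm` -/
theorem t1_comm : t1 * Inst.M.t₀ = Inst.M.t₀ * t1 := base_comm comm_1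

theorem t1_ab : ab (dec 11 0x475) ≠ ab (Cd.c Inst.laneB) := by
  rw [ab_base]
  intro h
  exact absurd (v_inj (by norm_num) (by norm_num) h) (by norm_num)

/-- field `t₁_ne` -/
theorem t1_ne : t1 ≠ Inst.M.t₀ := by
  intro h
  rw [t₀_R] at h
  exact t1_ab (ab_of_R (Or.inl h))

/-- field `t₁_ne'` -/
theorem t1_ne' : t1 ≠ Inst.M.t₀ * Inst.M.z := by
  intro h
  rw [t₀_R] at h
  exact t1_ab (ab_of_R (Or.inr h))

/-- field `trans` (F14) -/
theorem trans : ∀ d ∈ cls Inst.M.G Inst.M.t₀, d ∈ Inst.M.Q → d * Inst.M.t₀ = Inst.M.t₀ * d → d ≠ Inst.M.t₀ → d ≠ Inst.M.t₀ * Inst.M.z →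
    ∃ h ∈ Inst.M.G, h * Inst.M.t₀ = Inst.M.t₀ * h ∧ h * Inst.M.z = Inst.M.z * h ∧ (h * d * h⁻¹ = t1 ∨ h * d * h⁻¹ = t1 * Inst.M.z) := by
  intro d hd hdQ hc h1 h2
  obtain ⟨y, hy, rfl⟩ := exists_P hd hdQ
  obtain ⟨l, hl, hlt, y', e, hcase⟩ := orb hy
  have hz := A.grp.z_comm l hl
  have hconj : Cd.R y = l⁻¹ * Cd.R y' * l := by rw [← e]; group
  have ht : l⁻¹ * Inst.M.t₀ * l = Inst.M.t₀ := by rw [mul_assoc, ← hlt, inv_mul_cancel_left]
  rcases hcase with h | h | h
  · exfalso
    rw [← ab_base] at h
    rcases R_eq_or h with h3 | h3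
    · rw [h3, ← t₀_R, ht] at hconj
      exact h1 hconj
    · rw [h3, ← t₀_R] at hconj
      have h4 : l⁻¹ * (Inst.M.t₀ * Inst.M.z) * l = l⁻¹ * Inst.M.t₀ * l * Inst.M.z := by
        have : l⁻¹ * (Inst.M.t₀ * Inst.M.z) * l = l⁻¹ * Inst.M.t₀ * (Inst.M.z * l) := by group
        rw [this, ← hz]; group
      rw [h4, ht] at hconj
      exact h2 hconj
  · exact ⟨l, A.C_le_G hl, hlt, hz, by rw [e]; exact R_eq_or h⟩
  · exfalso
    have h3 : Cd.R y' * Inst.M.t₀ = Inst.M.t₀ * Cd.R y' := by
      have e1 : Cd.R y' * Inst.M.t₀ = l * Cd.R y * (l⁻¹ * Inst.M.t₀ * l) * l⁻¹ := by rw [← e]; group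
      have e2 : Inst.M.t₀ * Cd.R y' = l * (l⁻¹ * Inst.M.t₀ * l) * Cd.R y * l⁻¹ := by rw [← e]; group
      rw [e1, e2, ht, mul_assoc l, hc, mul_assoc l Inst.M.t₀]
    rw [t₀_R, ← map_mul, ← map_mul] at h3
    exact not_comm (comm_congr h ab_base (Cd.R_injective h3))

/-! ### F11, F12 -/

theorem ab_of_aut (γ : MulAut (Pauli 11)) {x y : Pauli 11} (h : ab (γ x) = ab (γ y)) : ab x = ab y := by
  have h2 := ab_aut_congr γ⁻¹ h
  rwa [MulAut.inv_apply_self, MulAut.inv_apply_self] at h2

/-- field `uniq` (F11) -/
theorem uniq : ∀ d ∈ cls Inst.M.G Inst.M.t₀, d ∈ Inst.M.Q → ∀ e ∈ cls Inst.M.G Inst.M.t₀, e ∈ Inst.M.Q → d * e ≠ e * d →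
    ∀ s ∈ cls Inst.M.G Inst.M.t₀, s ∈ Inst.M.Q → ∀ s' ∈ cls Inst.M.G Inst.M.t₀, s' ∈ Inst.M.Q →
    (s * s' = d * e ∨ s * s' = d * e * Inst.M.z) → s = d ∨ s = d * Inst.M.z ∨ s = e ∨ s = e * Inst.M.z := by
  intro d hd hdQ e he heQ hne s hs hsQ s' hs' hsQ' hss
  obtain ⟨h, hh, e1⟩ := exists_C hd hdQ
  obtain ⟨x, hx, rfl⟩ := exists_P hd hdQ
  obtain ⟨y, hy, rfl⟩ := exists_P he heQ
  obtain ⟨a, ha, rfl⟩ := exists_P hs hsQ
  obtain ⟨b, hb, rfl⟩ := exists_P hs' hsQ'
  have hab : ab (a * b) = ab (x * y) := by
    rw [← map_mul, ← map_mul] at hss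
    exact ab_of_R hss
  obtain ⟨α, hα, hαP⟩ := exists_aut (Inst.M.C.inv_mem hh)
  have hαx : α x = Cd.c Inst.laneB := by
    apply Cd.R_injective
    rw [← hα, e1, ← t₀_R]
    group
  obtain ⟨l, hl, hlt, y', ey, hcase⟩ := orb (hαP y hy)
  obtain ⟨β, hβ, hβP⟩ := exists_aut hl
  have hβx : β (α x) = Cd.c Inst.laneB := by
    apply Cd.R_injective
    rw [hαx, ← hβ, ← t₀_R, hlt, mul_inv_cancel_right]
  have hβy : β (α y) = y' := by
    apply Cd.R_injective
    rw [← hβ, ey]
  have hnc : ¬ (y' * Cd.c Inst.laneB = Cd.c Inst.laneB * y') := by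
    intro hc
    apply hne
    rw [← map_mul, ← map_mul]
    refine congrArg _ ?_
    rw [← hβx, ← hβy, ← map_mul, ← map_mul, ← map_mul, ← map_mul] at hc
    exact (α.injective (β.injective hc)).symm
  rcases hcase with hc | hc | hc
  · exact absurd (comm_congr hc.symm ab_base.symm rfl) hnc
  · exact absurd (comm_congr hc.symm ab_base.symm comm_1) hnc
  · obtain ⟨i, hi, hia⟩ := hβP _ (hαP a ha)
    obtain ⟨k, hk, hkb⟩ := hβP _ (hαP b hb)
    have hia' : ab (β (α a)) = v (cd i.1) := hia
    have hkb' : ab (β (α b)) = v (cd k.1) := hkb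
    have h1 : ab (β (α (a * b))) = ab (β (α (x * y))) := ab_aut_congr β (ab_aut_congr α hab)
    rw [map_mul, map_mul, map_mul, map_mul, ab_mul, ab_mul, hia', hkb', hβx, hβy, ab_base, hc] at h1
    have h2 : v (cd k.1) = v (cd i.1 ^^^ (0x75 ^^^ 0x6f645)) := by
      rw [v_xor, v_xor, ← h1, ← add_assoc, add_self', zero_add]
    have h3 : cd k.1 = cd i.1 ^^^ (0x75 ^^^ 0x6f645) :=
      v_inj (cd_lt _) (Nat.xor_lt_two_pow (cd_lt _) (by decide)) h2
    rcases f11 hi hk h3 with h4 | h4
    · have h5 : ab (β (α a)) = ab (β (α x)) := by rw [hia', h4, hβx, ab_base]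
      rcases R_eq_or (ab_of_aut α (ab_of_aut β h5)) with h6 | h6
      · exact Or.inl h6
      · exact Or.inr (Or.inl h6)
    · have h5 : ab (β (α a)) = ab (β (α y)) := by rw [hia', h4, hβy, hc]
      rcases R_eq_or (ab_of_aut α (ab_of_aut β h5)) with h6 | h6
      · exact Or.inr (Or.inr (Or.inl h6))
      · exact Or.inr (Or.inr (Or.inr h6))

/-- field `rel` (F12) -/
theorem rel : ∃ l : List (V ≃ₗ[ℚ] V), (∀ w ∈ l, w ∈ cls Inst.M.G Inst.M.t₀ ∧ w ∈ Inst.M.Q) ∧ Odd l.length ∧
    (l.prod = 1 ∨ l.prod = Inst.M.z) := by
  obtain ⟨a, b, c, d, e, ha, hb, hc, hd, he, h⟩ := hodd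
  refine ⟨[Cd.R (Cd.c a), Cd.R (Cd.c b), Cd.R (Cd.c c), Cd.R (Cd.c d), Cd.R (Cd.c e)], ?_, ⟨2, rfl⟩, ?_⟩
  · intro w hw
    simp only [List.mem_cons, List.not_mem_nil, or_false] at hw
    rcases hw with rfl | rfl | rfl | rfl | rfl
    · exact ⟨mem_cls ⟨a, ha, rfl⟩, R_mem_Q _⟩
    · exact ⟨mem_cls ⟨b, hb, rfl⟩, R_mem_Q _⟩
    · exact ⟨mem_cls ⟨c, hc, rfl⟩, R_mem_Q _⟩
    · exact ⟨mem_cls ⟨d, hd, rfl⟩, R_mem_Q _⟩
    · exact ⟨mem_cls ⟨e, he, rfl⟩, R_mem_Q _⟩
  · have h1 : [Cd.R (Cd.c a), Cd.R (Cd.c b), Cd.R (Cd.c c), Cd.R (Cd.c d), Cd.R (Cd.c e)].prod =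
        Cd.R (Cd.c a * Cd.c b * Cd.c c * Cd.c d * Cd.c e) := by
      simp only [List.prod_cons, List.prod_nil, map_mul, mul_one, mul_assoc]
    have h2 : ab (Cd.c a * Cd.c b * Cd.c c * Cd.c d * Cd.c e) = ab (1 : Pauli 11) := by
      rw [ab_mul, ab_mul, ab_mul, ab_mul, h, add_self']
      rfl
    rw [h1]
    rcases R_eq_or h2 with h3 | h3
    · left; rw [h3, map_one]
    · right; rw [h3, map_one, one_mul]

/-! ### F15 -/

/-- `c = t₀ t₁` -/
theorem c_eq : Inst.M.t₀ * t1 = Cd.R (dec 11 0x400) := by
  have h : mulN 11 0x75 0x475 = 0x400 := by decide +kernel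
  have h2 : Cd.c Inst.laneB = dec 11 0x75 := by
    show dec 11 (cd 1281) = _
    rw [KLink.cd_1281]
  rw [t₀_R, h2, t1, ← map_mul, ← dec_mulN (by norm_num), h]

/-- `x` has the class of `m` modulo `⟨z, c⟩` -/
def Q2 (x : Pauli 11) (m : ℕ) : Prop := ab x = v m ∨ ab x = v m + v 0x400

theorem four_of {x y : Pauli 11} (h : ab x = ab y ∨ ab x = ab y + v 0x400) :
    ∃ a ∈ four Inst.M.z (Inst.M.t₀ * t1), Cd.R x = Cd.R y * a := by
  refine ⟨Cd.R (y⁻¹ * x), ?_, by rw [← map_mul, mul_inv_cancel_left]⟩
  have hy : ab (y⁻¹) = ab y := by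
    have h1 : ab (y⁻¹ * y) = ab (1 : Pauli 11) := by rw [inv_mul_cancel]
    rw [ab_mul] at h1
    have h2 : ab (1 : Pauli 11) = 0 := rfl
    rw [h2] at h1
    calc ab (y⁻¹) = ab (y⁻¹) + (ab y + ab y) := by rw [add_self', add_zero]
      _ = ab y := by rw [← add_assoc, h1, zero_add]
  rcases h with h | h
  · have h1 : ab (y⁻¹ * x) = ab (1 : Pauli 11) := by
      rw [ab_mul, hy, h, add_self']; rfl
    rcases R_eq_or h1 with h2 | h2
    · left; rw [h2, map_one]
    · right; left; rw [h2, map_one, one_mul]
  · have h1 : ab (y⁻¹ * x) = ab (dec 11 0x400) := by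
      rw [ab_mul, hy, h, ← add_assoc, add_self', zero_add]; rfl
    rw [c_eq]
    rcases R_eq_or h1 with h2 | h2
    · right; right; left; exact h2
    · right; right; right; rw [h2]

theorem ab_four {x y : Pauli 11} {a : V ≃ₗ[ℚ] V} (ha : a ∈ four Inst.M.z (Inst.M.t₀ * t1)) (h : Cd.R x = Cd.R y * a) :
    ab x = ab y ∨ ab x = ab y + v 0x400 := by
  rw [c_eq] at ha
  rcases ha with rfl | rfl | rfl | rfl
  · left; rw [mul_one] at h; rw [Cd.R_injective h]
  · left; exact ab_of_R (Or.inr h)
  · right
    rw [← map_mul] at h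
    rw [Cd.R_injective h, ab_mul]; rfl
  · right
    rw [← mul_assoc, ← map_mul] at h
    rw [ab_of_R (Or.inr h), ab_mul]; rfl

theorem mem_dd {f : V ≃ₗ[ℚ] V} (hf : f ∈ dd Inst.M.G Inst.M.Q Inst.M.t₀ (Inst.M.t₀ * t1)) :
    ∃ x, f = Cd.R x ∧ ∃ a ∈ VL, Q2 x a := by
  obtain ⟨h1, h2, h3⟩ := hf
  obtain ⟨x, hx, rfl⟩ := exists_P h1 h2
  refine ⟨x, rfl, ?_⟩
  rw [c_eq, ← map_mul] at h3
  obtain ⟨y, hy, e⟩ := exists_P h3 (R_mem_Q _)
  rw [← Cd.R_injective e] at hy
  obtain ⟨i, hi, hix⟩ := hx
  obtain ⟨k, hk, hkx⟩ := hy
  have hix' : ab x = v (cd i.1) := hix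
  have hkx' : ab (x * dec 11 0x400) = v (cd k.1) := hkx
  rw [ab_mul, hix'] at hkx'
  have h4 : v (cd k.1) = v (cd i.1 ^^^ 0x400) := by rw [v_xor, ← hkx']; rfl
  obtain ⟨a, ha, h5⟩ := f15 hi hk (v_inj (cd_lt _) (Nat.xor_lt_two_pow (cd_lt _) (by norm_num)) h4)
  refine ⟨a, ha, ?_⟩
  rcases h5 with h5 | h5
  · left; rw [hix', h5]
  · right; rw [hix', h5, v_xor]

theorem Q2.PP {x : Pauli 11} {a : ℕ} (ha : a ∈ VL) (h : Q2 x a) : x ∈ PP := by
  rcases h with h | h
  · exact PP_of (exists_lane ha).1 h
  · exact PP_of (exists_lane ha).2 (by rw [h, v_xor])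

theorem Q2.dd {x : Pauli 11} {a : ℕ} (ha : a ∈ VL) (h : Q2 x a) : Cd.R x ∈ dd Inst.M.G Inst.M.Q Inst.M.t₀ (Inst.M.t₀ * t1) := by
  refine ⟨mem_cls (h.PP ha), R_mem_Q _, ?_⟩
  rw [c_eq, ← map_mul]
  apply mem_cls
  have h1 : Q2 (x * dec 11 0x400) a := by
    rcases h with h | h
    · right; rw [ab_mul, h]; rfl
    · left
      rw [ab_mul, h, add_assoc]
      show v a + (v 0x400 + v 0x400) = _
      rw [add_self', add_zero]
  exact h1.PP ha

theorem Q2.mul {x y : Pauli 11} {m n : ℕ} (hx : Q2 x m) (hy : Q2 y n) : Q2 (x * y) (m ^^^ n) := by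
  unfold Q2 at *
  rw [ab_mul, v_xor]
  rcases hx with hx | hx <;> rcases hy with hy | hy <;> rw [hx, hy]
  · left; rfl
  · right; abel
  · right; abel
  · left
    have : v m + v 0x400 + (v n + v 0x400) = v m + v n + (v 0x400 + v 0x400) := by abel
    rw [this, add_self', add_zero]

theorem xor_lt_1024 {a b : ℕ} (ha : a ∈ VL) (hb : b ∈ VL) : a ^^^ b < 2 ^ 10 :=
  Nat.xor_lt_two_pow (VL_lt a ha) (VL_lt b hb)

/-- field `uniq₂` (F15) -/
theorem uniq₂ : ∀ f ∈ dd Inst.M.G Inst.M.Q Inst.M.t₀ (Inst.M.t₀ * t1), ∀ f' ∈ dd Inst.M.G Inst.M.Q Inst.M.t₀ (Inst.M.t₀ * t1),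
    (∀ a ∈ four Inst.M.z (Inst.M.t₀ * t1), f' ≠ f * a) →
    ∀ s ∈ dd Inst.M.G Inst.M.Q Inst.M.t₀ (Inst.M.t₀ * t1), ∀ s' ∈ dd Inst.M.G Inst.M.Q Inst.M.t₀ (Inst.M.t₀ * t1),
    (∃ a ∈ four Inst.M.z (Inst.M.t₀ * t1), s * s' = f * f' * a) →
    (∃ a ∈ four Inst.M.z (Inst.M.t₀ * t1), s = f * a) ∨ ∃ a ∈ four Inst.M.z (Inst.M.t₀ * t1), s = f' * a := by
  intro f hf f' hf' hne s hs s' hs' hss
  obtain ⟨x, rfl, a, ha, hxa⟩ := mem_dd hf
  obtain ⟨y, rfl, b, hb, hyb⟩ := mem_dd hf'
  obtain ⟨w, rfl, c, hc, hwc⟩ := mem_dd hs
  obtain ⟨w', rfl, d, hd, hwd⟩ := mem_dd hs'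
  obtain ⟨q, hq, e⟩ := hss
  rw [← map_mul, ← map_mul] at e
  have h1 := ab_four hq e
  have close : ∀ {x y : Pauli 11} {a : ℕ}, Q2 x a → Q2 y a → ∃ q ∈ four Inst.M.z (Inst.M.t₀ * t1), Cd.R y = Cd.R x * q := by
    intro x y a hx hy
    apply four_of
    rcases hx with hx | hx <;> rcases hy with hy | hy <;> rw [hx, hy]
    · left; rfl
    · right; rfl
    · right; rw [add_assoc, add_self', add_zero]
    · left; rfl
  have hab : a ≠ b := by
    rintro rfl
    obtain ⟨q, hq, e⟩ := close hxa hyb
    exact hne q hq e
  have h2 : v ((a ^^^ b) ^^^ (c ^^^ d)) = v 0 ∨ v ((a ^^^ b) ^^^ (c ^^^ d)) = v 0x400 := by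
    have h3 := hxa.mul hyb
    have h4 := hwc.mul hwd
    have h0 : v 0 = 0 := by
      show ab (dec 11 0) = 0
      rw [dec_zero]; rfl
    rw [v_xor, h0]
    have key : ∀ {p q r s : B 11 × B 11}, (p = q ∨ p = q + v 0x400) → (p = r ∨ p = r + v 0x400) →
        q + r = 0 ∨ q + r = v 0x400 := by
      intro p q r s hq hr
      rcases hq with hq | hq <;> rcases hr with hr | hr
      · left; rw [← hq, ← hr, add_self']
      · right
        have : q = r + v 0x400 := by rw [← hq, hr]
        rw [this, add_right_comm, add_self', zero_add]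
      · right
        have : r = q + v 0x400 := by rw [← hr, hq]
        rw [this, ← add_assoc, add_self', zero_add]
      · left
        have : q = r := add_right_cancel (hq.symm.trans hr)
        rw [this, add_self']
    have h5 : ab (x * y) = v (c ^^^ d) ∨ ab (x * y) = v (c ^^^ d) + v 0x400 := by
      rcases h1 with h1 | h1
      · rw [← h1]; exact h4
      · have h6 : ab (x * y) = ab (w * w') + v 0x400 := by rw [h1, add_assoc, add_self', add_zero]
        rw [h6]
        rcases h4 with h4 | h4
        · right; rw [h4]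
        · left; rw [h4, add_assoc, add_self', add_zero]
    exact key (s := 0) h3 h5
  have hlt : (a ^^^ b) ^^^ (c ^^^ d) < 2 ^ 22 :=
    lt_trans (Nat.xor_lt_two_pow (xor_lt_1024 ha hb) (xor_lt_1024 hc hd)) (by norm_num)
  have h3 : (a ^^^ b) ^^^ (c ^^^ d) = 0 ∨ (a ^^^ b) ^^^ (c ^^^ d) = 0x400 := by
    rcases h2 with h2 | h2
    · exact Or.inl (v_inj hlt (by norm_num) h2)
    · exact Or.inr (v_inj hlt (by norm_num) h2)
  rcases f4 ha hb hc hd hab h3 with rfl | rfl
  · exact Or.inl (close hxa hwc)
  · exact Or.inr (close hyb hwc)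

end Cfsg.Agent.BabyU.ClosLane
end

private theorem dce_b6428434a136 : _root_.True := by
  try have : _root_.True := by simp only [_root_.Cfsg.Agent.BabyM.TransData.T0.eq_1]
  try have : _root_.True := by simp only [_root_.Cfsg.Agent.BabyU.ClosLane.t1.eq_1]
  exact _root_.True.intro
end

-- part: BabyU/ClosModel
section
prune_inst 0x2000000040000000001800040000000040000100000300002000080009082000a000060000b020001000088060080000000000000000000020000800000000000001000000340c00100000000000180c00000000000000000000000000000000000000000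
set_option linter.all false
open scoped Cfsg.Agent.FastGrp

/-!
# Closing for the Baby Monster: the facts F1-F7, F9, F10, F13 in the abstract model

`A : BAll M K₀`, `B : BTrans M` (facts of the 4371-dimensional model) and `Pairs M` (facts on pairs of axes, from the
tables) give the corresponding fields of `Clos.Inner ⊤ (PP M) (MM M) (zz A) (tt A) t₁` in the group `M.G`.
-/

set_option autoImplicit false

namespace Cfsg.Agent.BabyU.ClosModel

open Cfsg.Agent.BabyM.Model Cfsg.Agent.BabyU.Clos

variable {W : Type} [AddCommGroup W] [Module ℚ W]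

/-- Facts on pairs of axes. -/
structure Pairs (M : BData W) : Prop where
  pair : ∀ j, ∃ g ∈ M.G, g M.d₀ = M.d j ∧ ∀ h ∈ M.C,
    (h * M.t₀ * h⁻¹ = g * M.t₀ * g⁻¹) ∨
    (M.F (h M.d₀) (M.d j) = 1 ∨ M.F (h M.d₀) (M.d j) = -1) ∨
    (h * M.t₀ * h⁻¹) (M.d j) = - M.d j ∨
    ((h * M.t₀ * h⁻¹) (M.d j) ≠ M.d j ∧
      (((h * M.t₀ * h⁻¹) * (g * M.t₀ * g⁻¹)) ^ 3 = 1 ∨
        (g * M.t₀ * g⁻¹) ((h * M.t₀ * h⁻¹) (M.d j)) = (h * M.t₀ * h⁻¹) (M.d j)))
  nz : ∀ j, ∃ b ∈ M.S, M.F b (M.d j) ≠ 0

variable (M : BData W)

/-- `O₂(C(z))` -/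
def PP : Subgroup M.G := M.Q.subgroupOf M.G

/-- the stabilizer of the base axis -/
def MM : Subgroup M.G where
  carrier := {g | (g : W ≃ₗ[ℚ] W) M.d₀ = M.d₀}
  mul_mem' := fun {a b} ha hb => by
    show ((a * b : M.G) : W ≃ₗ[ℚ] W) M.d₀ = M.d₀
    have ha' : (a : W ≃ₗ[ℚ] W) M.d₀ = M.d₀ := ha
    have hb' : (b : W ≃ₗ[ℚ] W) M.d₀ = M.d₀ := hb
    rw [Subgroup.coe_mul, LinearEquiv.mul_apply, hb', ha']
  one_mem' := rfl
  inv_mem' := fun {a} ha => by
    show ((a⁻¹ : M.G) : W ≃ₗ[ℚ] W) M.d₀ = M.d₀
    have ha' : (a : W ≃ₗ[ℚ] W) M.d₀ = M.d₀ := ha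
    rw [Subgroup.coe_inv]
    conv_lhs => rw [← ha']
    rw [inv_apply_self']

variable {M}

theorem mem_PP {g : M.G} : g ∈ PP M ↔ (g : W ≃ₗ[ℚ] W) ∈ M.Q := Subgroup.mem_subgroupOf

theorem mem_MM {g : M.G} : g ∈ MM M ↔ (g : W ≃ₗ[ℚ] W) M.d₀ = M.d₀ := Iff.rfl

variable {K₀ : Type} [Group K₀] (A : BAll M K₀)

/-- the transposition -/
def tt : M.G := ⟨M.t₀, A.C_le_G A.t₀_C⟩

/-- the central involution -/
def zz : M.G := ⟨M.z, A.C_le_G A.grp.z_mem_C⟩

theorem t_sq : tt A * tt A = 1 := Subtype.ext A.rep.t₀_sq

theorem t_ne : tt A ≠ 1 := fun h => A.rep.t₀_ne (congrArg Subtype.val h)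

theorem z_sq : zz A * zz A = 1 := Subtype.ext A.grp.z_sq

theorem z_ne : zz A ≠ 1 := fun h => A.grp.z_ne (congrArg Subtype.val h)

theorem tP : tt A ∈ PP M := mem_PP.2 A.rep.t₀_mem

theorem zP : zz A ∈ PP M := mem_PP.2 A.grp.z_mem

include A in
theorem two : IsPGroup 2 (PP M) := by
  refine IsPGroup.of_card (n := 23) ?_
  rw [← A.grp.Q_card]
  exact Nat.card_congr (Subgroup.subgroupOfEquivOfLe fun q hq => A.C_le_G (A.grp.Q_le hq)).toEquiv

theorem mem_C_of {h : M.G} (hz : h * zz A = zz A * h) : (h : W ≃ₗ[ℚ] W) ∈ M.C :=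
  A.cent_z h h.2 (congrArg Subtype.val hz)

theorem zc : ∀ q ∈ PP M, q * zz A = zz A * q := fun q hq =>
  Subtype.ext (A.grp.z_comm q (A.grp.Q_le (mem_PP.1 hq)))

theorem P_norm : ∀ h ∈ (⊤ : Subgroup M.G), h * zz A = zz A * h → ∀ q ∈ PP M, h * q * h⁻¹ ∈ PP M := by
  intro h _ hz q hq
  exact mem_PP.2 (A.grp.Q_normal h (mem_C_of A hz) q (mem_PP.1 hq))

theorem P_comm : ∀ q ∈ PP M, ∀ r ∈ PP M, q * r = r * q ∨ q * r = r * q * zz A := by
  intro q hq r hr
  rcases A.grp.Q_comm q (mem_PP.1 hq) r (mem_PP.1 hr) with h | h
  · exact Or.inl (Subtype.ext h)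
  · exact Or.inr (Subtype.ext h)

theorem fuse : ∃ q ∈ PP M, q * tt A * q⁻¹ = tt A * zz A := by
  obtain ⟨q, hq, -, h⟩ := A.d₁_mem'
  exact ⟨⟨q, A.C_le_G (A.grp.Q_le hq)⟩, mem_PP.2 hq, Subtype.ext (A.q₀_conj hq h)⟩

theorem M_comm : ∀ m ∈ MM M, m * tt A = tt A * m := fun m hm =>
  Subtype.ext (A.t₀_comm m (A.G_le m.2) (Or.inl hm))

include A in
theorem ne_neg {x : W} (hx : x ∈ M.D) : x ≠ - x := by
  intro h
  have h1 := A.F_D x hx
  have h2 : M.F x x = M.F (-x) x := by rw [← h]
  rw [map_neg, LinearMap.neg_apply, h1] at h2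
  norm_num at h2

include A in
theorem apply_mem {g : W ≃ₗ[ℚ] W} (hg : g ∈ M.G) {x : W} (hx : x ∈ M.D) : g x ∈ M.D :=
  ((A.G_le hg).2 x).2 hx

include A in
theorem F_inv {g : W ≃ₗ[ℚ] W} (hg : g ∈ M.G) (x y : W) : M.F (g x) (g y) = M.F x y := (A.G_le hg).1 x y

/-- `t₀` fixes the base axis -/
theorem tM : tt A ∈ MM M := by
  show M.t₀ (M.u₀ + M.e₀) = M.u₀ + M.e₀
  rw [map_add, A.rep.Q_u₀ _ A.rep.t₀_mem, A.rep.Q_e₀_pos _ A.rep.t₀_mem rfl]

theorem PM : ∀ q ∈ PP M, q * tt A = tt A * q → q ∈ MM M := by
  intro q hq h
  show (q : W ≃ₗ[ℚ] W) (M.u₀ + M.e₀) = M.u₀ + M.e₀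
  rw [map_add, A.rep.Q_u₀ _ (mem_PP.1 hq), A.rep.Q_e₀_pos _ (mem_PP.1 hq) (congrArg Subtype.val h)]

theorem irr : ∀ N : Subgroup M.G, N ≤ PP M → (∀ h ∈ (⊤ : Subgroup M.G), h * zz A = zz A * h → ∀ n ∈ N, h * n * h⁻¹ ∈ N) →
    (∀ n ∈ N, n = 1 ∨ n = zz A) ∨ tt A ∈ N := by
  intro N hN h
  have hmem : ∀ x : W ≃ₗ[ℚ] W, x ∈ N.map M.G.subtype ↔ ∃ y ∈ N, (y : W ≃ₗ[ℚ] W) = x := fun x => Subgroup.mem_map
  rcases A.grp.Q_irred (N.map M.G.subtype) (by
      intro x hx
      obtain ⟨y, hy, rfl⟩ := (hmem x).1 hx
      exact mem_PP.1 (hN hy)) (by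
      intro g hg n hn
      obtain ⟨y, hy, rfl⟩ := (hmem n).1 hn
      exact (hmem _).2 ⟨(⟨g, A.C_le_G hg⟩ * y * ⟨g, A.C_le_G hg⟩⁻¹ :),
        (by exact h _ (Subgroup.mem_top _) (Subtype.ext (A.grp.z_comm g hg)) y hy), rfl⟩) with h1 | h1
  · left
    intro n hn
    rcases h1 n ((hmem _).2 ⟨n, hn, rfl⟩) with h2 | h2
    · exact Or.inl (Subtype.ext h2)
    · exact Or.inr (Subtype.ext h2)
  · right
    have h2 : M.t₀ ∈ N.map M.G.subtype := by rw [h1]; exact A.rep.t₀_mem
    obtain ⟨y, hy, h3⟩ := (hmem _).1 h2
    have : y = tt A := Subtype.ext h3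
    rwa [← this]

section

variable (B : BTrans M)

include A B in
theorem pm_of_comm {g : M.G} (h : g * tt A = tt A * g) :
    (g : W ≃ₗ[ℚ] W) M.d₀ = M.d₀ ∨ (g : W ≃ₗ[ℚ] W) M.d₀ = - M.d₀ :=
  A.comm_t₀ B g g.2 (congrArg Subtype.val h)

theorem comm_of_pm {g : M.G} (h : (g : W ≃ₗ[ℚ] W) M.d₀ = M.d₀ ∨ (g : W ≃ₗ[ℚ] W) M.d₀ = - M.d₀) :
    g * tt A = tt A * g := Subtype.ext (A.t₀_comm g (A.G_le g.2) h)

include A B in
theorem neg_of_notMem {g : M.G} (h : g * tt A = tt A * g) (hn : g ∉ MM M) : (g : W ≃ₗ[ℚ] W) M.d₀ = - M.d₀ := by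
  rcases pm_of_comm A B h with h1 | h1
  · exact absurd h1 hn
  · exact h1

include B in
theorem M_norm : ∀ g ∈ (⊤ : Subgroup M.G), g * tt A = tt A * g → ∀ m ∈ MM M, g * m * g⁻¹ ∈ MM M := by
  intro g _ h m hm
  have hm' : (m : W ≃ₗ[ℚ] W) M.d₀ = M.d₀ := hm
  show ((g * m * g⁻¹ : M.G) : W ≃ₗ[ℚ] W) M.d₀ = M.d₀
  rw [Subgroup.coe_mul, Subgroup.coe_mul, Subgroup.coe_inv, LinearEquiv.mul_apply, LinearEquiv.mul_apply]
  rcases pm_of_comm A B h with h1 | h1
  · have h2 : (g : W ≃ₗ[ℚ] W)⁻¹ M.d₀ = M.d₀ := by conv_lhs => rw [← h1, inv_apply_self']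
    rw [h2, hm', h1]
  · have h2 : (g : W ≃ₗ[ℚ] W)⁻¹ M.d₀ = - M.d₀ := by
      have : (g : W ≃ₗ[ℚ] W)⁻¹ (- M.d₀) = M.d₀ := by conv_lhs => rw [← h1, inv_apply_self']
      rw [map_neg] at this
      exact neg_eq_iff_eq_neg.1 this
    rw [h2, map_neg, hm', map_neg, h1, neg_neg]

include B in
theorem M_index : ∀ g ∈ (⊤ : Subgroup M.G), ∀ h ∈ (⊤ : Subgroup M.G), g * tt A = tt A * g → h * tt A = tt A * h →
    g ∉ MM M → h ∉ MM M → g * h ∈ MM M := by
  intro g _ h _ hg hh hgn hhn
  show ((g * h : M.G) : W ≃ₗ[ℚ] W) M.d₀ = M.d₀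
  rw [Subgroup.coe_mul, LinearEquiv.mul_apply, neg_of_notMem A B hh hhn, map_neg, neg_of_notMem A B hg hgn, neg_neg]

include B in
/-- F2: `z` is not a transposition -/
theorem z_notin : zz A ∉ cls (⊤ : Subgroup M.G) (tt A) := by
  rintro ⟨g, -, h⟩
  have := A.finite_G
  have h1 : Nat.card (Subgroup.centralizer ({tt A} : Set M.G)) = Nat.card (Subgroup.centralizer ({zz A} : Set M.G)) := by
    rw [← h]
    refine Nat.card_congr ⟨fun x => ⟨g * x * g⁻¹, ?_⟩, fun x => ⟨g⁻¹ * x * g, ?_⟩, fun x => ?_, fun x => ?_⟩
    · have hx := Subgroup.mem_centralizer_singleton_iff.1 x.2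
      rw [Subgroup.mem_centralizer_singleton_iff]
      calc g * ↑x * g⁻¹ * (g * tt A * g⁻¹) = g * (↑x * tt A) * g⁻¹ := by group
        _ = g * (tt A * ↑x) * g⁻¹ := by rw [hx]
        _ = g * tt A * g⁻¹ * (g * ↑x * g⁻¹) := by group
    · have hx := Subgroup.mem_centralizer_singleton_iff.1 x.2
      rw [Subgroup.mem_centralizer_singleton_iff]
      calc g⁻¹ * ↑x * g * tt A = g⁻¹ * (↑x * (g * tt A * g⁻¹)) * g := by group
        _ = g⁻¹ * (g * tt A * g⁻¹ * ↑x) * g := by rw [hx]
        _ = tt A * (g⁻¹ * ↑x * g) := by group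
    · exact Subtype.ext (by simp only []; group)
    · exact Subtype.ext (by simp only []; group)
  have h2 : Nat.card (Subgroup.centralizer ({zz A} : Set M.G)) = Nat.card M.C := by
    refine Nat.card_congr ⟨fun x => ⟨x.1.1, mem_C_of A (Subgroup.mem_centralizer_singleton_iff.1 x.2)⟩,
      fun x => ⟨⟨x.1, A.C_le_G x.2⟩, Subgroup.mem_centralizer_singleton_iff.2 (Subtype.ext (A.grp.z_comm x x.2))⟩,
      fun x => rfl, fun x => rfl⟩
  have h3 : Nat.card (Subgroup.centralizer ({tt A} : Set M.G)) = 306129918735099415756800 := A.card_cent B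
  rw [h3, h2, A.grp.card_C] at h1
  norm_num at h1

/-- F4 -/
theorem sgn : ∀ g ∈ (⊤ : Subgroup M.G), g * tt A = tt A * g → g * zz A = zz A * g → ∀ q ∈ PP M,
    q * tt A * q⁻¹ = tt A * zz A → (g ∈ MM M ↔ q⁻¹ * g * q ∈ MM M) := by
  intro g _ hg hz q hq hqt
  have hgC := mem_C_of A hz
  have hqC := A.grp.Q_le (mem_PP.1 hq)
  have hq' : (q : W ≃ₗ[ℚ] W) M.e₀ = - M.e₀ := by
    refine A.rep.Q_e₀_neg q (mem_PP.1 hq) fun h => ?_
    have h1 : q * tt A = tt A * q := Subtype.ext h
    rw [h1, mul_inv_cancel_right] at hqt
    exact z_ne A (by rw [left_eq_mul] at hqt; exact hqt)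
  have hqd : (q : W ≃ₗ[ℚ] W) M.d₀ = M.d₁ := by
    show (q : W ≃ₗ[ℚ] W) (M.u₀ + M.e₀) = M.u₀ - M.e₀
    rw [map_add, A.rep.Q_u₀ _ (mem_PP.1 hq), hq', sub_eq_add_neg]
  have hinv : q⁻¹ * g * q ∈ MM M ↔ (g : W ≃ₗ[ℚ] W) M.d₁ = M.d₁ := by
    show ((q⁻¹ * g * q : M.G) : W ≃ₗ[ℚ] W) M.d₀ = M.d₀ ↔ _
    rw [Subgroup.coe_mul, Subgroup.coe_mul, Subgroup.coe_inv, LinearEquiv.mul_apply, LinearEquiv.mul_apply, hqd]
    constructor
    · intro h
      have := congrArg (q : W ≃ₗ[ℚ] W) h
      rwa [apply_inv_self', hqd] at this
    · intro h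
      rw [h, ← hqd, inv_apply_self']
  rw [hinv, mem_MM]
  have hu := A.C_U g hgC _ A.u₀_mem
  have he := A.C_E g hgC _ A.e₀_mem
  unfold BData.d₀ BData.d₁
  constructor
  · intro h
    rw [map_add] at h
    obtain ⟨h1, h2⟩ := A.parts hu A.u₀_mem he A.e₀_mem h
    rw [map_sub, h1, h2]
  · intro h
    rw [map_sub, sub_eq_add_neg, sub_eq_add_neg] at h
    obtain ⟨h1, h2⟩ := A.parts hu A.u₀_mem (M.E.neg_mem he) (M.E.neg_mem A.e₀_mem) h
    rw [map_add, h1, neg_inj.1 h2]

/-! ### Pairs of axes -/

/-- the transposition of an axis -/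
theorem conj_axis {g h : M.G} (e : (g : W ≃ₗ[ℚ] W) M.d₀ = (h : W ≃ₗ[ℚ] W) M.d₀ ∨
    (g : W ≃ₗ[ℚ] W) M.d₀ = - (h : W ≃ₗ[ℚ] W) M.d₀) : g * tt A * g⁻¹ = h * tt A * h⁻¹ := by
  have := A.conj_t 1 g h M.Γ.one_mem (A.G_le g.2) (A.G_le h.2) e
  rw [one_mul, inv_one, mul_one] at this
  exact Subtype.ext this

include B in
/-- the axis of a transposition is unique up to sign -/
theorem axis_of {g h : M.G} (e : g * tt A * g⁻¹ = h * tt A * h⁻¹) :
    (g : W ≃ₗ[ℚ] W) M.d₀ = (h : W ≃ₗ[ℚ] W) M.d₀ ∨ (g : W ≃ₗ[ℚ] W) M.d₀ = - (h : W ≃ₗ[ℚ] W) M.d₀ := by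
  have h1 : (h⁻¹ * g) * tt A = tt A * (h⁻¹ * g) := by
    calc (h⁻¹ * g) * tt A = h⁻¹ * (g * tt A * g⁻¹) * g := by group
      _ = h⁻¹ * (h * tt A * h⁻¹) * g := by rw [e]
      _ = tt A * (h⁻¹ * g) := by group
  rcases pm_of_comm A B h1 with h2 | h2
  · left
    have := congrArg (h : W ≃ₗ[ℚ] W) h2
    rwa [Subgroup.coe_mul, Subgroup.coe_inv, LinearEquiv.mul_apply, apply_inv_self'] at this
  · right
    have := congrArg (h : W ≃ₗ[ℚ] W) h2
    rwa [Subgroup.coe_mul, Subgroup.coe_inv, LinearEquiv.mul_apply, apply_inv_self', map_neg] at this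

end

/-- The five relations of a pair of transpositions. -/
theorem std (P : Pairs M) (h : M.G) :
    h * tt A * h⁻¹ = tt A ∨
    (M.F ((h : W ≃ₗ[ℚ] W) M.d₀) M.d₀ = 1 ∨ M.F ((h : W ≃ₗ[ℚ] W) M.d₀) M.d₀ = -1) ∨
    ((h * tt A * h⁻¹ : M.G) : W ≃ₗ[ℚ] W) M.d₀ = - M.d₀ ∨
    (h * tt A * h⁻¹ ∉ MM M ∧ ((h * tt A * h⁻¹ * tt A) ^ 3 = 1 ∨
      M.t₀ (((h * tt A * h⁻¹ : M.G) : W ≃ₗ[ℚ] W) M.d₀) = ((h * tt A * h⁻¹ : M.G) : W ≃ₗ[ℚ] W) M.d₀)) := by
  obtain ⟨j, c, hc, e⟩ := apply_mem A (M.G.inv_mem h.2) A.d₀_mem
  obtain ⟨g, hg, hgd, hp⟩ := P.pair j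
  have hp := hp c⁻¹ (M.C.inv_mem hc)
  rw [inv_inv] at hp
  -- `k d_j = d₀`
  let k : W ≃ₗ[ℚ] W := (h : W ≃ₗ[ℚ] W) * c
  have hk : k ∈ M.G := M.G.mul_mem h.2 (A.C_le_G hc)
  have hkd : k (M.d j) = M.d₀ := by
    show (h : W ≃ₗ[ℚ] W) (c (M.d j)) = M.d₀
    rw [← e, apply_inv_self']
  have hkd' : k⁻¹ M.d₀ = M.d j := by rw [← hkd, inv_apply_self']
  have es : ((h * tt A * h⁻¹ : M.G) : W ≃ₗ[ℚ] W) = k * (c⁻¹ * M.t₀ * c) * k⁻¹ := by
    show (h : W ≃ₗ[ℚ] W) * M.t₀ * (h : W ≃ₗ[ℚ] W)⁻¹ = (h : W ≃ₗ[ℚ] W) * c * (c⁻¹ * M.t₀ * c) * ((h : W ≃ₗ[ℚ] W) * c)⁻¹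
    group
  have et : M.t₀ = k * (g * M.t₀ * g⁻¹) * k⁻¹ := by
    have := A.conj_t k g 1 (A.G_le hk) (A.G_le hg) M.Γ.one_mem (Or.inl (by rw [hgd, hkd]; rfl))
    rw [one_mul, inv_one, mul_one] at this
    exact this.symm
  have esd : ((h * tt A * h⁻¹ : M.G) : W ≃ₗ[ℚ] W) M.d₀ = k ((c⁻¹ * M.t₀ * c) (M.d j)) := by
    rw [es, LinearEquiv.mul_apply, LinearEquiv.mul_apply, hkd']
  rcases hp with h1 | h1 | h1 | ⟨h0, h1⟩
  · left
    refine Subtype.ext ?_
    rw [es, h1, ← et]
    rfl
  · right; left
    have ex : (h : W ≃ₗ[ℚ] W) M.d₀ = k (c⁻¹ M.d₀) := by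
      show (h : W ≃ₗ[ℚ] W) M.d₀ = (h : W ≃ₗ[ℚ] W) (c (c⁻¹ M.d₀))
      rw [apply_inv_self']
    have : M.F ((h : W ≃ₗ[ℚ] W) M.d₀) M.d₀ = M.F (c⁻¹ M.d₀) (M.d j) := by
      rw [ex]
      have h2 := F_inv A hk (c⁻¹ M.d₀) (M.d j)
      rwa [hkd] at h2
    rw [this]
    exact h1
  · right; right; left
    rw [esd, h1, map_neg, hkd]
  · right; right; right
    refine ⟨fun hM => h0 ?_, ?_⟩
    · have hM' : ((h * tt A * h⁻¹ : M.G) : W ≃ₗ[ℚ] W) M.d₀ = M.d₀ := hM
      rw [esd] at hM'
      conv_rhs at hM' => rw [← hkd]
      exact k.injective hM'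
    · rcases h1 with h1 | h1
      · left
        refine Subtype.ext ?_
        have e3 : ((h * tt A * h⁻¹ * tt A : M.G) : W ≃ₗ[ℚ] W) =
            k * ((c⁻¹ * M.t₀ * c) * (g * M.t₀ * g⁻¹)) * k⁻¹ := by
          calc ((h * tt A * h⁻¹ * tt A : M.G) : W ≃ₗ[ℚ] W) =
            ((h * tt A * h⁻¹ : M.G) : W ≃ₗ[ℚ] W) * M.t₀ := rfl
            _ = k * (c⁻¹ * M.t₀ * c) * k⁻¹ * M.t₀ := by rw [es]
            _ = k * (c⁻¹ * M.t₀ * c) * k⁻¹ * (k * (g * M.t₀ * g⁻¹) * k⁻¹) :=
              congrArg (fun x => k * (c⁻¹ * M.t₀ * c) * k⁻¹ * x) et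
            _ = k * ((c⁻¹ * M.t₀ * c) * (g * M.t₀ * g⁻¹)) * k⁻¹ := by group
        rw [Subgroup.coe_pow, e3, conj_pow, h1, mul_one, mul_inv_cancel]
        rfl
      · right
        rw [esd]
        have h2 := congrArg (fun f : W ≃ₗ[ℚ] W => f (k ((c⁻¹ * M.t₀ * c) (M.d j)))) et
        have h3 : (k * (g * M.t₀ * g⁻¹) * k⁻¹) (k ((c⁻¹ * M.t₀ * c) (M.d j))) = k ((c⁻¹ * M.t₀ * c) (M.d j)) := by
          rw [LinearEquiv.mul_apply (k * (g * M.t₀ * g⁻¹)), LinearEquiv.mul_apply k, inv_apply_self', h1]
        exact h2.trans h3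

theorem adj_of (h : M.G) (hF : M.F ((h : W ≃ₗ[ℚ] W) M.d₀) M.d₀ = 1 ∨ M.F ((h : W ≃ₗ[ℚ] W) M.d₀) M.d₀ = -1) :
    ∃ g : M.G, (g : W ≃ₗ[ℚ] W) M.d₀ = M.d₀ ∧ g * (tt A * zz A) * g⁻¹ = h * tt A * h⁻¹ := by
  obtain ⟨q₀, hq₀, hq₀d, hq₀t⟩ := A.d₁_mem'
  have key : ∀ b, b ∈ M.R → (b = (h : W ≃ₗ[ℚ] W) M.d₀ ∨ b = - (h : W ≃ₗ[ℚ] W) M.d₀) →
      ∃ g : M.G, (g : W ≃ₗ[ℚ] W) M.d₀ = M.d₀ ∧ g * (tt A * zz A) * g⁻¹ = h * tt A * h⁻¹ := by
    intro b hb hbh
    obtain ⟨g, hg, h1, h2⟩ := A.trans_R b hb
    let q : M.G := ⟨q₀, A.C_le_G (A.grp.Q_le hq₀)⟩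
    have hq : tt A * zz A = q * tt A * q⁻¹ := Subtype.ext (A.q₀_conj hq₀ hq₀t).symm
    refine ⟨⟨g, hg⟩, h1, ?_⟩
    have h3 := conj_axis A (g := ⟨g, hg⟩ * q) (h := h) (by
      have : (((⟨g, hg⟩ * q : M.G)) : W ≃ₗ[ℚ] W) M.d₀ = b := by
        show g (q₀ M.d₀) = b
        rw [hq₀d, h2]
      rw [this]
      exact hbh)
    rw [hq, ← h3]
    group
  rcases hF with hF | hF
  · refine key (- (h : W ≃ₗ[ℚ] W) M.d₀) ⟨A.neg_D _ (apply_mem A h.2 A.d₀_mem), ?_⟩ (Or.inr rfl)
    rw [map_neg, LinearMap.neg_apply, hF]
  · exact key ((h : W ≃ₗ[ℚ] W) M.d₀) ⟨apply_mem A h.2 A.d₀_mem, hF⟩ (Or.inl rfl)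

/-- F3 -/
theorem adj (P : Pairs M) : ∀ s ∈ cls (⊤ : Subgroup M.G) (tt A), s ∈ MM M → s ≠ tt A →
    ∃ h ∈ (⊤ : Subgroup M.G), h * tt A = tt A * h ∧ h * (tt A * zz A) * h⁻¹ = s := by
  rintro s ⟨h, -, rfl⟩ hs hst
  rcases std A P h with h1 | h1 | h1 | ⟨h0, -⟩
  · exact absurd h1 hst
  · obtain ⟨g, hg, e⟩ := adj_of A h h1
    exact ⟨g, Subgroup.mem_top _, comm_of_pm A (Or.inl hg), e⟩
  · have hs' : ((h * tt A * h⁻¹ : M.G) : W ≃ₗ[ℚ] W) M.d₀ = M.d₀ := hs
    rw [h1] at hs'
    exact absurd hs'.symm (ne_neg A A.d₀_mem)
  · exact absurd hs h0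

theorem eq_of_pow {G : Type*} [Group G] {s t : G} (hs : s * s = 1) (ht : t * t = 1) (h3 : (s * t) ^ 3 = 1)
    (h : s * t * s * t = t * (s * t * s)) : s = t := by
  have hs' : s⁻¹ = s := inv_eq_of_mul_eq_one_left hs
  have ht' : t⁻¹ = t := inv_eq_of_mul_eq_one_left ht
  have h4 : (s * t) * (s * t) = ((s * t) * (s * t))⁻¹ := by
    rw [mul_inv_rev, mul_inv_rev, hs', ht']
    calc s * t * (s * t) = s * t * s * t := by group
      _ = t * (s * t * s) := h
      _ = t * s * (t * s) := by group
  have h5 : (s * t) * (s * t) * ((s * t) * (s * t)) = 1 := by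
    nth_rewrite 1 [h4]
    exact inv_mul_cancel _
  have h6 : s * t = 1 := by
    calc s * t = (s * t) ^ 3 * (s * t) := by rw [h3, one_mul]
      _ = (s * t) * (s * t) * ((s * t) * (s * t)) := by simp only [pow_succ, pow_zero, one_mul, mul_assoc]
      _ = 1 := h5
  rw [eq_inv_of_mul_eq_one_left h6, ht']

theorem cls_sq {s : M.G} (hs : s ∈ cls (⊤ : Subgroup M.G) (tt A)) : s * s = 1 :=
  cl_sq (t_sq A) (cls_sub _ _ hs)

/-- F9 -/
theorem fourB (P : Pairs M) : ∀ s ∈ cls (⊤ : Subgroup M.G) (tt A), (s * tt A * s) * tt A = tt A * (s * tt A * s) →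
    s * tt A * s ≠ tt A → s * tt A * s ∈ MM M := by
  intro s hs hc hne
  have hss := cls_sq A hs
  have hcomm : s * tt A = tt A * s → False := fun h => hne (by rw [h, mul_assoc, hss, mul_one])
  obtain ⟨h, -, e⟩ := hs
  rcases std A P h with h1 | h1 | h1 | ⟨-, h1 | h1⟩
  · rw [e] at h1
    exact absurd (by rw [h1]) hcomm
  · obtain ⟨g, hg, e'⟩ := adj_of A h h1
    rw [e] at e'
    refine absurd ?_ hcomm
    have hgt := comm_of_pm A (g := g) (Or.inl hg)
    have hgt' : g⁻¹ * tt A = tt A * g⁻¹ := by
      calc g⁻¹ * tt A = g⁻¹ * (tt A * g) * g⁻¹ := by group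
        _ = g⁻¹ * (g * tt A) * g⁻¹ := by rw [hgt]
        _ = tt A * g⁻¹ := by group
    have hzt : zz A * tt A = tt A * zz A := (zc A _ (tP A)).symm
    rw [← e']
    calc g * (tt A * zz A) * g⁻¹ * tt A = g * (tt A * (zz A * (g⁻¹ * tt A))) := by group
      _ = g * (tt A * ((zz A * tt A) * g⁻¹)) := by rw [hgt']; group
      _ = (g * tt A) * (tt A * zz A) * g⁻¹ := by rw [hzt]; group
      _ = tt A * (g * (tt A * zz A) * g⁻¹) := by rw [hgt]; group
  · rw [e] at h1
    exact absurd (comm_of_pm A (Or.inr h1)) hcomm
  · rw [e] at h1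
    exact absurd (by rw [eq_of_pow hss (t_sq A) h1 hc]) hcomm
  · rw [e] at h1
    show ((s * tt A * s : M.G) : W ≃ₗ[ℚ] W) M.d₀ = M.d₀
    have h2 : ((s * tt A * s : M.G) : W ≃ₗ[ℚ] W) M.d₀ = (s : W ≃ₗ[ℚ] W) (M.t₀ ((s : W ≃ₗ[ℚ] W) M.d₀)) := rfl
    have h3 : (s : W ≃ₗ[ℚ] W) * (s : W ≃ₗ[ℚ] W) = 1 := congrArg Subtype.val hss
    rw [h2, h1, ← LinearEquiv.mul_apply, h3]
    rfl

section

variable (B : BTrans M)

include B

/-- F10 -/
theorem ord : ∀ s ∈ cls (⊤ : Subgroup M.G) (tt A), ∃ n : ℕ, 0 < n ∧ n ≤ 4 ∧ (s * tt A) ^ n = 1 := by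
  rintro s ⟨h, -, rfl⟩
  obtain ⟨j, c, hc, e⟩ := apply_mem A (M.G.inv_mem h.2) A.d₀_mem
  obtain ⟨g, hg, hgd, hp⟩ := B.order_le j
  obtain ⟨n, hn, hn', h1⟩ := hp c⁻¹ (M.C.inv_mem hc)
  rw [inv_inv] at h1
  refine ⟨n, hn, hn', Subtype.ext ?_⟩
  let k : W ≃ₗ[ℚ] W := (h : W ≃ₗ[ℚ] W) * c
  have hk : k ∈ M.G := M.G.mul_mem h.2 (A.C_le_G hc)
  have hkd : k (M.d j) = M.d₀ := by
    show (h : W ≃ₗ[ℚ] W) (c (M.d j)) = M.d₀
    rw [← e, apply_inv_self']
  have es : ((h * tt A * h⁻¹ : M.G) : W ≃ₗ[ℚ] W) = k * (c⁻¹ * M.t₀ * c) * k⁻¹ := by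
    show (h : W ≃ₗ[ℚ] W) * M.t₀ * (h : W ≃ₗ[ℚ] W)⁻¹ = (h : W ≃ₗ[ℚ] W) * c * (c⁻¹ * M.t₀ * c) * ((h : W ≃ₗ[ℚ] W) * c)⁻¹
    group
  have et : M.t₀ = k * (g * M.t₀ * g⁻¹) * k⁻¹ := by
    have := A.conj_t k g 1 (A.G_le hk) (A.G_le hg) M.Γ.one_mem (Or.inl (by rw [hgd, hkd]; rfl))
    rw [one_mul, inv_one, mul_one] at this
    exact this.symm
  have e3 : ((h * tt A * h⁻¹ * tt A : M.G) : W ≃ₗ[ℚ] W) = k * ((c⁻¹ * M.t₀ * c) * (g * M.t₀ * g⁻¹)) * k⁻¹ := by
    calc ((h * tt A * h⁻¹ * tt A : M.G) : W ≃ₗ[ℚ] W) =
      ((h * tt A * h⁻¹ : M.G) : W ≃ₗ[ℚ] W) * M.t₀ := rfl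
      _ = k * (c⁻¹ * M.t₀ * c) * k⁻¹ * M.t₀ := by rw [es]
      _ = k * (c⁻¹ * M.t₀ * c) * k⁻¹ * (k * (g * M.t₀ * g⁻¹) * k⁻¹) :=
        congrArg (fun x => k * (c⁻¹ * M.t₀ * c) * k⁻¹ * x) et
      _ = k * ((c⁻¹ * M.t₀ * c) * (g * M.t₀ * g⁻¹)) * k⁻¹ := by group
  rw [Subgroup.coe_pow, e3, conj_pow, h1, mul_one, mul_inv_cancel]
  rfl

/-- F6 -/
theorem zM (P : Pairs M) : ∀ h ∈ (⊤ : Subgroup M.G), (h * tt A * h⁻¹) * zz A = zz A * (h * tt A * h⁻¹) →
    h⁻¹ * zz A * h ∈ MM M := by
  intro h _ hc
  have h1 : (h⁻¹ * zz A * h) * tt A = tt A * (h⁻¹ * zz A * h) := by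
    calc (h⁻¹ * zz A * h) * tt A = h⁻¹ * (zz A * (h * tt A * h⁻¹)) * h := by group
      _ = h⁻¹ * ((h * tt A * h⁻¹) * zz A) * h := by rw [hc]
      _ = tt A * (h⁻¹ * zz A * h) := by group
  rcases pm_of_comm A B h1 with h2 | h2
  · exact h2
  · exfalso
    obtain ⟨j, c, hc, e⟩ := apply_mem A h.2 A.d₀_mem
    have h3 : M.z ((h : W ≃ₗ[ℚ] W) M.d₀) = - (h : W ≃ₗ[ℚ] W) M.d₀ := by
      have := congrArg (h : W ≃ₗ[ℚ] W) h2
      rw [map_neg] at this
      rw [← this]
      show M.z ((h : W ≃ₗ[ℚ] W) M.d₀) = (h : W ≃ₗ[ℚ] W) ((h : W ≃ₗ[ℚ] W)⁻¹ (M.z ((h : W ≃ₗ[ℚ] W) M.d₀)))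
      rw [apply_inv_self']
    have h4 : M.z (M.d j) = - M.d j := by
      have h5 : (c : W ≃ₗ[ℚ] W) (M.z (M.d j)) = M.z (c (M.d j)) := congrArg (fun f : W ≃ₗ[ℚ] W => f (M.d j)) (A.grp.z_comm c hc)
      rw [e] at h3
      rw [h3, ← map_neg] at h5
      exact c.injective h5
    obtain ⟨b, ⟨k, hk, rfl⟩, hb⟩ := P.nz j
    have h5 : M.z (k M.d₀) = k M.d₀ := by
      show M.z (k (M.u₀ + M.e₀)) = k (M.u₀ + M.e₀)
      rw [map_add, map_add, A.z_U _ (A.C_U k hk _ A.u₀_mem), A.z_E _ (A.C_E k hk _ A.e₀_mem)]
    have h6 := A.rep.C_isom M.z A.grp.z_mem_C (k M.d₀) (M.d j)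
    rw [h5, h4, map_neg] at h6
    apply hb
    linarith only [h6]

/-- F5 -/
theorem odd (P : Pairs M) : Odd (Nat.card {s : M.G // s ∈ cls (⊤ : Subgroup M.G) (tt A) ∧ s ∈ MM M ∧ s ≠ tt A}) := by
  classical
  have hch : ∀ b : M.R, ∃ h : M.G, (b : W) = (h : W ≃ₗ[ℚ] W) M.d₀ := fun b => by
    obtain ⟨g, hg, e⟩ := (A.D_eq b).1 b.2.1
    exact ⟨⟨g, hg⟩, e⟩
  choose f hf using hch
  have hzd : M.z M.d₀ = M.d₀ := by
    show M.z (M.u₀ + M.e₀) = M.u₀ + M.e₀
    rw [map_add, A.z_U _ A.u₀_mem, A.z_E _ A.e₀_mem]
  have key : ∀ b : M.R, f b * tt A * (f b)⁻¹ ∈ cls (⊤ : Subgroup M.G) (tt A) ∧ f b * tt A * (f b)⁻¹ ∈ MM M ∧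
      f b * tt A * (f b)⁻¹ ≠ tt A := by
    intro b
    refine ⟨⟨f b, Subgroup.mem_top _, rfl⟩, ?_, ?_⟩
    · obtain ⟨g, hg, e⟩ := adj_of A (f b) (Or.inr (by rw [← hf]; exact b.2.2))
      have hgM : g ∈ MM M := hg
      rw [← e]
      exact (MM M).mul_mem ((MM M).mul_mem hgM ((MM M).mul_mem (tM A) hzd)) ((MM M).inv_mem hgM)
    · intro h
      have h1 := axis_of A B (g := f b) (h := 1) (by rw [h]; group)
      have h2 : M.F ((f b : W ≃ₗ[ℚ] W) M.d₀) M.d₀ = -1 := by rw [← hf]; exact b.2.2
      rcases h1 with h1 | h1
      · have h3 : ((f b : W ≃ₗ[ℚ] W)) M.d₀ = M.d₀ := h1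
        rw [h3, A.F_d₀] at h2
        norm_num at h2
      · have h3 : ((f b : W ≃ₗ[ℚ] W)) M.d₀ = - M.d₀ := h1
        rw [h3, map_neg, LinearMap.neg_apply, A.F_d₀] at h2
        norm_num at h2
  have hcard := Nat.card_congr (Equiv.ofBijective (fun b : M.R => (⟨f b * tt A * (f b)⁻¹, key b⟩ :
    {s : M.G // s ∈ cls (⊤ : Subgroup M.G) (tt A) ∧ s ∈ MM M ∧ s ≠ tt A})) ⟨?_, ?_⟩)
  · rw [← hcard, A.card_R]
    decide
  · intro b b' h
    have h1 := axis_of A B (congrArg Subtype.val h)
    rw [← hf, ← hf] at h1
    rcases h1 with h1 | h1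
    · exact Subtype.ext h1
    · exfalso
      have h2 := b.2.2
      rw [h1, map_neg, LinearMap.neg_apply, b'.2.2] at h2
      norm_num at h2
  · rintro ⟨s, ⟨h, -, rfl⟩, hs, hst⟩
    have hF : M.F ((h : W ≃ₗ[ℚ] W) M.d₀) M.d₀ = 1 ∨ M.F ((h : W ≃ₗ[ℚ] W) M.d₀) M.d₀ = -1 := by
      rcases std A P h with h1 | h1 | h1 | ⟨h0, -⟩
      · exact absurd h1 hst
      · exact h1
      · have hs' : ((h * tt A * h⁻¹ : M.G) : W ≃ₗ[ℚ] W) M.d₀ = M.d₀ := hs
        rw [h1] at hs'
        exact absurd hs'.symm (ne_neg A A.d₀_mem)
      · exact absurd hs h0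
    rcases hF with hF | hF
    · refine ⟨⟨- (h : W ≃ₗ[ℚ] W) M.d₀, A.neg_D _ (apply_mem A h.2 A.d₀_mem), by
        rw [map_neg, LinearMap.neg_apply, hF]⟩, Subtype.ext ?_⟩
      refine conj_axis A (Or.inr ?_)
      rw [← hf]
    · refine ⟨⟨(h : W ≃ₗ[ℚ] W) M.d₀, apply_mem A h.2 A.d₀_mem, hF⟩, Subtype.ext ?_⟩
      refine conj_axis A (Or.inl ?_)
      rw [← hf]

end

include A in
/-- the transpositions of `Q` commuting with `t₀` -/
theorem comm_of_neg_one {k : W ≃ₗ[ℚ] W} (hk : k ∈ M.C) (h : M.F (k M.u₀) M.u₀ = -1) :
    (k * M.t₀ * k⁻¹) * M.t₀ = M.t₀ * (k * M.t₀ * k⁻¹) := by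
  have hne : ¬ (k M.u₀ = M.u₀ ∨ k M.u₀ = - M.u₀) := by
    rintro (h1 | h1)
    · rw [h1, A.rep.u₀_norm] at h; norm_num at h
    · rw [h1, map_neg, LinearMap.neg_apply, A.rep.u₀_norm] at h; norm_num at h
  have he : ¬ (k M.e₀ = M.e₀ ∨ k M.e₀ = - M.e₀) := fun h1 => hne (A.rep.stab_e₀ k hk h1)
  rw [not_or] at he
  have hF : M.F (k M.d₀) M.d₀ = -1 := by
    show M.F (k (M.u₀ + M.e₀)) (M.u₀ + M.e₀) = -1
    rw [map_add, map_add, map_add, LinearMap.add_apply, LinearMap.add_apply, h, A.F_e k hk he.1 he.2,
      A.U_E_orth _ (A.C_U k hk _ A.u₀_mem) _ A.e₀_mem, A.E_U_orth _ (A.C_E k hk _ A.e₀_mem) _ A.u₀_mem]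
    norm_num
  have h1 := A.orb.t_d M.j₀ k hk (by rw [← A.d₀_eq]; exact hF)
  rw [← A.d₀_eq] at h1
  exact A.t₀_comm _ (A.G_le (M.G.mul_mem (M.G.mul_mem (A.C_le_G hk) (A.C_le_G A.t₀_C)) (M.G.inv_mem (A.C_le_G hk))))
    (Or.inl h1)

/-- F7 -/
theorem perp (B : BTrans M) : ∀ r ∈ (⊤ : Subgroup M.G), r * zz A = zz A * r → r * tt A = tt A * r →
    (∀ d ∈ cls (⊤ : Subgroup M.G) (tt A), d ∈ PP M → d * tt A = tt A * d → r * d = d * r) → r ∈ PP M := by
  intro r _ hz ht hd
  have hrC := mem_C_of A hz
  -- sign of `r` on `u₀`
  have hu0 : ∃ ε : ℚ, (ε = 1 ∨ ε = -1) ∧ (r : W ≃ₗ[ℚ] W) M.u₀ = ε • M.u₀ := by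
    have hu := A.C_U r hrC _ A.u₀_mem
    have he := A.C_E r hrC _ A.e₀_mem
    rcases pm_of_comm A B ht with h | h
    · refine ⟨1, Or.inl rfl, ?_⟩
      unfold BData.d₀ at h
      rw [map_add] at h
      rw [one_smul]
      exact (A.parts hu A.u₀_mem he A.e₀_mem h).1
    · refine ⟨-1, Or.inr rfl, ?_⟩
      unfold BData.d₀ at h
      rw [map_add, neg_add] at h
      rw [neg_smul, one_smul]
      exact (A.parts hu (M.U.neg_mem A.u₀_mem) he (M.E.neg_mem A.e₀_mem) h).1
  obtain ⟨ε, hε, h0⟩ := hu0
  -- `r` acts by `ε` on the generators of `U`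
  have h1 : ∀ k ∈ M.C, M.F (k M.u₀) M.u₀ = -1 → (r : W ≃ₗ[ℚ] W) (k M.u₀) = ε • k M.u₀ := by
    intro k hk hF
    have hkG := A.C_le_G hk
    let d : M.G := ⟨k, hkG⟩ * tt A * ⟨k, hkG⟩⁻¹
    have hrd : r * d = d * r := hd d ⟨⟨k, hkG⟩, Subgroup.mem_top _, rfl⟩
      (mem_PP.2 (A.grp.Q_normal k hk _ A.rep.t₀_mem)) (Subtype.ext (comm_of_neg_one A hk hF))
    have hrk : (⟨k, hkG⟩⁻¹ * r * ⟨k, hkG⟩ : M.G) * tt A = tt A * (⟨k, hkG⟩⁻¹ * r * ⟨k, hkG⟩) := by
      calc (⟨k, hkG⟩⁻¹ * r * ⟨k, hkG⟩ : M.G) * tt A = ⟨k, hkG⟩⁻¹ * (r * d) * ⟨k, hkG⟩ := by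
            simp only [d]; group
        _ = ⟨k, hkG⟩⁻¹ * (d * r) * ⟨k, hkG⟩ := by rw [hrd]
        _ = tt A * (⟨k, hkG⟩⁻¹ * r * ⟨k, hkG⟩) := by simp only [d]; group
    have hsgn : (r : W ≃ₗ[ℚ] W) (k M.u₀) = k M.u₀ ∨ (r : W ≃ₗ[ℚ] W) (k M.u₀) = - k M.u₀ := by
      have hmem : (r : W ≃ₗ[ℚ] W) * k ∈ M.C := M.C.mul_mem hrC hk
      have hu := A.C_U _ hmem _ A.u₀_mem
      have he := A.C_E _ hmem _ A.e₀_mem
      have hu' := A.C_U _ hk _ A.u₀_mem
      have he' := A.C_E _ hk _ A.e₀_mem
      have hk1 : ∀ x, k (k⁻¹ ((r : W ≃ₗ[ℚ] W) (k x))) = (r : W ≃ₗ[ℚ] W) (k x) := fun x => apply_inv_self' _ _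
      rcases pm_of_comm A B hrk with h | h
      · left
        have h2 := congrArg k h
        have h3 : (r : W ≃ₗ[ℚ] W) (k M.d₀) = k M.d₀ := by rw [← hk1]; exact h2
        unfold BData.d₀ at h3
        rw [map_add, map_add] at h3
        exact (A.parts hu hu' he he' h3).1
      · right
        have h2 := congrArg k h
        rw [map_neg] at h2
        have h3 : (r : W ≃ₗ[ℚ] W) (k M.d₀) = - k M.d₀ := by rw [← hk1]; exact h2
        unfold BData.d₀ at h3
        rw [map_add, map_add, neg_add] at h3
        exact (A.parts hu (M.U.neg_mem hu') he (M.E.neg_mem he') h3).1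
    have hFr := A.rep.C_isom r hrC (k M.u₀) M.u₀
    rw [h0, hF] at hFr
    rcases hsgn with h | h
    · rw [h, map_smul, hF, smul_eq_mul] at hFr
      have : ε = 1 := by linarith
      rw [h, this, one_smul]
    · rw [h, map_neg, LinearMap.neg_apply, map_smul, hF, smul_eq_mul] at hFr
      have : ε = -1 := by linarith
      rw [h, this, neg_smul, one_smul]
  have h2 : ∀ g ∈ M.C, (r : W ≃ₗ[ℚ] W) (g M.u₀) = ε • g M.u₀ := by
    intro g hg
    have h3 : ∀ x ∈ Submodule.span ℚ {x | ∃ h ∈ M.C, M.F (h M.u₀) M.u₀ = -1 ∧ x = h M.u₀},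
        (r : W ≃ₗ[ℚ] W) x = ε • x := by
      intro x hx
      induction hx using Submodule.span_induction with
      | mem x hx =>
        obtain ⟨k, hk, hF, rfl⟩ := hx
        exact h1 k hk hF
      | zero => rw [map_zero, smul_zero]
      | add x y _ _ hx hy => rw [map_add, hx, hy, smul_add]
      | smul a x _ hx => rw [map_smul, hx, smul_comm]
    exact h3 _ (A.rep.U_span g hg)
  rcases hε with rfl | rfl
  · exact mem_PP.2 (A.rigid₁ r (A.G_le r.2) (congrArg Subtype.val hz) fun g hg => by rw [h2 g hg, one_smul])
  · exfalso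
    have h3 := A.rigid₁ (negE W * r) (M.Γ.mul_mem A.neg_mem (A.G_le r.2)) (by
        have hz' : (r : W ≃ₗ[ℚ] W) * M.z = M.z * r := congrArg Subtype.val hz
        rw [mul_assoc, hz', ← mul_assoc, ← A.negE_comm, mul_assoc]) fun g hg => by
      show - (r : W ≃ₗ[ℚ] W) (g M.u₀) = g M.u₀
      rw [h2 g hg, neg_smul, one_smul, neg_neg]
    apply A.neg_notMem
    have h4 := M.G.mul_mem (A.C_le_G (A.grp.Q_le h3)) (M.G.inv_mem r.2)
    rwa [mul_inv_cancel_right] at h4

end Cfsg.Agent.BabyU.ClosModel

private theorem dce_7253832134d1 : _root_.True := by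
  try have : _root_.True := by simp only [_root_.Cfsg.Agent.BabyU.ClosModel.zz.congr_simp]
  try have : _root_.True := by simp only [_root_.Cfsg.Agent.BabyU.ClosModel.tt.congr_simp]
  exact _root_.True.intro
end
end
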