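import Cfsg.Agent.BabyM.AbsTrans
import Cfsg.Agent.BabyM.AbsOrder
import Cfsg.Agent.BabyM.GroupInst
import Cfsg.Agent.Co2Type.FactsClass
import Cfsg.Agent.BM.StageWRel_m3
import Cfsg.Agent.BabyM.TransInv
import Cfsg.Agent.BabyM.TZeroE_m3
import Cfsg.Agent.BabyM.KQ
import Cfsg.Agent.BabyM.Instance
import Cfsg.Agent.BabyM.TransFields
import Cfsg.Agent.BabyU.ClosLane_m3
import Cfsg.Agent.BM.KHAll
import Cfsg.Agent.BabyU.FusFinal_m3
import Cfsg.Agent.BMx.Low
import Cfsg.Agent.FastGrp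
import Cfsg.Agent.Prune
set_option linter.all false
prune_inst 0x7ffefffbaef8bddfffff7e7ff7bfcffdfff93fffe6dfe9fbffe9ebff7bff7f6d8fe5fbafefe792fdded6e21c10f87b53ffffffffe26bf87ffffd1ff45ffbffcfffffbd2c71febcbe1ffe6ffff3f0ffae7f3fffffffffffffffffffffffffffefffbfffffffff
open scoped Cfsg.Agent.FastGrp

-- part: BabyU/F8Base
section
/-!
# F8 for the model of the Baby Monster (1): the two alternatives and the odd lemma

`Good M u` : the involution `u` fixes a signed axis, or it is the product of two commuting transpositions.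

`odd` : if `u ∈ C` fixes the `23`-part of an odd number of lanes whose transpositions have product `1` or `z`,
then `u` fixes one of the axes.
-/

set_option autoImplicit false

namespace Cfsg.Agent.BabyU.F8Base

open Cfsg.Agent.BabyM.Model

variable {W : Type} [AddCommGroup W] [Module ℚ W]

/-- The two alternatives of F8. -/
def Good (M : BData W) (u : W ≃ₗ[ℚ] W) : Prop :=
  (∃ g ∈ M.G, (g⁻¹ * u * g) M.d₀ = M.d₀) ∨
    ∃ g ∈ M.G, ∃ g' ∈ M.G, u * (g * M.t₀ * g⁻¹) = (g * M.t₀ * g⁻¹) * u ∧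
      u * (g * M.t₀ * g⁻¹) = g' * M.t₀ * g'⁻¹

variable {M : BData W}

theorem inv_apply_self' (g : W ≃ₗ[ℚ] W) (x : W) : g⁻¹ (g x) = x := by
  rw [← LinearEquiv.mul_apply, inv_mul_cancel]; rfl

theorem apply_inv_self' (g : W ≃ₗ[ℚ] W) (x : W) : g (g⁻¹ x) = x := by
  rw [← LinearEquiv.mul_apply, mul_inv_cancel]; rfl

theorem Good.conj {u g : W ≃ₗ[ℚ] W} (hg : g ∈ M.G) (h : Good M u) : Good M (g * u * g⁻¹) := by
  rcases h with ⟨k, hk, h⟩ | ⟨k, hk, k', hk', h1, h2⟩
  · refine Or.inl ⟨g * k, M.G.mul_mem hg hk, ?_⟩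
    rw [show (g * k)⁻¹ * (g * u * g⁻¹) * (g * k) = k⁻¹ * u * k by group]
    exact h
  · refine Or.inr ⟨g * k, M.G.mul_mem hg hk, g * k', M.G.mul_mem hg hk', ?_, ?_⟩
    · rw [show (g * u * g⁻¹) * (g * k * M.t₀ * (g * k)⁻¹) = g * (u * (k * M.t₀ * k⁻¹)) * g⁻¹ by group, h1]
      group
    · rw [show (g * u * g⁻¹) * (g * k * M.t₀ * (g * k)⁻¹) = g * (u * (k * M.t₀ * k⁻¹)) * g⁻¹ by group, h2]
      group

theorem Good.of_conj {u g : W ≃ₗ[ℚ] W} (hg : g ∈ M.G) (h : Good M (g * u * g⁻¹)) : Good M u := by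
  have h1 := h.conj (M.G.inv_mem hg)
  rwa [show g⁻¹ * (g * u * g⁻¹) * g⁻¹⁻¹ = u by group] at h1

theorem good_of_fix {u g : W ≃ₗ[ℚ] W} (hg : g ∈ M.G) (h : u (g M.d₀) = g M.d₀) : Good M u := by
  refine Or.inl ⟨g, hg, ?_⟩
  rw [LinearEquiv.mul_apply, LinearEquiv.mul_apply, h, inv_apply_self']

variable {K₀ : Type} [Group K₀] (A : BAll M K₀)
include A

/-- An element of `C` with `u₀ ↦ u₀`, `e₀ ↦ - e₀` maps `t₀` to `t₀ z`. -/
theorem flip {k : W ≃ₗ[ℚ] W} (hk : k ∈ M.C) (h1 : k M.u₀ = M.u₀) (h2 : k M.e₀ = - M.e₀) :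
    k * M.t₀ * k⁻¹ = M.t₀ * M.z := by
  obtain ⟨q, hq, hq1, hq2⟩ := A.exists_q
  have hqC := A.grp.Q_le hq
  have h3 := A.rep.t₀_comm (q * k) (M.C.mul_mem hqC hk) (by
    left
    rw [LinearEquiv.mul_apply, BData.d₀, map_add, map_add, h1, h2, map_neg, hq1, neg_neg,
      A.rep.Q_u₀ q hq])
  have h4 : q * (k * M.t₀ * k⁻¹) = q * (M.t₀ * M.z) := by
    have e : q * (k * M.t₀ * k⁻¹) = q * k * M.t₀ * k⁻¹ := by group
    rw [e, h3, show M.t₀ * (q * k) * k⁻¹ = M.t₀ * q by group, ← mul_assoc, hq2, mul_assoc (M.t₀ * q),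
      A.grp.z_sq, mul_one]
  exact mul_left_cancel h4

/-- An element `u ∈ C` fixing `g u₀`, `g ∈ C`, fixes the axis `g d₀` or maps `g t₀ g⁻¹` to `g t₀ g⁻¹ z`. -/
theorem fix_or {u g : W ≃ₗ[ℚ] W} (hu : u ∈ M.C) (hg : g ∈ M.C) (h : u (g M.u₀) = g M.u₀) :
    u (g M.d₀) = g M.d₀ ∨ u * (g * M.t₀ * g⁻¹) * u⁻¹ = g * M.t₀ * g⁻¹ * M.z := by
  have hk : g⁻¹ * u * g ∈ M.C := M.C.mul_mem (M.C.mul_mem (M.C.inv_mem hg) hu) hg
  have h1 : (g⁻¹ * u * g) M.u₀ = M.u₀ := by
    rw [LinearEquiv.mul_apply, LinearEquiv.mul_apply, h, inv_apply_self']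
  rcases A.rep.stab_u₀ _ hk (Or.inl h1) with h2 | h2
  · left
    have h3 : (g⁻¹ * u * g) M.d₀ = M.d₀ := by rw [BData.d₀, map_add, h1, h2]
    have h4 := congrArg (fun x => g x) h3
    simp only [LinearEquiv.mul_apply, apply_inv_self'] at h4
    exact h4
  · right
    have h3 := flip A hk h1 h2
    have e : u * (g * M.t₀ * g⁻¹) * u⁻¹ = g * ((g⁻¹ * u * g) * M.t₀ * (g⁻¹ * u * g)⁻¹) * g⁻¹ := by group
    have hz := A.grp.z_comm _ (M.C.inv_mem hg)
    rw [e, h3, mul_assoc, mul_assoc, ← hz]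
    group

/-- The odd lemma. -/
theorem odd {u : W ≃ₗ[ℚ] W} (hu : u ∈ M.C) (L : List (W ≃ₗ[ℚ] W)) (hL : ∀ g ∈ L, g ∈ M.C)
    (hf : ∀ g ∈ L, u (g M.u₀) = g M.u₀) (hodd : Odd L.length)
    (hp : (L.map fun g => g * M.t₀ * g⁻¹).prod = 1 ∨ (L.map fun g => g * M.t₀ * g⁻¹).prod = M.z) :
    ∃ g ∈ L, u (g M.d₀) = g M.d₀ := by
  by_contra hc
  have hflip : ∀ g ∈ L, u * (g * M.t₀ * g⁻¹) * u⁻¹ = g * M.t₀ * g⁻¹ * M.z := fun g hg =>
    (fix_or A hu (hL g hg) (hf g hg)).resolve_left fun h => hc ⟨g, hg, h⟩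
  have key : ∀ L : List (W ≃ₗ[ℚ] W), (∀ g ∈ L, g ∈ M.C) →
      (∀ g ∈ L, u * (g * M.t₀ * g⁻¹) * u⁻¹ = g * M.t₀ * g⁻¹ * M.z) →
      u * (L.map fun g => g * M.t₀ * g⁻¹).prod * u⁻¹ = (L.map fun g => g * M.t₀ * g⁻¹).prod * M.z ^ L.length := by
    intro L
    induction L with
    | nil => intro _ _; simp only [_root_.List.map_nil, _root_.List.prod_nil, _root_.mul_one, _root_.mul_inv_cancel, _root_.List.length_nil, _root_.pow_zero]
    | cons a L ih =>
      intro h1 h2
      have h3 := ih (fun g hg => h1 g (List.mem_cons_of_mem _ hg)) (fun g hg => h2 g (List.mem_cons_of_mem _ hg))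
      have h4 := h2 a List.mem_cons_self
      rw [List.map_cons, List.prod_cons, List.length_cons, pow_succ]
      set P := (L.map fun g => g * M.t₀ * g⁻¹).prod with hP
      have hPC : P ∈ M.C := by
        refine Subgroup.list_prod_mem _ ?_
        intro x hx
        obtain ⟨g, hg, rfl⟩ := List.mem_map.1 hx
        have hgC := h1 g (List.mem_cons_of_mem _ hg)
        exact M.C.mul_mem (M.C.mul_mem hgC (A.t₀_C)) (M.C.inv_mem hgC)
      have e : u * (a * M.t₀ * a⁻¹ * P) * u⁻¹ = (u * (a * M.t₀ * a⁻¹) * u⁻¹) * (u * P * u⁻¹) := by group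
      have hz : M.z * P = P * M.z := (A.grp.z_comm _ hPC).symm
      rw [e, h4, h3, mul_assoc (a * M.t₀ * a⁻¹), ← mul_assoc M.z, hz]
      simp only [mul_assoc]
      rw [← pow_succ', ← pow_succ]
  have h1 := key L hL hflip
  have hz : M.z ^ L.length = M.z := by
    obtain ⟨k, hk⟩ := hodd
    rw [hk, pow_add, pow_mul, pow_two, A.grp.z_sq, one_pow, one_mul, pow_one]
  rw [hz] at h1
  have hcom : u * M.z = M.z * u := A.grp.z_comm u hu
  have h2 : u * (L.map fun g => g * M.t₀ * g⁻¹).prod * u⁻¹ = (L.map fun g => g * M.t₀ * g⁻¹).prod := by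
    rcases hp with h | h
    · rw [h]; group
    · rw [h, hcom]; group
  rw [h2] at h1
  exact A.grp.z_ne (by simpa only [_root_.left_eq_mul] using h1)

/-- The odd lemma, conclusion `Good`. -/
theorem good_odd {u : W ≃ₗ[ℚ] W} (hu : u ∈ M.C) (L : List (W ≃ₗ[ℚ] W)) (hL : ∀ g ∈ L, g ∈ M.C)
    (hf : ∀ g ∈ L, u (g M.u₀) = g M.u₀) (hodd : Odd L.length)
    (hp : (L.map fun g => g * M.t₀ * g⁻¹).prod = 1 ∨ (L.map fun g => g * M.t₀ * g⁻¹).prod = M.z) : Good M u := by
  obtain ⟨g, hg, h⟩ := odd A hu L hL hf hodd hp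
  exact good_of_fix (A.C_le_G (hL g hg)) h

end Cfsg.Agent.BabyU.F8Base
end

-- part: BabyU/F8Index
section
/-!
# F8 for the model of the Baby Monster (0): an involution of `G` is conjugate into `C`
-/

set_option autoImplicit false

namespace Cfsg.Agent.BabyU.F8Index

open Cfsg.Agent.BabyM.Model

variable {W : Type} [AddCommGroup W] [Module ℚ W] {M : BData W} {K₀ : Type} [Group K₀]

/-- In a finite group an involution is conjugate into a subgroup of odd index. -/
theorem exists_conj_mem {Γ : Type} [Group Γ] [Finite Γ] (H : Subgroup Γ) (hH : Odd H.index) {x : Γ} (h : x * x = 1) :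
    ∃ g : Γ, g * x * g⁻¹ ∈ H := by
  have hp : IsPGroup 2 (Subgroup.zpowers x) := by
    rintro ⟨y, hy⟩
    refine ⟨1, ?_⟩
    obtain ⟨m, rfl⟩ := Subgroup.mem_zpowers_iff.1 hy
    apply Subtype.ext
    show (x ^ m) ^ (2 ^ 1) = 1
    rw [pow_one, ← zpow_natCast, ← zpow_mul, mul_comm, zpow_mul]
    have : x ^ ((2 : ℕ) : ℤ) = 1 := by rw [zpow_natCast, pow_two, h]
    rw [this, one_zpow]
  have : Fact (Nat.Prime 2) := ⟨Nat.prime_two⟩
  have h1 := hp.card_modEq_card_fixedPoints (Γ ⧸ H)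
  have h2 : (Nat.card (Γ ⧸ H)) % 2 = 1 := Nat.odd_iff.1 hH
  have h3 : Nat.card (MulAction.fixedPoints (Subgroup.zpowers x) (Γ ⧸ H)) ≠ 0 := by
    intro h4
    rw [h4] at h1
    have : Nat.card (Γ ⧸ H) % 2 = 0 := h1
    omega
  obtain ⟨hne, -⟩ := Nat.card_ne_zero.1 h3
  obtain ⟨⟨c, hc⟩⟩ := hne
  obtain ⟨g, rfl⟩ := QuotientGroup.mk_surjective c
  refine ⟨g⁻¹, ?_⟩
  have h5 := hc ⟨x, Subgroup.mem_zpowers x⟩
  have h6 : ((x * g : Γ) : Γ ⧸ H) = (g : Γ ⧸ H) := h5
  have h7 := QuotientGroup.eq.1 h6.symm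
  rw [inv_inv, mul_assoc]
  exact h7

/-- An involution of `G` is conjugate into `C`. -/
theorem exists_conj_C (A : BAll M K₀) {x : W ≃ₗ[ℚ] W} (hx : x ∈ M.G) (h : x * x = 1) :
    ∃ g ∈ M.G, g * x * g⁻¹ ∈ M.C := by
  have := A.finite_G
  have hodd : Odd (M.C.subgroupOf M.G).index := by
    have h1 := (M.C.subgroupOf M.G).card_mul_index
    have h2 : Nat.card (M.C.subgroupOf M.G) = Nat.card M.C := by
      refine Nat.card_congr ⟨fun x => ⟨x.1.1, x.2⟩, fun x => ⟨⟨x.1, A.C_le_G x.2⟩, x.2⟩,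
        fun x => rfl, fun x => rfl⟩
    rw [h2, A.grp.card_C, A.card_G] at h1
    have h3 : (M.C.subgroupOf M.G).index = 11707448673375 := by omega
    rw [h3]
    decide
  obtain ⟨g, hg⟩ := exists_conj_mem (M.C.subgroupOf M.G) hodd (x := ⟨x, hx⟩) (Subtype.ext h)
  exact ⟨g, g.2, hg⟩

end Cfsg.Agent.BabyU.F8Index
end

-- part: BabyU/F8Class
section
/-!
# F8 for the model of the Baby Monster (2): the involutions of `C`

An involution of `C` is in `Q` or conjugate in `C` to `Y q`, `q ∈ Q`, with `Y` one of three products of letters `y_k`.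
-/

set_option autoImplicit false

namespace Cfsg.Agent.BabyU.F8Class

open Cfsg Cfsg.Agent.SporadicA Cfsg.Agent.SporadicA.GolayBase
open Cfsg.Agent.SporadicA.GolayPerm Cfsg.Agent.SporadicStructure.M24El
open Cfsg.Agent.Co2Type.Mono Cfsg.Agent.Co2Type.TData Cfsg.Agent.Co2Type.FactsClass
open Cfsg.Agent.BabyM.Co2GenStd Cfsg.Agent.BabyM.ThetaInst Cfsg.Agent.BabyM.Conc
open Cfsg.Agent.SporadicA.Co0Mono (signCo0 signCo0_smul signMap_apply)

/-! ### Sign changes -/

theorem mo_idP_smul {m : ℕ} (hm : isCode m = true) (v : leechLattice) (i : GolayPt) :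
    ((mo m idP • v : leechLattice) : GolayPt → ℤ) i =
      if m.testBit (idx i) then - (v : GolayPt → ℤ) i else (v : GolayPt → ℤ) i := by
  unfold mo
  rw [el_idP, map_one, mul_one, signCo0_smul, signMap_apply, coe_cd hm, word_apply]
  split_ifs
  · simp [Co0Mono.sgn_one]
  · simp [Co0Mono.sgn_zero]

theorem sgn_eq_mo {m : ℕ} (hm : isCode m = true) (h : fin m ∈ Cfsg.Agent.Leech.Code.Words) :
    Cfsg.Agent.Leech.Co0Elts.sgn (fin m) h = mo m idP := by
  apply Cfsg.Agent.Leech.FrameAux.co0_ext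
  intro v
  funext i
  rw [mo_idP_smul hm, Cfsg.Agent.Leech.Co0Elts.sgn_coe, Cfsg.Agent.Leech.Co0Elts.sgnMap_apply]
  simp only [mem_fin]

theorem mo_comm {m n : ℕ} (hm : isCode m = true) (hn : isCode n = true) :
    mo m idP * mo n idP = mo n idP * mo m idP := by
  rw [mo_mul_mo hm hn, mo_mul_mo hn hm, Nat.xor_comm]

/-! ### The classes -/

/-- an octad containing the point of index `0` but not the one of index `23` -/
abbrev mε : ℕ := 1302533

/-- the octad of `y₁` -/
abbrev mO : ℕ := 10558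

/-- the 16-set of `y₁y₂y₅y₆y₉` -/
abbrev mH : ℕ := 2523006

/-- the dodecad of `y₂y₃` -/
abbrev mD : ℕ := 57274

theorem code_ε : isCode mε = true := by decide +kernel

theorem inE_O : inE mO = true := by decide +kernel

theorem inE_H : inE mH = true := by decide +kernel

theorem inE_D : inE mD = true := by decide +kernel

theorem pc_O : popcount mO = 8 := by decide +kernel

theorem pc_H : popcount mH = 16 := by decide +kernel

theorem pc_D : popcount mD = 12 := by decide +kernel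

theorem conj_O : IsConj (mo2 my idP) (mo2 mO idP) :=
  conj_y_of_tr (E_sq inE_O) (by rw [tr_E inE_O, pc_O]; norm_num)

theorem conj_H : IsConj (mo2 mz idP) (mo2 mH idP) :=
  conj_z_of_tr (E_sq inE_H) (by rw [tr_E inE_H, pc_H]; norm_num)

theorem conj_D : IsConj (mo2 mv idP) (mo2 mD idP) :=
  conj_v_of_tr (E_sq inE_D) (by rw [tr_E inE_D, pc_D]; norm_num)

/-- The three classes of involutions of `Spor.Co2`. -/
theorem classes₂ {x : Spor.Co2} (h : x * x = 1) (h1 : x ≠ 1) :
    IsConj x (mo2 mO idP) ∨ IsConj x (mo2 mH idP) ∨ IsConj x (mo2 mD idP) := by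
  rcases classes h h1 with h2 | h2 | h2
  · exact Or.inr (Or.inl (h2.symm.trans conj_H))
  · exact Or.inl (h2.symm.trans conj_O)
  · exact Or.inr (Or.inr (h2.symm.trans conj_D))

theorem ε_l₀ : mo mε idP • l₀ = Spor.leechU := by
  apply Subtype.ext
  funext i
  rw [mo_idP_smul code_ε, leechU_apply]
  by_cases h0 : i = none
  · subst h0
    rw [Cfsg.Agent.Leech.TransPair.v0_left]
    rfl
  · by_cases h1 : i = some 0
    · subst h1
      rw [Cfsg.Agent.Leech.TransPair.v0_right]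
      rfl
    · have h2 : ((l₀ : leechLattice) : GolayPt → ℤ) i = 0 := Cfsg.Agent.Leech.TransPair.v0_other _ h0 h1
      have h3 : ¬ (idx i = 0 ∨ idx i = 23) := by
        rintro (h | h)
        · exact h1 (idx_injective (h.trans idx_zero.symm))
        · exact h0 (idx_injective (h.trans idx_none.symm))
      rw [h2, if_neg h3]
      split_ifs <;> rfl

theorem ε_inv_U : (mo mε idP)⁻¹ • Spor.leechU = l₀ := by
  rw [← ε_l₀, inv_smul_smul]

/-- The three classes of involutions of the stabiliser of `l₀`. -/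
theorem classes₀ {c : Co0} (hc : c • l₀ = l₀) (h2 : c * c = 1) (h1 : c ≠ 1) :
    ∃ g : Co0, g • l₀ = l₀ ∧ (g * c * g⁻¹ = mo mO idP ∨ g * c * g⁻¹ = mo mH idP ∨ g * c * g⁻¹ = mo mD idP) := by
  set ε := mo mε idP with hε
  have hU : (ε * c * ε⁻¹) • Spor.leechU = Spor.leechU := by
    rw [mul_smul, mul_smul, ε_inv_U, hc, ε_l₀]
  obtain ⟨x, hx⟩ := exists_toCo0 hU
  have hx2 : x * x = 1 := by
    apply toCo0_injective
    rw [map_mul, hx, map_one, show ε * c * ε⁻¹ * (ε * c * ε⁻¹) = ε * (c * c) * ε⁻¹ by group, h2]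
    group
  have hx1 : x ≠ 1 := by
    rintro rfl
    rw [map_one] at hx
    apply h1
    have : c = ε⁻¹ * (ε * c * ε⁻¹) * ε := by group
    rw [this, ← hx]
    group
  have key : ∀ m : ℕ, inE m = true → IsConj x (mo2 m idP) → ∃ g : Co0, g • l₀ = l₀ ∧ g * c * g⁻¹ = mo m idP := by
    intro m hm h
    obtain ⟨y, hy⟩ := isConj_iff.1 h
    refine ⟨ε⁻¹ * toCo0 y * ε, ?_, ?_⟩
    · rw [mul_smul, mul_smul, ε_l₀, toCo0_smul, ε_inv_U]
    · have h3 : toCo0 y * (ε * c * ε⁻¹) * (toCo0 y)⁻¹ = mo m idP := by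
        rw [← hx, ← map_inv, ← map_mul, ← map_mul, hy, toCo0_mo2 hm okP_idP]
      have h4 : ε⁻¹ * toCo0 y * ε * c * (ε⁻¹ * toCo0 y * ε)⁻¹ =
          ε⁻¹ * (toCo0 y * (ε * c * ε⁻¹) * (toCo0 y)⁻¹) * ε := by group
      rw [h4, h3, mul_assoc, hε, mo_comm (isCode_of_inE hm) code_ε, ← mul_assoc, inv_mul_cancel, one_mul]
  rcases classes₂ hx2 hx1 with h | h | h
  · obtain ⟨g, hg, h3⟩ := key _ inE_O h
    exact ⟨g, hg, Or.inl h3⟩
  · obtain ⟨g, hg, h3⟩ := key _ inE_H h
    exact ⟨g, hg, Or.inr (Or.inl h3)⟩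
  · obtain ⟨g, hg, h3⟩ := key _ inE_D h
    exact ⟨g, hg, Or.inr (Or.inr h3)⟩

/-! ### The words -/

theorem rel_letter {l : Ltr} {k : ℕ} (h : Cfsg.Agent.BabyM.ThetaHom.yIdx l = some k) : _root_.Cfsg.Agent.BabyM.ThetaInst.Rel (E l) (mo (dMask k) idP) := by
  have h1 := Cfsg.Agent.BabyM.ThetaHom.rel_y h
  rwa [sgn_eq_mo (dMask_code k (Cfsg.Agent.BabyM.ThetaHom.yIdx_lt h)).1] at h1

theorem rel_O : _root_.Cfsg.Agent.BabyM.ThetaInst.Rel (E .y1) (mo mO idP) := rel_letter (l := .y1) (k := 0) rfl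

theorem rel_D : _root_.Cfsg.Agent.BabyM.ThetaInst.Rel (E .y3 * E .y2) (mo mD idP) := by
  have h := (rel_letter (l := .y3) (k := 2) rfl).mul (rel_letter (l := .y2) (k := 1) rfl)
  rw [mo_mul_mo (dMask_code 2 (by norm_num)).1 (dMask_code 1 (by norm_num)).1] at h
  exact h

theorem rel_H : _root_.Cfsg.Agent.BabyM.ThetaInst.Rel (E .y1 * E .y2 * E .y5 * E .y6 * E .y9) (mo mH idP) := by
  have h := ((((rel_letter (l := .y1) (k := 0) rfl).mul (rel_letter (l := .y2) (k := 1) rfl)).mul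
    (rel_letter (l := .y5) (k := 4) rfl)).mul (rel_letter (l := .y6) (k := 5) rfl)).mul
    (rel_letter (l := .y9) (k := 8) rfl)
  have c : ∀ k < 10, isCode (dMask k) = true := fun k hk => (dMask_code k hk).1
  have c1 : isCode (dMask 0 ^^^ dMask 1) = true := by decide +kernel
  have c2 : isCode (dMask 0 ^^^ dMask 1 ^^^ dMask 4) = true := by decide +kernel
  have c3 : isCode (dMask 0 ^^^ dMask 1 ^^^ dMask 4 ^^^ dMask 5) = true := by decide +kernel
  rw [mo_mul_mo (c 0 (by norm_num)) (c 1 (by norm_num)), mo_mul_mo c1 (c 4 (by norm_num)),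
    mo_mul_mo c2 (c 5 (by norm_num)), mo_mul_mo c3 (c 8 (by norm_num))] at h
  exact h

/-- **An involution of `C` is in `Q` or conjugate to `Y q`.** -/
theorem reduce {wt' : Cfsg.Agent.Monster.VecSpace.Lane U → ℚ}
    (L : Cfsg.Agent.BabyM.KCore.Link Cfsg.Agent.BabyM.KTab.Cd Cfsg.Agent.BabyM.KTab.u wt' Cfsg.Agent.BabyM.Inst.M
      Cfsg.Agent.BabyM.Inst.laneB)
    {x : V ≃ₗ[ℚ] V} (hx : x ∈ C) (h2 : x * x = 1) :
    x ∈ Q ∨ ∃ k ∈ C, ∃ q ∈ Q, k * x * k⁻¹ = E .y1 * q ∨ k * x * k⁻¹ = E .y1 * E .y2 * E .y5 * E .y6 * E .y9 * q ∨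
      k * x * k⁻¹ = E .y3 * E .y2 * q := by
  obtain ⟨c, hc⟩ := Cfsg.Agent.BabyM.ThetaHom.rel_C x hx
  have hc2 : c * c = 1 := by
    have h3 := hc.mul hc
    rw [h2] at h3
    exact h3.unique Rel.one
  by_cases h1 : c = 1
  · left
    subst h1
    exact Cfsg.Agent.BabyM.GroupInst.ker_rel L x hx hc
  · right
    obtain ⟨g, hg, h⟩ := classes₀ hc.1 hc2 h1
    obtain ⟨k, hk, hkr⟩ := Cfsg.Agent.BabyM.ThetaHom.onto g hg
    have hr := (hkr.mul hc).mul hkr.inv
    have key : ∀ Y ∈ C, ∀ m, _root_.Cfsg.Agent.BabyM.ThetaInst.Rel Y (mo m idP) → g * c * g⁻¹ = mo m idP → ∃ q ∈ Q, k * x * k⁻¹ = Y * q := by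
      intro Y hY m hm he
      have h3 := hm.inv.mul hr
      rw [he, inv_mul_cancel] at h3
      exact ⟨Y⁻¹ * (k * x * k⁻¹), Cfsg.Agent.BabyM.GroupInst.ker_rel L _
        (C.mul_mem (C.inv_mem hY) (C.mul_mem (C.mul_mem hk hx) (C.inv_mem hk))) h3, by group⟩
    have y : ∀ l : Ltr, l.isC = true → E l ∈ C := fun l hl => E_mem_C hl
    rcases h with h | h | h
    · obtain ⟨q, hq, h4⟩ := key _ (y .y1 rfl) _ rel_O h
      exact ⟨k, hk, q, hq, Or.inl h4⟩
    · obtain ⟨q, hq, h4⟩ := key _ (C.mul_mem (C.mul_mem (C.mul_mem (C.mul_mem (y .y1 rfl) (y .y2 rfl)) (y .y5 rfl))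
        (y .y6 rfl)) (y .y9 rfl)) _ rel_H h
      exact ⟨k, hk, q, hq, Or.inr (Or.inl h4)⟩
    · obtain ⟨q, hq, h4⟩ := key _ (C.mul_mem (y .y3 rfl) (y .y2 rfl)) _ rel_D h
      exact ⟨k, hk, q, hq, Or.inr (Or.inr h4)⟩

end Cfsg.Agent.BabyU.F8Class
end

-- part: BabyU/F8K
section
/-!
# Involutions of the Baby Monster model: tools for the cosets `v Q`

`fb n m` : the symplectic form of two codes; `rc L n` : the sum of the second entries of the pairs of `L` whose first entry
is not orthogonal to `n`; `rc_eq` : a list of 22 pairs which is a pair of dual bases reproduces every code.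
`P v m` : every involution `v * R(m) * z^s` is good; `P.xor` : the commutators with `v` can be removed.
-/

set_option autoImplicit false

namespace Cfsg.Agent.BabyU.F8K

open Cfsg.Agent.Monster Cfsg.Agent.Monster.PauliBasic Cfsg.Agent.Monster.PauliBits Cfsg.Agent.Monster.VecEngine
  Cfsg.Agent.Monster.VecSpace Cfsg.Agent.BabyM.Conc Cfsg.Agent.BabyM.Model Cfsg.Agent.BabyM.Inst
  Cfsg.Agent.BabyM.InstMem Cfsg.Agent.BabyM.WordsInst Cfsg.Agent.BabyM.WordsRel Cfsg.Agent.BabyM.TransInv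
  Cfsg.Agent.BabyM.TZeroE Cfsg.Agent.BabyM.KTab Cfsg.Agent.BabyM.QAct Cfsg.Agent.BabyM.KQ Cfsg.Agent.BabyM

/-! ### Codes -/

/-- The symplectic form of two codes. -/
def fb (n m : ℕ) : Bool := (formN n m).testBit 0

theorem form_eq (n m : ℕ) : Pauli.form (dec 11 n) (dec 11 m) = if fb n m = true then 1 else 0 := form_dec n m

theorem ite_add (p q r : Bool)
    (h : (if p = true then (1 : ZMod 2) else 0) = (if q = true then 1 else 0) + if r = true then 1 else 0) :
    p = xor q r := by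
  revert h
  cases p <;> cases q <;> cases r <;> decide

theorem dec_xor_a (a b : ℕ) : (dec 11 (a ^^^ b)).a = (dec 11 a).a + (dec 11 b).a := by
  funext i; exact bit_xor _ _ _

theorem dec_xor_b (a b : ℕ) : (dec 11 (a ^^^ b)).b = (dec 11 a).b + (dec 11 b).b := by
  funext i; exact bit_xor _ _ _

theorem fb_xor (a b m : ℕ) : fb (a ^^^ b) m = xor (fb a m) (fb b m) := by
  apply ite_add
  rw [← form_eq, ← form_eq, ← form_eq]
  unfold Pauli.form
  rw [dec_xor_a, dec_xor_b, add_dotProduct, dotProduct_add]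
  ring

theorem fb_comm (a b : ℕ) : fb a b = fb b a := by
  have h := form_comm (dec 11 a) (dec 11 b)
  rw [form_eq, form_eq] at h
  revert h
  cases fb a b <;> cases fb b a <;> decide

theorem fb_xor_right (m a b : ℕ) : fb m (a ^^^ b) = xor (fb m a) (fb m b) := by
  rw [fb_comm, fb_xor, fb_comm a, fb_comm b]

/-- The sum of the second entries of the pairs whose first entry is not orthogonal to `n`. -/
def rc : List (ℕ × ℕ) → ℕ → ℕ
  | [], _ => 0
  | p :: L, n => (bif fb n p.1 then p.2 else 0) ^^^ rc L n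

theorem rc_xor (L : List (ℕ × ℕ)) (a b : ℕ) : rc L (a ^^^ b) = rc L a ^^^ rc L b := by
  induction L with
  | nil => exact (Nat.xor_self 0).symm
  | cons p L ih =>
    show (bif fb (a ^^^ b) p.1 then p.2 else 0) ^^^ rc L (a ^^^ b) =
      ((bif fb a p.1 then p.2 else 0) ^^^ rc L a) ^^^ ((bif fb b p.1 then p.2 else 0) ^^^ rc L b)
    rw [ih, fb_xor]
    have h : (bif xor (fb a p.1) (fb b p.1) then p.2 else 0) =
        (bif fb a p.1 then p.2 else 0) ^^^ (bif fb b p.1 then p.2 else 0) := by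
      cases fb a p.1 <;> cases fb b p.1 <;> simp
    rw [h]
    apply Nat.eq_of_testBit_eq
    intro i
    simp only [Nat.testBit_xor]
    generalize Nat.testBit _ i = x1
    generalize Nat.testBit (bif fb b p.1 then p.2 else 0) i = x2
    generalize Nat.testBit (rc L a) i = x3
    generalize Nat.testBit (rc L b) i = x4
    cases x1 <;> cases x2 <;> cases x3 <;> cases x4 <;> rfl

theorem rc_append (L L' : List (ℕ × ℕ)) (n : ℕ) : rc (L ++ L') n = rc L n ^^^ rc L' n := by
  induction L with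
  | nil => exact (Nat.zero_xor _).symm
  | cons p L ih =>
    show (bif fb n p.1 then p.2 else 0) ^^^ rc (L ++ L') n = ((bif fb n p.1 then p.2 else 0) ^^^ rc L n) ^^^ rc L' n
    rw [ih, Nat.xor_assoc]

theorem rc_zero_of {L : List (ℕ × ℕ)} {n : ℕ} (h : ∀ p ∈ L, fb n p.1 = false) : rc L n = 0 := by
  induction L with
  | nil => rfl
  | cons p L ih =>
    show (bif fb n p.1 then p.2 else 0) ^^^ rc L n = 0
    rw [h p List.mem_cons_self, ih fun q hq => h q (List.mem_cons_of_mem _ hq)]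
    exact Nat.xor_self 0

/-- A map compatible with `xor` is determined by the powers of two. -/
theorem eq_of_pow {f g : ℕ → ℕ} (hf : ∀ a b, f (a ^^^ b) = f a ^^^ f b) (hg : ∀ a b, g (a ^^^ b) = g a ^^^ g b)
    (m : ℕ) (h : ∀ k < m, f (2 ^ k) = g (2 ^ k)) : ∀ n < 2 ^ m, f n = g n := by
  induction m with
  | zero =>
    intro n hn
    have h0 : n = 0 := by rw [pow_zero] at hn; omega
    have hf0 := hf 0 0
    have hg0 := hg 0 0
    rw [Nat.xor_self, Nat.xor_self] at hf0 hg0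
    rw [h0, hf0, hg0]
  | succ m ih =>
    intro n hn
    cases hb : n.testBit m with
    | false =>
      apply ih (fun k hk => h k (Nat.lt_succ_of_lt hk))
      exact Nat.lt_pow_two_of_testBit n fun i hi => by
        rcases Nat.lt_or_ge m i with h1 | h1
        · exact Nat.testBit_lt_two_pow (lt_of_lt_of_le hn (Nat.pow_le_pow_right (by norm_num) h1))
        · have : i = m := le_antisymm h1 hi
          rw [this]; exact hb
    | true =>
      have h1 : n ^^^ 2 ^ m < 2 ^ m := by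
        apply Nat.lt_pow_two_of_testBit
        intro i hi
        rw [Nat.testBit_xor, Nat.testBit_two_pow]
        rcases Nat.lt_or_ge m i with h1 | h1
        · rw [Nat.testBit_lt_two_pow (lt_of_lt_of_le hn (Nat.pow_le_pow_right (by norm_num) h1))]
          simp only [Bool.false_xor, decide_eq_false_iff_not]
          omega
        · have : i = m := le_antisymm h1 hi
          rw [this, hb]
          simp
      have h2 : n = (n ^^^ 2 ^ m) ^^^ 2 ^ m := by rw [Nat.xor_assoc, Nat.xor_self, Nat.xor_zero]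
      rw [h2, hf, hg, ih (fun k hk => h k (Nat.lt_succ_of_lt hk)) _ h1, h m (Nat.lt_succ_self m)]

/-- The check of a pair of dual bases. -/
def dual (L : List (ℕ × ℕ)) : Bool := (List.range 22).all fun k => Nat.beq (rc L (2 ^ k)) (2 ^ k)

theorem rc_eq {L : List (ℕ × ℕ)} (h : dual L = true) {n : ℕ} (hn : n < 2 ^ 22) : rc L n = n := by
  refine eq_of_pow (g := fun n => n) (rc_xor L) (fun _ _ => rfl) 22 ?_ n hn
  intro k hk
  have := List.all_eq_true.mp h k (List.mem_range.mpr hk)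
  exact Nat.eq_of_beq_eq_true this

/-! ### The Pauli group -/

/-- The element of `Q` of a code. -/
noncomputable def Rn (n : ℕ) : V ≃ₗ[ℚ] V := Cd.R (dec 11 n)

theorem Rn_zero : Rn 0 = 1 := by
  unfold Rn
  rw [KRow.dec_zero, map_one]

theorem Rn_mem (n : ℕ) : Rn n ∈ Q := by
  rw [Q_eq]; exact ⟨_, rfl⟩

theorem pauli_or {x y : Pauli 11} (ha : x.a = y.a) (hb : x.b = y.b) : x = y ∨ x = y * Pauli.z 11 := by
  rcases zmod2_cases (x.s + y.s) with h | h
  · left
    refine Pauli.ext ?_ ha hb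
    calc x.s = x.s + (y.s + y.s) := by rw [zmod2_add_self, add_zero]
      _ = (x.s + y.s) + y.s := by rw [add_assoc]
      _ = y.s := by rw [h, zero_add]
  · right
    rw [Pauli.mul_z]
    refine Pauli.ext ?_ ha hb
    calc x.s = x.s + (y.s + y.s) := by rw [zmod2_add_self, add_zero]
      _ = (x.s + y.s) + y.s := by rw [add_assoc]
      _ = y.s + 1 := by rw [h, add_comm]

theorem z_def : z = Cd.R (Pauli.z 11) := z_eq

theorem Rn_xor (a b : ℕ) : Rn (a ^^^ b) = Rn a * Rn b ∨ Rn (a ^^^ b) = Rn a * Rn b * z := by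
  have h := pauli_or (x := dec 11 (a ^^^ b)) (y := dec 11 a * dec 11 b) (dec_xor_a a b) (dec_xor_b a b)
  unfold Rn
  rcases h with h | h
  · left; rw [h, map_mul]
  · right; rw [h, map_mul, map_mul, z_def]

/-- Every element of `Q` has a code. -/
theorem exists_Rn {q : V ≃ₗ[ℚ] V} (hq : q ∈ Q) : ∃ n < 2 ^ 22, q = Rn n ∨ q = Rn n * z := by
  rw [Q_eq] at hq
  obtain ⟨x, rfl⟩ := hq
  refine ⟨(idx x.a <<< 11) ^^^ idx x.b, ?_, ?_⟩
  · apply Nat.xor_lt_two_pow
    · have := idx_lt x.a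
      rw [Nat.shiftLeft_eq]
      calc idx x.a * 2 ^ 11 < 2 ^ 11 * 2 ^ 11 := Nat.mul_lt_mul_of_pos_right this (by norm_num)
        _ = 2 ^ 22 := by norm_num
    · exact lt_of_lt_of_le (idx_lt x.b) (Nat.pow_le_pow_right (by norm_num) (by norm_num))
  · have ha : x.a = (dec 11 ((idx x.a <<< 11) ^^^ idx x.b)).a := by
      funext i
      show x.a i = bit ((idx x.a <<< 11) ^^^ idx x.b) (11 + i.1)
      rw [bit_xor, bit_shiftLeft, if_pos (by omega), Nat.add_sub_cancel_left, bit_idx,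
        bit_eq_zero_of_lt (lt_of_lt_of_le (idx_lt x.b) (Nat.pow_le_pow_right (by norm_num) (by omega))), add_zero]
    have hb : x.b = (dec 11 ((idx x.a <<< 11) ^^^ idx x.b)).b := by
      funext i
      show x.b i = bit ((idx x.a <<< 11) ^^^ idx x.b) i.1
      rw [bit_xor, bit_shiftLeft, if_neg (by omega), zero_add, bit_idx]
    rcases pauli_or ha hb with h | h
    · left; unfold Rn; rw [← h]
    · right
      unfold Rn
      rw [z_def, ← map_mul, ← h]

theorem W_Rn {v : List Ltr} (hv : v.all isq = true) {n : ℕ} (hc : Nat.beq (cw v) n = true) : W v = Rn n := by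
  rw [W_eq_R v hv, Nat.eq_of_beq_eq_true hc]; rfl

theorem comm_iff (n m : ℕ) : Rn n * Rn m = Rn m * Rn n ↔ fb n m = false := by
  unfold Rn
  rw [← map_mul, ← map_mul]
  constructor
  · intro h
    have h1 := (Pauli.commute_iff _ _).mp (Cd.R_injective h)
    rw [form_eq] at h1
    cases h2 : fb n m with
    | false => rfl
    | true => rw [h2] at h1; exact absurd h1 (by decide)
  · intro h
    rw [(Pauli.commute_iff _ _).mpr]
    rw [form_eq, h]
    rfl

/-! ### The group `{1, z}` -/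

/-- `1` or `z` -/
def Z2 (e : V ≃ₗ[ℚ] V) : Prop := e = 1 ∨ e = z

theorem Z2.one : Z2 1 := Or.inl rfl

section

variable {K₀ : Type} [Group K₀] (A : BAll M K₀)

include A

theorem zz : z * z = 1 := A.grp.z_sq

theorem Z2.mul {e f : V ≃ₗ[ℚ] V} (he : Z2 e) (hf : Z2 f) : Z2 (e * f) := by
  rcases he with rfl | rfl
  · rwa [one_mul]
  · rcases hf with rfl | rfl
    · right; rw [mul_one]
    · left; exact zz A

theorem Z2.sq {e : V ≃ₗ[ℚ] V} (he : Z2 e) : e * e = 1 := by
  rcases he with rfl | rfl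
  · rw [one_mul]
  · exact zz A

theorem Z2.comm {e g : V ≃ₗ[ℚ] V} (he : Z2 e) (hg : g ∈ C) : g * e = e * g := by
  rcases he with rfl | rfl
  · rw [one_mul, mul_one]
  · exact A.grp.z_comm g hg

theorem Z2.mem {e : V ≃ₗ[ℚ] V} (he : Z2 e) : e ∈ C := by
  rcases he with rfl | rfl
  · exact C.one_mem
  · exact A.grp.Q_le A.grp.z_mem

theorem Q_comm' {x y : V ≃ₗ[ℚ] V} (hx : x ∈ Q) (hy : y ∈ Q) : ∃ e, Z2 e ∧ x * y = y * x * e := by
  rcases A.grp.Q_comm x hx y hy with h | h
  · exact ⟨1, Or.inl rfl, by rw [mul_one]; exact h⟩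
  · exact ⟨z, Or.inr rfl, h⟩

omit A in
theorem Rn_xor' (a b : ℕ) : ∃ e, Z2 e ∧ Rn (a ^^^ b) = Rn a * Rn b * e := by
  rcases Rn_xor a b with h | h
  · exact ⟨1, Or.inl rfl, by rw [mul_one]; exact h⟩
  · exact ⟨z, Or.inr rfl, h⟩

/-- `v⁻¹ r v r⁻¹ = R(c) e` for some `r ∈ Q` -/
def Com (v : V ≃ₗ[ℚ] V) (c : ℕ) : Prop := ∃ r ∈ Q, ∃ e, Z2 e ∧ r * v = v * (Rn c * e) * r

/-- Every involution `v * R(m) * e`, `e ∈ {1, z}`, is good. -/
def P (v : V ≃ₗ[ℚ] V) (m : ℕ) : Prop :=
  ∀ e : V ≃ₗ[ℚ] V, Z2 e → (v * Rn m * e) * (v * Rn m * e) = 1 → F8Base.Good M (v * Rn m * e)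

theorem exists_conj {v : V ≃ₗ[ℚ] V} {c : ℕ} (hc : Com v c) (m : ℕ) {e : V ≃ₗ[ℚ] V} (he : Z2 e) :
    ∃ r ∈ Q, ∃ e₁, Z2 e₁ ∧ v * Rn (c ^^^ m) * e = r * (v * Rn m * e₁) * r⁻¹ := by
  obtain ⟨r, hr, e', he', h⟩ := hc
  obtain ⟨e₂, he₂, h₂⟩ := Rn_xor' c m
  obtain ⟨e₃, he₃, h₃⟩ := Q_comm' A (Q.inv_mem hr) (Rn_mem m)
  have hQC : ∀ {q : V ≃ₗ[ℚ] V}, q ∈ Q → q ∈ C := fun hq => A.grp.Q_le hq
  have h1 : v * Rn c = r * v * r⁻¹ * e' := by
    have h4 : r * v * r⁻¹ = v * (Rn c * e') := by rw [h]; group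
    rw [h4, mul_assoc, mul_assoc (Rn c), he'.sq A, mul_one]
  have hm := hQC (Rn_mem m)
  have hri := hQC (Q.inv_mem hr)
  refine ⟨r, hr, e₃ * (e' * (e₂ * e)), he₃.mul A (he'.mul A (he₂.mul A he)), ?_⟩
  calc v * Rn (c ^^^ m) * e = (v * Rn c) * Rn m * e₂ * e := by rw [h₂]; group
    _ = r * v * r⁻¹ * (e' * Rn m) * e₂ * e := by rw [h1]; group
    _ = r * v * (r⁻¹ * Rn m) * e' * e₂ * e := by rw [← he'.comm A hm]; group
    _ = r * (v * Rn m) * (r⁻¹ * (e₃ * (e' * (e₂ * e)))) := by rw [h₃]; group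
    _ = r * (v * Rn m) * ((e₃ * (e' * (e₂ * e))) * r⁻¹) := by
      rw [(he₃.mul A (he'.mul A (he₂.mul A he))).comm A hri]
    _ = r * (v * Rn m * (e₃ * (e' * (e₂ * e)))) * r⁻¹ := by group

theorem P_step {v : V ≃ₗ[ℚ] V} {c m : ℕ} (hc : Com v c) (h : P v m) : P v (c ^^^ m) := by
  intro e he hsq
  obtain ⟨r, hr, e₁, he₁, h1⟩ := exists_conj A hc m he
  rw [h1] at hsq ⊢
  refine F8Base.Good.conj (A.C_le_G (A.grp.Q_le hr)) (h e₁ he₁ ?_)
  have h2 : r * ((v * Rn m * e₁) * (v * Rn m * e₁)) * r⁻¹ = 1 := by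
    rw [← hsq]; group
  have h3 : r⁻¹ * (r * ((v * Rn m * e₁) * (v * Rn m * e₁)) * r⁻¹) * r = r⁻¹ * 1 * r := by rw [h2]
  rw [show r⁻¹ * (r * ((v * Rn m * e₁) * (v * Rn m * e₁)) * r⁻¹) * r = (v * Rn m * e₁) * (v * Rn m * e₁) by group,
    mul_one, inv_mul_cancel] at h3
  exact h3

theorem P_rc {v : V ≃ₗ[ℚ] V} {L : List (ℕ × ℕ)} (hL : ∀ p ∈ L, Com v p.2) (n m : ℕ) (h : P v m) :
    P v (rc L n ^^^ m) := by
  induction L with
  | nil =>
    show P v (0 ^^^ m)
    rwa [Nat.zero_xor]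
  | cons p L ih =>
    have h1 := ih fun q hq => hL q (List.mem_cons_of_mem _ hq)
    show P v (((bif fb n p.1 then p.2 else 0) ^^^ rc L n) ^^^ m)
    rw [Nat.xor_assoc]
    cases fb n p.1 with
    | false =>
      show P v (0 ^^^ (rc L n ^^^ m))
      rwa [Nat.zero_xor]
    | true => exact P_step A (hL p List.mem_cons_self) h1

end

/-! ### Conditions on the code of `p` -/

section

variable {K₀ : Type} [Group K₀] (A : BAll M K₀)

include A

theorem comm_e {n : ℕ} {e : V ≃ₗ[ℚ] V} (he : Z2 e) (c : ℕ) :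
    fb n c = false ↔ (Rn n * e) * Rn c = Rn c * (Rn n * e) := by
  have h2 := he.comm A (A.grp.Q_le (Rn_mem c))
  rw [← comm_iff]
  constructor
  · intro h
    calc (Rn n * e) * Rn c = Rn n * (e * Rn c) := by group
      _ = (Rn n * Rn c) * e := by rw [← h2]; group
      _ = Rn c * (Rn n * e) := by rw [h]; group
  · intro h
    have h1 : Rn n * Rn c * e = Rn c * Rn n * e := by
      calc Rn n * Rn c * e = Rn n * (Rn c * e) := by group
        _ = (Rn n * e) * Rn c := by rw [h2]; group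
        _ = Rn c * Rn n * e := by rw [h]; group
    exact mul_right_cancel h1

theorem conj_aux {v p a b f : V ≃ₗ[ℚ] V} (hvv : v * v = 1) (hp : p ∈ C) (hf : Z2 f)
    (hvp : v * p * v = p⁻¹) (h : v * a = f * b * v) (hc : p * a = a * p) : p * b = b * p := by
  have hfp : p⁻¹ * f = f * p⁻¹ := hf.comm A (C.inv_mem hp)
  have h1 : v * a * v = f * b := by rw [h, mul_assoc, hvv, mul_one]
  have h2 : p⁻¹ * (f * b) = (f * b) * p⁻¹ := by
    rw [← hvp, ← h1]
    calc v * p * v * (v * a * v) = v * p * (v * v) * a * v := by group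
      _ = v * (p * a) * v := by rw [hvv]; group
      _ = v * (a * (v * v) * p) * v := by rw [hc, hvv]; group
      _ = v * a * v * (v * p * v) := by group
  have h3 : f * (p⁻¹ * b) = f * (b * p⁻¹) := by
    rw [← mul_assoc, ← hfp, mul_assoc, h2, mul_assoc]
  have h4 := mul_left_cancel h3
  calc p * b = p * (b * p⁻¹) * p := by group
    _ = p * (p⁻¹ * b) * p := by rw [h4]
    _ = b * p := by group

/-- `p` commutes with `a` iff it commutes with the conjugate `b` of `a` under `v`. -/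
theorem fb_conj {v : V ≃ₗ[ℚ] V} (hv : v ∈ C) (hvv : v * v = 1) {n : ℕ} {e : V ≃ₗ[ℚ] V} (he : Z2 e)
    (hsq : (v * (Rn n * e)) * (v * (Rn n * e)) = 1) {a b : ℕ} {f : V ≃ₗ[ℚ] V} (hf : Z2 f)
    (h : v * Rn a = f * Rn b * v) : fb n (a ^^^ b) = false := by
  have hvp : v * (Rn n * e) * v = (Rn n * e)⁻¹ := by
    rw [eq_inv_iff_mul_eq_one, ← hsq]; group
  have hp : Rn n * e ∈ C := C.mul_mem (A.grp.Q_le (Rn_mem n)) (he.mem A)
  have h' : v * Rn b = f * Rn a * v := by
    have h1 : v * (f * Rn b) = Rn a * v := by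
      calc v * (f * Rn b) = v * (f * Rn b * v) * v := by rw [mul_assoc, mul_assoc, hvv, mul_one]
        _ = (v * v) * Rn a * v := by rw [← h]; group
        _ = Rn a * v := by rw [hvv, one_mul]
    have h2 : v * f = f * v := hf.comm A hv
    calc v * Rn b = (f * f) * (v * Rn b) := by rw [hf.sq A, one_mul]
      _ = f * ((f * v) * Rn b) := by group
      _ = f * (v * (f * Rn b)) := by rw [← h2]; group
      _ = f * Rn a * v := by rw [h1]; group
  have h1 := comm_e A he (n := n) a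
  have h2 := comm_e A he (n := n) b
  have h3 : fb n a = false ↔ fb n b = false := by
    rw [h1, h2]
    exact ⟨conj_aux A hvv hp hf hvp h, conj_aux A hvv hp hf hvp h'⟩
  rw [fb_xor_right]
  cases h4 : fb n a with
  | false => rw [h3.mp h4]; rfl
  | true =>
    cases h5 : fb n b with
    | false => rw [h3.mpr h5] at h4; exact absurd h4 (by decide)
    | true => rfl

end

/-! ### Words -/

/-- the word of `t₀` -/
def t0w : List Ltr := [.Z0, .Z2, .Z4, .Z5, .Z6]

/-- the word of `g t₀ g⁻¹` -/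
def tw (g : List Ltr) : List Ltr := winv g ++ (t0w ++ g)

theorem W_tw (g : List Ltr) : W (tw g) = W g * M.t₀ * (W g)⁻¹ := by
  unfold tw
  rw [W_append, W_append, W_winv]
  rfl

section

variable {K₀ : Type} [Group K₀] (A : BAll M K₀) (O : base.Ok)

include A O

theorem eq_chk {w w' : List Ltr} (h : check (w.map Ltr.prog) vB (w'.map Ltr.prog) vB = true) : W w = W w' :=
  eq_of_check A O (W_mem_G w) (W_mem_G w') h

/-- the table of commutators: letter, word, sign -/
theorem com_of {vs : List Ltr} {k : Ltr} (hk : k.isQ = true) {cv : List Ltr} (hcv : cv.all isq = true) {c : ℕ}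
    (hc : Nat.beq (cw cv) c = true) (s : Bool)
    (h : check ((vs ++ [k]).map Ltr.prog) vB ((k :: (cv ++ (((bif s then [.z] else [] : List Cfsg.Agent.BabyM.Conc.Ltr)) ++ vs))).map Ltr.prog) vB =
      true) : Com (W vs) c := by
  have h1 := eq_chk A O h
  refine ⟨E k, Subgroup.subset_closure ⟨k, hk, rfl⟩, W (bif s then [.z] else []), ?_, ?_⟩
  · cases s
    · exact Or.inl rfl
    · right; show W [.z] = z; rw [W_single]; rfl
  · have h2 : Z2 (W (bif s then [.z] else [])) := by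
      cases s
      · exact Or.inl rfl
      · right; show W [.z] = z; rw [W_single]; rfl
    rw [W_append, W_single, W_cons, W_append, W_append, W_Rn hcv hc] at h1
    rw [h1, mul_assoc (W vs), ← h2.comm A (A.grp.Q_le (Rn_mem c))]

end

end Cfsg.Agent.BabyU.F8K
end

-- part: BabyU/F8K1
section
/-!
# F8 for the model of the Baby Monster: involutions over the class of the letter `y₁` (octad, trace `8`)

`rel7` : five lanes fixed by `y₁` (with their `23`-parts) whose transpositions have product `1`.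
-/

set_option autoImplicit false
set_option Elab.async false

namespace Cfsg.Agent.BabyU.F8K1

open Cfsg.Agent.Monster.VecEngine Cfsg.Agent.Monster.VecSpace Cfsg.Agent.BabyM.Conc Cfsg.Agent.BabyM.Model
  Cfsg.Agent.BabyM.Inst Cfsg.Agent.BabyM.InstVec Cfsg.Agent.BabyM.InstMem Cfsg.Agent.BabyM.WordsInst Cfsg.Agent.BabyM.TransInv
  Cfsg.Agent.BabyU.F8K

/-- the words of the five lanes -/
def g : List (List Ltr) := [
  [.p2, .xi, .h, .p, .y4, .p, .xi],
  [.p2, .xi, .y6, .h, .p, .h, .p],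
  [.h, .p, .xi, .h, .p, .h, .xi],
  [.y1, .p2, .xi, .h, .p3, .h],
  [.h, .p]]

theorem noT_g : g.all (fun w => w.all noT) = true := by decide +kernel

theorem fix_g : g.all (fun w => check ((w ++ [Ltr.y1]).map Ltr.prog) u0P (w.map Ltr.prog) u0P) = true := by
  decide +kernel

theorem prod_g : checkFix (((g.map tw).flatten).map Ltr.prog) vB = true := by (first | (exact Cfsg.Agent.BMx.Low.fix_of_eqF (by decide +kernel)) | decide +kernel)

theorem W_flatten (l : List (List Ltr)) : W l.flatten = ((l.map W).reverse).prod := by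
  induction l with
  | nil => rfl
  | cons a l ih => rw [List.flatten_cons, W_append, ih, List.map_cons, List.reverse_cons, List.prod_append,
      List.prod_singleton]

theorem u₀_vec : M.u₀ = (1 / 8 : ℚ) • vecU ℚ U u0P := rfl

/-- from a check on the planes of `u₀` -/
theorem fix_u₀ {w v : List Ltr} (h : check ((w ++ v).map Ltr.prog) u0P (w.map Ltr.prog) u0P = true) :
    W v (W w M.u₀) = W w M.u₀ := by
  have h1 := W_eq_of_check h
  rw [W_append, LinearEquiv.mul_apply] at h1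
  rw [u₀_vec, map_smul, map_smul, h1]

section

variable {K₀ : Type} [Group K₀] (A : BAll M K₀)

include A

theorem q_u₀ {q g : V ≃ₗ[ℚ] V} (hq : q ∈ M.Q) (hg : g ∈ M.C) : q (g M.u₀) = g M.u₀ := by
  have h1 : g⁻¹ * q * g ∈ M.Q := A.grp.Q_normal' g hg q hq
  have h2 := A.rep.Q_u₀ _ h1
  have h3 := congrArg (fun x => g x) h2
  simp only [LinearEquiv.mul_apply, F8Base.apply_inv_self'] at h3
  exact h3

variable (O : base.Ok)

include O

/-- **The odd relation.** -/
theorem rel7 : ∃ L : List (V ≃ₗ[ℚ] V), (∀ g ∈ L, g ∈ M.C) ∧ Odd L.length ∧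
    ((L.map fun g => g * M.t₀ * g⁻¹).prod = 1 ∨ (L.map fun g => g * M.t₀ * g⁻¹).prod = M.z) ∧
    ∀ g ∈ L, (E .y1) (g M.u₀) = g M.u₀ := by
  refine ⟨(g.map W).reverse, ?_, ?_, Or.inl ?_, ?_⟩
  · intro x hx
    rw [List.mem_reverse, List.mem_map] at hx
    obtain ⟨w, hw, rfl⟩ := hx
    exact W_mem_C_of (List.all_eq_true.mp noT_g w hw)
  · rw [List.length_reverse, List.length_map]
    exact ⟨2, rfl⟩
  · have h := eq_one A O (W_mem_G _) prod_g
    rw [W_flatten] at h
    rw [List.map_reverse, List.map_map, ← h, List.map_map]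
    congr 2
    apply List.map_congr_left
    intro w _
    exact (W_tw w).symm
  · intro x hx
    rw [List.mem_reverse, List.mem_map] at hx
    obtain ⟨w, hw, rfl⟩ := hx
    have h := fix_u₀ (List.all_eq_true.mp fix_g w hw)
    rwa [W_single] at h

/-- **Case (K1).** -/
theorem K1 : ∀ q ∈ M.Q, (E .y1 * q) * (E .y1 * q) = 1 → F8Base.Good M (E .y1 * q) := by
  intro q hq _
  obtain ⟨L, h1, h2, h3, h4⟩ := rel7 A O
  have hy : E .y1 ∈ M.C := by
    rw [← W_single]; exact W_mem_C_of (by decide)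
  refine F8Base.good_odd A (M.C.mul_mem hy (A.grp.Q_le hq)) L h1 ?_ h2 h3
  intro g hg
  rw [LinearEquiv.mul_apply, q_u₀ A hq (h1 g hg), h4 g hg]

end

end Cfsg.Agent.BabyU.F8K1
end

-- part: BabyU/F8K3D
section
/-!
# F8 for the model of the Baby Monster: involutions over the class of `y₂ y₃` (dodecad, trace `0`): data
-/

set_option autoImplicit false
set_option Elab.async false

namespace Cfsg.Agent.BabyU.F8K3D

open Cfsg.Agent.Monster.VecEngine Cfsg.Agent.Monster.VecSpace Cfsg.Agent.BabyM.Conc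
  Cfsg.Agent.BabyM.InstVec Cfsg.Agent.BabyM.InstMem Cfsg.Agent.BabyM.WordsInst Cfsg.Agent.BabyM.TransInv
  Cfsg.Agent.BabyM.KQ Cfsg.Agent.BabyU.F8K

/-- the word in `Q` with `v = W(qs) y₃ y₂` -/
def qs : List Ltr := [.Z0, .Z4, .Z6, .Z8, .Z9, .X0, .X1, .X3, .X4, .X5, .X6, .X7, .X8, .X9, .z]

/-- the word of `v`, a product of two commuting transpositions -/
def vs : List Ltr := ([.y2, .y3] : List Cfsg.Agent.BabyM.Conc.Ltr) ++ qs

def ga : List Ltr := [.p10, .xi, .tau, .p3, .h, .p10]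

def gb : List Ltr := [.p10, .xi, .tau, .p, .h, .p9, .h, .p, .X10]

theorem chk_ab : check ((tw ga ++ tw gb).map Ltr.prog) vB (vs.map Ltr.prog) vB = true := by (first | (exact Cfsg.Agent.BMx.Low.chk_of_eqF (by decide +kernel)) | decide +kernel)

theorem chk_ba : check ((tw gb ++ tw ga).map Ltr.prog) vB (vs.map Ltr.prog) vB = true := by (first | (exact Cfsg.Agent.BMx.Low.chk_of_eqF (by decide +kernel)) | decide +kernel)

theorem chk_z : check ((.Z0 :: (vs ++ ([.Z0] : List Cfsg.Agent.BabyM.Conc.Ltr))).map Ltr.prog) vB ((vs ++ [Ltr.z]).map Ltr.prog) vB = true := by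
  decide +kernel

theorem chk_v : checkFix ((vs ++ vs).map Ltr.prog) vB = true := by decide +kernel

theorem chk_k : check ((.Z0 :: (vs ++ ((.Z0 :: vs : List Cfsg.Agent.BabyM.Conc.Ltr)))).map Ltr.prog) vB ([Ltr.z].map Ltr.prog) vB = true := by
  decide +kernel

/-! ### The ten lanes -/

/-- One lane: word, word of the transposition, its code. -/
structure LaneD where
  g : List Ltr
  m : List Ltr
  c : ℕ

/-- The checks of a lane. -/
structure LaneOk (l : LaneD) : Prop where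
  hC : (l.g.all noT && (l.m.all isq && Nat.beq (cw l.m) l.c)) = true
  hU : check ((l.g ++ vs).map Ltr.prog) u0P (l.g.map Ltr.prog) u0P = true
  hT : check ((tw l.g).map Ltr.prog) vB (l.m.map Ltr.prog) vB = true
  hF : check ((l.m ++ vs).map Ltr.prog) vB ((vs ++ (l.m ++ [Ltr.z])).map Ltr.prog) vB = true

def l0 : LaneD := ⟨[.p], [.Z0, .Z1, .Z2, .Z3, .Z4, .Z7], 0x9f⟩

theorem ok0 : LaneOk l0 := ⟨by decide +kernel, by decide +kernel, by decide +kernel, by decide +kernel⟩

def l1 : LaneD := ⟨[.h, .p], [.Z3], 0x8⟩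

theorem ok1 : LaneOk l1 := ⟨by decide +kernel, by decide +kernel, by decide +kernel, by decide +kernel⟩

def l2 : LaneD := ⟨[.y1, .p], [.Z0, .Z1, .Z2, .Z3, .Z4, .Z7, .Z10], 0x49f⟩

theorem ok2 : LaneOk l2 := ⟨by decide +kernel, by decide +kernel, by decide +kernel, by decide +kernel⟩

def l3 : LaneD := ⟨[.h, .p, .h], [.Z7], 0x80⟩

theorem ok3 : LaneOk l3 := ⟨by decide +kernel, by decide +kernel, by decide +kernel, by decide +kernel⟩

def l4 : LaneD := ⟨[.h, .p, .h, .p], [.Z4], 0x10⟩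

theorem ok4 : LaneOk l4 := ⟨by decide +kernel, by decide +kernel, by decide +kernel, by decide +kernel⟩

def l5 : LaneD := ⟨[.h, .p3], [.Z5], 0x20⟩

theorem ok5 : LaneOk l5 := ⟨by decide +kernel, by decide +kernel, by decide +kernel, by decide +kernel⟩

def l6 : LaneD := ⟨[.h, .p4], [.Z0], 0x1⟩

theorem ok6 : LaneOk l6 := ⟨by decide +kernel, by decide +kernel, by decide +kernel, by decide +kernel⟩

def l7 : LaneD := ⟨[.h, .p, .h, .p, .h], [.Z8], 0x100⟩

theorem ok7 : LaneOk l7 := ⟨by decide +kernel, by decide +kernel, by decide +kernel, by decide +kernel⟩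

def l8 : LaneD := ⟨[.p2, .xi, .y10, .xi], [.Z9], 0x200⟩

theorem ok8 : LaneOk l8 := ⟨by decide +kernel, by decide +kernel, by decide +kernel, by decide +kernel⟩

def l9 : LaneD := ⟨[.p2, .xi, .y10, .xi, .h], [.Z6], 0x40⟩

theorem ok9 : LaneOk l9 := ⟨by decide +kernel, by decide +kernel, by decide +kernel, by decide +kernel⟩

/-! ### The conjugate of `X10` -/

def wp : List Ltr := [.Z0, .Z1, .Z3, .Z4, .Z5, .Z6, .Z7, .Z8, .Z9, .Z10, .X1, .X2, .X10]

theorem cW : check ((.X10 :: vs).map Ltr.prog) vB ((vs ++ (wp ++ [Ltr.z])).map Ltr.prog) vB = true := by decide +kernel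

theorem cW' : (wp.all isq && Nat.beq (cw wp) 0x2037fb) = true := by decide +kernel

/-! ### The commutators -/

def c0 : List Ltr := [.Z10]

theorem cc0 : check ((vs ++ [Ltr.Z1]).map Ltr.prog) vB
    ((Ltr.Z1 :: (c0 ++ (((bif true then [.z] else [] : List Cfsg.Agent.BabyM.Conc.Ltr)) ++ vs))).map Ltr.prog) vB = true := by decide +kernel

theorem ci0 : c0.all isq = true := by decide +kernel

theorem cn0 : Nat.beq (cw c0) 0x400 = true := by decide +kernel

def c1 : List Ltr := [.Z1, .Z2, .Z3, .Z4, .Z7, .Z10]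

theorem cc1 : check ((vs ++ [Ltr.X0]).map Ltr.prog) vB
    ((Ltr.X0 :: (c1 ++ (((bif true then [.z] else [] : List Cfsg.Agent.BabyM.Conc.Ltr)) ++ vs))).map Ltr.prog) vB = true := by decide +kernel

theorem ci1 : c1.all isq = true := by decide +kernel

theorem cn1 : Nat.beq (cw c1) 0x49e = true := by decide +kernel

def c2 : List Ltr := [.Z0, .Z3, .Z4, .Z5, .Z6, .Z7, .Z8, .Z9, .Z10]

theorem cc2 : check ((vs ++ [Ltr.X1]).map Ltr.prog) vB
    ((Ltr.X1 :: (c2 ++ (((bif true then [.z] else [] : List Cfsg.Agent.BabyM.Conc.Ltr)) ++ vs))).map Ltr.prog) vB = true := by decide +kernel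

theorem ci2 : c2.all isq = true := by decide +kernel

theorem cn2 : Nat.beq (cw c2) 0x7f9 = true := by decide +kernel

def c3 : List Ltr := [.Z0, .Z1, .Z2, .Z4, .Z7, .Z10]

theorem cc3 : check ((vs ++ [Ltr.X3]).map Ltr.prog) vB
    ((Ltr.X3 :: (c3 ++ (((bif false then [.z] else [] : List Cfsg.Agent.BabyM.Conc.Ltr)) ++ vs))).map Ltr.prog) vB = true := by decide +kernel

theorem ci3 : c3.all isq = true := by decide +kernel

theorem cn3 : Nat.beq (cw c3) 0x497 = true := by decide +kernel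

def c4 : List Ltr := [.Z0, .Z1, .Z2, .Z3, .Z7, .Z10]

theorem cc4 : check ((vs ++ [Ltr.X4]).map Ltr.prog) vB
    ((Ltr.X4 :: (c4 ++ (((bif true then [.z] else [] : List Cfsg.Agent.BabyM.Conc.Ltr)) ++ vs))).map Ltr.prog) vB = true := by decide +kernel

theorem ci4 : c4.all isq = true := by decide +kernel

theorem cn4 : Nat.beq (cw c4) 0x48f = true := by decide +kernel

def c5 : List Ltr := [.Z1, .Z2, .Z6, .Z8, .Z9, .Z10]

theorem cc5 : check ((vs ++ [Ltr.X5]).map Ltr.prog) vB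
    ((Ltr.X5 :: (c5 ++ (((bif false then [.z] else [] : List Cfsg.Agent.BabyM.Conc.Ltr)) ++ vs))).map Ltr.prog) vB = true := by decide +kernel

theorem ci5 : c5.all isq = true := by decide +kernel

theorem cn5 : Nat.beq (cw c5) 0x746 = true := by decide +kernel

def c6 : List Ltr := [.Z1, .Z2, .Z5, .Z8, .Z9, .Z10]

theorem cc6 : check ((vs ++ [Ltr.X6]).map Ltr.prog) vB
    ((Ltr.X6 :: (c6 ++ (((bif true then [.z] else [] : List Cfsg.Agent.BabyM.Conc.Ltr)) ++ vs))).map Ltr.prog) vB = true := by decide +kernel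

theorem ci6 : c6.all isq = true := by decide +kernel

theorem cn6 : Nat.beq (cw c6) 0x726 = true := by decide +kernel

def c7 : List Ltr := [.Z0, .Z1, .Z2, .Z3, .Z4, .Z10]

theorem cc7 : check ((vs ++ [Ltr.X7]).map Ltr.prog) vB
    ((Ltr.X7 :: (c7 ++ (((bif false then [.z] else [] : List Cfsg.Agent.BabyM.Conc.Ltr)) ++ vs))).map Ltr.prog) vB = true := by decide +kernel

theorem ci7 : c7.all isq = true := by decide +kernel

theorem cn7 : Nat.beq (cw c7) 0x41f = true := by decide +kernel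

def c8 : List Ltr := [.Z1, .Z2, .Z5, .Z6, .Z9, .Z10]

theorem cc8 : check ((vs ++ [Ltr.X8]).map Ltr.prog) vB
    ((Ltr.X8 :: (c8 ++ (((bif true then [.z] else [] : List Cfsg.Agent.BabyM.Conc.Ltr)) ++ vs))).map Ltr.prog) vB = true := by decide +kernel

theorem ci8 : c8.all isq = true := by decide +kernel

theorem cn8 : Nat.beq (cw c8) 0x666 = true := by decide +kernel

def c9 : List Ltr := [.Z0, .Z1, .Z3, .Z4, .Z5, .Z6, .Z7, .Z8, .Z9, .Z10, .X1, .X2]

theorem cc9 : check ((vs ++ [Ltr.X10]).map Ltr.prog) vB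
    ((Ltr.X10 :: (c9 ++ (((bif false then [.z] else [] : List Cfsg.Agent.BabyM.Conc.Ltr)) ++ vs))).map Ltr.prog) vB = true := by decide +kernel

theorem ci9 : c9.all isq = true := by decide +kernel

theorem cn9 : Nat.beq (cw c9) 0x37fb = true := by decide +kernel

/-! ### The dual bases -/

/-- the conditions -/
def L₁ : List (ℕ × ℕ) := [(0x9f, 0x201000), (0x8, 0x5000), (0x49f, 0x203000), (0x80, 0x41000), (0x10, 0x9000), (0x20, 0x13000), (0x1, 0x1800), (0x100, 0x83000), (0x200, 0x103000), (0x40, 0x23000), (0x37fb, 0x3000)]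

/-- the commutators -/
def L₂ : List (ℕ × ℕ) := [(0x2b2000, 0x400), (0xfc000, 0x49e), (0xb3000, 0x7f9), (0x106000, 0x497), (0x10a000, 0x48f), (0x110000, 0x746), (0x120000, 0x726), (0x142000, 0x41f), (0x180000, 0x666), (0x3000, 0x37fb)]

/-- the last pair -/
def L₃ : List (ℕ × ℕ) := [(0x1fe800, 0x1)]

theorem dual_L : dual (L₁ ++ (L₂ ++ L₃)) = true := by decide +kernel

end Cfsg.Agent.BabyU.F8K3D
end

-- part: BabyU/F8K3
section
/-!
# F8 for the model of the Baby Monster: involutions over the class of `y₂ y₃` (dodecad, trace `0`)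
-/

set_option autoImplicit false

namespace Cfsg.Agent.BabyU.F8K3

open Cfsg.Agent.Monster.VecEngine Cfsg.Agent.Monster.VecSpace Cfsg.Agent.BabyM.Conc Cfsg.Agent.BabyM.Model
  Cfsg.Agent.BabyM.Inst Cfsg.Agent.BabyM.InstVec Cfsg.Agent.BabyM.InstMem Cfsg.Agent.BabyM.WordsInst Cfsg.Agent.BabyM.TransInv
  Cfsg.Agent.BabyM.KQ Cfsg.Agent.BabyU.F8K Cfsg.Agent.BabyU.F8K1 Cfsg.Agent.BabyU.F8K3D

theorem v_mem : W vs ∈ C := W_mem_C_of (by decide)

section

variable {K₀ : Type} [Group K₀] (A : BAll M K₀) (O : base.Ok)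

include A O

theorem v_sq : W vs * W vs = 1 := by
  have h := eq_one A O (W_mem_G _) chk_v
  rwa [W_append] at h

/-- If `v p` is not good, then `p` commutes with the transposition of a lane. -/
theorem lane {l : LaneD} (h : LaneOk l) {p : V ≃ₗ[ℚ] V} (hp : p ∈ Q) (hn : ¬ F8Base.Good M (W vs * p)) :
    p * Rn l.c = Rn l.c * p := by
  obtain ⟨hC, hU, hT, hF⟩ := h
  rw [Bool.and_eq_true, Bool.and_eq_true] at hC
  obtain ⟨hC1, hC2, hC3⟩ := hC
  have hg : W l.g ∈ M.C := W_mem_C_of hC1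
  have hpC : p ∈ M.C := A.grp.Q_le hp
  have hm : W l.m = Rn l.c := W_Rn hC2 hC3
  have ht : W l.g * M.t₀ * (W l.g)⁻¹ = Rn l.c := by
    rw [← W_tw, eq_chk A O hT, hm]
  have hu : (W vs * p) (W l.g M.u₀) = W l.g M.u₀ := by
    rw [LinearEquiv.mul_apply, q_u₀ A hp hg, fix_u₀ hU]
  have hv : W vs * Rn l.c = z * Rn l.c * W vs := by
    have h1 := eq_chk A O hF
    rw [W_append, W_append, W_append, W_single, hm] at h1
    exact h1
  rcases F8Base.fix_or A (M.C.mul_mem v_mem hpC) hg hu with h | h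
  · exact absurd (F8Base.good_of_fix (A.C_le_G hg) h) hn
  · rw [ht] at h
    have hz : z * Rn l.c = Rn l.c * z := (A.grp.z_comm _ (A.grp.Q_le (Rn_mem l.c))).symm
    have h2 : W vs * (p * Rn l.c * p⁻¹) * (W vs)⁻¹ = W vs * Rn l.c * (W vs)⁻¹ := by
      have e1 : W vs * (p * Rn l.c * p⁻¹) * (W vs)⁻¹ = W vs * p * Rn l.c * (W vs * p)⁻¹ := by group
      rw [e1, h, hv, hz]
      show Rn l.c * z = Rn l.c * z * W vs * (W vs)⁻¹
      group
    have h3 : p * Rn l.c * p⁻¹ = Rn l.c := mul_left_cancel (mul_right_cancel h2)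
    calc p * Rn l.c = (p * Rn l.c * p⁻¹) * p := by group
      _ = Rn l.c * p := by rw [h3]

theorem lane' {l : LaneD} (h : LaneOk l) {n : ℕ} {e : V ≃ₗ[ℚ] V} (he : Z2 e)
    (hn : ¬ F8Base.Good M (W vs * (Rn n * e))) (c : ℕ) (hc : Nat.beq l.c c = true) : fb n c = false := by
  rw [← Nat.eq_of_beq_eq_true hc]
  exact (comm_e A he l.c).mpr (lane A O h (Q.mul_mem (Rn_mem n) (by
    rcases he with rfl | rfl
    · exact Q.one_mem
    · exact A.grp.z_mem)) hn)

/-- the condition from the conjugate of `X10` -/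
theorem fb_w {n : ℕ} {e : V ≃ₗ[ℚ] V} (he : Z2 e)
    (hsq : (W vs * (Rn n * e)) * (W vs * (Rn n * e)) = 1) : fb n (0x200000 ^^^ 0x2037fb) = false := by
  have hcw := cW'
  rw [Bool.and_eq_true] at hcw
  have h1 := eq_chk A O cW
  have hw : W wp = Rn 0x2037fb := W_Rn hcw.1 hcw.2
  rw [W_cons, W_append, W_append, hw, E_X10] at h1
  exact fb_conj A v_mem (v_sq A O) he hsq (f := W [.z]) (Or.inr (by rw [W_single]; rfl)) h1

theorem com_L₂ : ∀ p ∈ L₂, Com (W vs) p.2 := by
  exact List.forall_mem_cons.mpr ⟨com_of A O (k := .Z1) rfl ci0 cn0 true cc0,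
    List.forall_mem_cons.mpr ⟨com_of A O (k := .X0) rfl ci1 cn1 true cc1,
    List.forall_mem_cons.mpr ⟨com_of A O (k := .X1) rfl ci2 cn2 true cc2,
    List.forall_mem_cons.mpr ⟨com_of A O (k := .X3) rfl ci3 cn3 false cc3,
    List.forall_mem_cons.mpr ⟨com_of A O (k := .X4) rfl ci4 cn4 true cc4,
    List.forall_mem_cons.mpr ⟨com_of A O (k := .X5) rfl ci5 cn5 false cc5,
    List.forall_mem_cons.mpr ⟨com_of A O (k := .X6) rfl ci6 cn6 true cc6,
    List.forall_mem_cons.mpr ⟨com_of A O (k := .X7) rfl ci7 cn7 false cc7,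
    List.forall_mem_cons.mpr ⟨com_of A O (k := .X8) rfl ci8 cn8 true cc8,
    List.forall_mem_cons.mpr ⟨com_of A O (k := .X10) rfl ci9 cn9 false cc9,
    fun _ h => absurd h List.not_mem_nil⟩⟩⟩⟩⟩⟩⟩⟩⟩⟩

/-- `v R(Z0) e` is not an involution. -/
theorem P_k : P (W vs) 1 := by
  intro e he hsq
  exfalso
  have h1 := eq_chk A O chk_k
  rw [W_cons, W_append, W_cons, W_single, E_Z0] at h1
  have h2 : (W vs * Rn 1) * (W vs * Rn 1) = z := by
    calc (W vs * Rn 1) * (W vs * Rn 1) = W vs * Rn 1 * W vs * Rn 1 := by group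
      _ = z := h1
  have hC : W vs * Rn 1 ∈ C := C.mul_mem v_mem (A.grp.Q_le (Rn_mem 1))
  have h3 : (W vs * Rn 1 * e) * (W vs * Rn 1 * e) = (W vs * Rn 1) * (W vs * Rn 1) * (e * e) := by
    have h4 := he.comm A hC
    calc (W vs * Rn 1 * e) * (W vs * Rn 1 * e) = (W vs * Rn 1) * (e * (W vs * Rn 1)) * e := by group
      _ = (W vs * Rn 1) * (W vs * Rn 1) * (e * e) := by rw [← h4]; group
  rw [h3, h2, he.sq A, mul_one] at hsq
  exact A.grp.z_ne hsq

theorem good_v : F8Base.Good M (W vs) := by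
  have hab := eq_chk A O chk_ab
  have hba := eq_chk A O chk_ba
  rw [W_append] at hab hba
  have hsq : W (tw ga) * W (tw ga) = 1 := by
    rw [W_tw]
    calc W ga * M.t₀ * (W ga)⁻¹ * (W ga * M.t₀ * (W ga)⁻¹) = W ga * (M.t₀ * M.t₀) * (W ga)⁻¹ := by group
      _ = 1 := by rw [A.rep.t₀_sq]; group
  refine Or.inr ⟨W ga, W_mem_G _, W gb, W_mem_G _, ?_, ?_⟩
  · rw [← W_tw]
    calc W vs * W (tw ga) = W (tw gb) * (W (tw ga) * W (tw ga)) := by rw [← hab]; group
      _ = W (tw ga) * (W (tw ga) * W (tw gb)) := by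
        rw [hsq, mul_one, ← mul_assoc, hsq, one_mul]
      _ = W (tw ga) * W vs := by rw [hba]
  · rw [← W_tw, ← W_tw, ← hab, mul_assoc, hsq, mul_one]

theorem P_zero : P (W vs) 0 := by
  intro e he _
  rw [Rn_zero, mul_one]
  rcases he with rfl | rfl
  · rw [mul_one]; exact good_v A O
  · have h1 := eq_chk A O chk_z
    rw [W_cons, W_append, W_append, W_single, W_single] at h1
    have h2 : E .Z0 * E .Z0 = 1 := by
      have := E_linv .Z0
      change E .Z0 = (E .Z0)⁻¹ at this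
      calc E .Z0 * E .Z0 = E .Z0 * (E .Z0)⁻¹ := by rw [← this]
        _ = 1 := mul_inv_cancel _
    have h3 : W vs * z = E .Z0 * W vs * (E .Z0)⁻¹ := by
      have h4 : W vs * z = z * W vs := A.grp.z_comm _ v_mem
      rw [h4]
      show E .z * W vs = _
      rw [← h1, inv_eq_of_mul_eq_one_left h2, mul_assoc]
    rw [h3]
    refine (good_v A O).conj ?_
    rw [← W_single]; exact W_mem_G _

theorem conds {n : ℕ} {e : V ≃ₗ[ℚ] V} (he : Z2 e) (hn : ¬ F8Base.Good M (W vs * (Rn n * e)))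
    (hsq : (W vs * (Rn n * e)) * (W vs * (Rn n * e)) = 1) : ∀ q ∈ L₁, fb n q.1 = false := by
  have hl := fun {l : LaneD} (h : LaneOk l) => lane' A O h he hn
  intro q hq
  unfold L₁ at hq
  simp only [List.mem_cons, List.not_mem_nil, or_false] at hq
  rcases hq with rfl | rfl | rfl | rfl | rfl | rfl | rfl | rfl | rfl | rfl | rfl
  · exact hl ok0 0x9f rfl
  · exact hl ok1 0x8 rfl
  · exact hl ok2 0x49f rfl
  · exact hl ok3 0x80 rfl
  · exact hl ok4 0x10 rfl
  · exact hl ok5 0x20 rfl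
  · exact hl ok6 0x1 rfl
  · exact hl ok7 0x100 rfl
  · exact hl ok8 0x200 rfl
  · exact hl ok9 0x40 rfl
  · exact fb_w A O he hsq

omit A O in
theorem split {n : ℕ} (hn : n < 2 ^ 22) (hc : ∀ q ∈ L₁, fb n q.1 = false) : n = rc L₂ n ^^^ rc L₃ n := by
  have h := rc_eq dual_L hn
  rw [rc_append, rc_append, rc_zero_of hc, Nat.zero_xor] at h
  exact h.symm

theorem P_L₃ (n : ℕ) : P (W vs) (rc L₃ n) := by
  have h : rc L₃ n = (bif fb n 0x1fe800 then 1 else 0) ^^^ 0 := rfl
  rw [h, Nat.xor_zero]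
  cases fb n 0x1fe800 with
  | false => exact P_zero A O
  | true => exact P_k A O

theorem main_aux {n : ℕ} (hn22 : n < 2 ^ 22) {e : V ≃ₗ[ℚ] V} (he : Z2 e)
    (hsq : (W vs * (Rn n * e)) * (W vs * (Rn n * e)) = 1) : F8Base.Good M (W vs * (Rn n * e)) := by
  by_contra hn
  have h1 := split hn22 (conds A O he hn hsq)
  have h3 := P_rc A (com_L₂ A O) n _ (P_L₃ A O n)
  rw [← h1] at h3
  apply hn
  have e1 : W vs * (Rn n * e) = W vs * Rn n * e := (mul_assoc _ _ _).symm
  rw [e1] at hsq ⊢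
  exact h3 e he hsq

/-- The case `v p`. -/
theorem main {p : V ≃ₗ[ℚ] V} (hp : p ∈ Q) (hsq : (W vs * p) * (W vs * p) = 1) : F8Base.Good M (W vs * p) := by
  obtain ⟨n, hn22, h | h⟩ := exists_Rn hp
  · rw [h, ← mul_one (Rn n)] at hsq ⊢
    exact main_aux A O hn22 (Or.inl rfl) hsq
  · rw [h] at hsq ⊢
    exact main_aux A O hn22 (Or.inr rfl) hsq

omit A O in
theorem qs_isq : qs.all isq = true := by decide +kernel

/-- **Case (K3).** -/
theorem K3 : ∀ q ∈ M.Q, (E .y3 * E .y2 * q) * (E .y3 * E .y2 * q) = 1 → F8Base.Good M (E .y3 * E .y2 * q) := by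
  intro q hq hsq
  have hqs : W qs ∈ Q := by
    have h0 : W qs = Rn (cw qs) := W_eq_R qs qs_isq
    rw [h0]; exact Rn_mem _
  have hY : E .y3 * E .y2 ∈ C := by
    have : E .y3 * E .y2 = W [.y2, .y3] := by rw [W_cons, W_single]
    rw [this]; exact W_mem_C_of (by decide)
  have hv : W vs = W qs * (E .y3 * E .y2) := by
    show W (([.y2, .y3] : List Cfsg.Agent.BabyM.Conc.Ltr) ++ qs) = _
    rw [W_append, W_cons, W_single]
  have e : E .y3 * E .y2 * q = W vs * (((E .y3 * E .y2)⁻¹ * (W qs)⁻¹ * (E .y3 * E .y2)) * q) := by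
    rw [hv]; group
  have hp : ((E .y3 * E .y2)⁻¹ * (W qs)⁻¹ * (E .y3 * E .y2)) * q ∈ Q :=
    Q.mul_mem (A.grp.Q_normal' _ hY _ (Q.inv_mem hqs)) hq
  rw [e] at hsq ⊢
  exact main A O hp hsq

end

end Cfsg.Agent.BabyU.F8K3
end

-- part: BabyU/F8HexW
section
/-!
# F8, the 16-set case (1): word checks (helper442)

`Y = y1 y2 y5 y6 y9` (the diagonal element of a 16-set) is an involution and a transposition; its action on the Pauli
group; `Y` fixes the axis of the lane `1296`, whose transposition is `Z3`.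
-/

set_option autoImplicit false
set_option Elab.async false

namespace Cfsg.Agent.BabyU.F8HexW

open Cfsg.Agent.Lib.PermNet Cfsg.Agent.Monster Cfsg.Agent.Monster.VecEngine Cfsg.Agent.Monster.VecSpace
open Cfsg.Agent.Monster.PauliBasic Cfsg.Agent.Monster.PauliRep Cfsg.Agent.Monster.PauliClif Cfsg.Agent.Monster.PauliBits
open Cfsg.Agent.BabyM Cfsg.Agent.BabyM.KTabData Cfsg.Agent.BabyM.QAct Cfsg.Agent.BabyM.QData Cfsg.Agent.BabyM.QData.Good
open Cfsg.Agent.BabyM.Conc Cfsg.Agent.BabyM.KTab Cfsg.Agent.BabyM.KRow Cfsg.Agent.BabyM.KQ Cfsg.Agent.BabyM.TransOrd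

/-- The word of `Y`. -/
def yw : List Ltr := [.y9, .y6, .y5, .y2, .y1]

/-- `Y = y1 y2 y5 y6 y9` -/
noncomputable def Y : V ≃ₗ[ℚ] V := W yw

theorem Y_eq : E .y1 * E .y2 * E .y5 * E .y6 * E .y9 = Y := by
  unfold Y yw
  rw [W_cons, W_cons, W_cons, W_cons, W_single]

theorem Y_mem_C : Y ∈ Inst.M.C := ConcGrp.W_mem_C (v := yw) rfl

/-- Words with the same value on one vector are equal. -/
theorem eqw {w w' : List Ltr} (h : check (w.map Ltr.prog) WordsInst.vB (w'.map Ltr.prog) WordsInst.vB = true) :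
    W w = W w' :=
  WordsInst.eq_of_check Instance.all Instance.ok (TransFields.W_mem_MG _) (TransFields.W_mem_MG _) h

theorem Y_sq : Y * Y = 1 := by
  have h : W (yw ++ yw) = W [] := eqw (by decide +kernel)
  rw [W_append, W_nil] at h
  exact h

/-- `Y` is a transposition. -/
def gw : List Ltr := [.p10, .xi, .tau, .p, .h, .p, .h, .p7, .Z0, .X3, .X9]

theorem Y_trans : Y = W gw * Inst.M.t₀ * (W gw)⁻¹ := by
  have h : W yw = W (tw gw) := eqw (Cfsg.Agent.BMx.Low.chk_of_eqF (by decide +kernel))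
  rw [W_tw] at h
  exact h

/-! ### The action on the Pauli group -/

/-- The images of the generators. -/
def I_Y : ℕ := 0x2998885000cc08000004064c42028c0100000080004046c44022c8001000000800000400000200000500000080000040000420000410000008000004000402000401

/-- The word of a code. -/
def wd (m : ℕ) : List Ltr := (((List.range 22).filter fun k => m.testBit k).map qL) ++ ((if m.testBit 22 then [.z] else [] : List Cfsg.Agent.BabyM.Conc.Ltr))

theorem wd_check : ∀ k < 22, (wd (im I_Y k)).all KQ.isq = true ∧ Nat.beq (cw (wd (im I_Y k))) (im I_Y k) = true := by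
  decide +kernel

theorem rel_check : ∀ k < 22, check ((qL k :: yw).map Ltr.prog) WordsInst.vB
    ((yw ++ wd (im I_Y k)).map Ltr.prog) WordsInst.vB = true := by
  have h : ∀ k < 22, Cfsg.Agent.BMx.Low.eqF (qL k :: yw) (yw ++ wd (im I_Y k)) = true := by decide +kernel
  exact fun k hk => Cfsg.Agent.BMx.Low.chk_of_eqF (h k hk)

theorem rel (k : ℕ) (hk : k < 22) : Y * Cd.R (dec 11 (2 ^ k)) = Cd.R (dec 11 (im I_Y k)) * Y := by
  have h := eqw (rel_check k hk)
  obtain ⟨h1, h2⟩ := wd_check k hk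
  rw [W_append, W_cons, W_eq_R _ h1, Nat.eq_of_beq_eq_true h2, E_qL k hk] at h
  exact h

theorem exists_α : ∃ α : MulAut (Pauli 11), (∀ x, Y * Cd.R x = Cd.R (α x) * Y) ∧
    ∀ k < 22, α (dec 11 (2 ^ k)) = dec 11 (im I_Y k) := by
  obtain ⟨α, hα, -⟩ := KFact.fact Y Y_mem_C
  refine ⟨α, hα, fun k hk => ?_⟩
  apply Cd.R_injective
  exact mul_right_cancel ((hα _).symm.trans (rel k hk))

/-! ### A fixed axis -/

/-- The word of the axis of the lane `1296`. -/
def hw : List Ltr := [.h, .p]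

theorem Y_fix : Y (W hw Inst.M.d₀) = W hw Inst.M.d₀ := by
  have h : check ((hw ++ yw).map Ltr.prog) InstVec.dv0 (hw.map Ltr.prog) InstVec.dv0 = true := by decide +kernel
  have h1 := W_eq_of_check h
  rw [W_append, LinearEquiv.mul_apply] at h1
  rw [TransFields.d₀_eq', map_smul, map_smul]
  exact congrArg (fun x => (1 / 8 : ℚ) • x) h1

theorem hw_t₀ : W hw * Inst.M.t₀ * (W hw)⁻¹ = Cd.R (dec 11 0x8) := by
  have h : W (tw hw) = W [.Z3] := eqw (by decide +kernel)
  rw [W_tw, W_single, E_Z3] at h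
  exact h

end Cfsg.Agent.BabyU.F8HexW
end

-- part: BabyU/F8Hex
section
/-!
# F8, the 16-set case (2) (helper442)

`Y = y1 y2 y5 y6 y9`: every involution `Y q`, `q ∈ Q`, fixes a signed axis or is the product of two commuting
transpositions.

`Y` is a transposition.  If `q` is over the class of a lane, then `q` is a transposition.  If `q` commutes with the transposition
`Z3` of the lane `1296`, then `Y q` fixes its axis.  The elements `q` with `(Y q)² = 1` are over `C_V(Y)`, of dimension 16; modulo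
`[V, Y]`, of dimension 6 (conjugation by `Q`), `1024` classes are left, and the kernel checks them.
-/

set_option autoImplicit false
set_option Elab.async false

namespace Cfsg.Agent.BabyU.F8Hex

open Cfsg.Agent.Lib.PermNet Cfsg.Agent.Monster Cfsg.Agent.Monster.VecEngine Cfsg.Agent.Monster.VecSpace
open Cfsg.Agent.Monster.PauliBasic Cfsg.Agent.Monster.PauliRep Cfsg.Agent.Monster.PauliClif Cfsg.Agent.Monster.PauliBits
open Cfsg.Agent.BabyM Cfsg.Agent.BabyM.KTabData Cfsg.Agent.BabyM.QAct Cfsg.Agent.BabyM.QData Cfsg.Agent.BabyM.QData.Good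
open Cfsg.Agent.BabyM.Conc Cfsg.Agent.BabyM.KTab Cfsg.Agent.BabyM.KRow Cfsg.Agent.BabyM.KQ
open Cfsg.Agent.BabyU.F8Base Cfsg.Agent.BabyU.F8HexW

/-- The classes. -/
abbrev VV : Type := B 11 × B 11

/-- The claim for the elements over a class. -/
def P (v : VV) : Prop :=
  ∀ y : Pauli 11, ab y = v → (Y * Cd.R y) * (Y * Cd.R y) = 1 → F8Base.Good Inst.M (Y * Cd.R y)

theorem vv_add_self (v : VV) : v + v = 0 := Prod.ext (add_self _) (add_self _)

theorem R_mem (y : Pauli 11) : Cd.R y ∈ Inst.M.G := ConcGrp.C_le_G (KLink.hyp.Q_le y)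

/-! ### The three alternatives -/

/-- `Y R(y)` fixes the axis of the lane `1296` if `R(y)` does. -/
theorem good_form {y : Pauli 11} (h : Pauli.form y (dec 11 0x8) = 0) : F8Base.Good Inst.M (Y * Cd.R y) := by
  have A := Instance.all
  have hC : W hw ∈ Inst.M.C := ConcGrp.W_mem_C (v := hw) rfl
  have hQ : Cd.R y ∈ Inst.M.Q := KLink.link.mem_Q.mpr ⟨y, rfl⟩
  have hq := A.grp.Q_normal' _ hC _ hQ
  have h1 : Cd.R y * Cd.R (dec 11 0x8) = Cd.R (dec 11 0x8) * Cd.R y := by
    rw [← map_mul, (Pauli.commute_iff _ _).mpr h, map_mul]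
  have h2 : (W hw)⁻¹ * Cd.R y * W hw * Inst.M.t₀ = Inst.M.t₀ * ((W hw)⁻¹ * Cd.R y * W hw) := by
    rw [← hw_t₀] at h1
    calc (W hw)⁻¹ * Cd.R y * W hw * Inst.M.t₀ =
        (W hw)⁻¹ * (Cd.R y * (W hw * Inst.M.t₀ * (W hw)⁻¹)) * W hw := by group
      _ = (W hw)⁻¹ * ((W hw * Inst.M.t₀ * (W hw)⁻¹) * Cd.R y) * W hw := by rw [h1]
      _ = _ := by group
  have h3 : ((W hw)⁻¹ * Cd.R y * W hw) Inst.M.d₀ = Inst.M.d₀ := by
    rw [Model.BData.d₀, map_add, A.rep.Q_u₀ _ hq, A.rep.Q_e₀_pos _ hq h2]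
  refine good_of_fix (g := W hw) (ConcGrp.C_le_G hC) ?_
  have h4 : Cd.R y (W hw Inst.M.d₀) = W hw Inst.M.d₀ := by
    have h5 := congrArg (fun x => W hw x) h3
    simp only [LinearEquiv.mul_apply, apply_inv_self'] at h5
    exact h5
  rw [LinearEquiv.mul_apply, h4, Y_fix]

/-- `Y R(y)` is the product of the transpositions `Y` and `R(y)` if `y` is over the class of a lane. -/
theorem good_lane {y : Pauli 11} {j : Lane U} (hj : Cd.isX j) (h : ab y = ab (Cd.c j))
    (hu : (Y * Cd.R y) * (Y * Cd.R y) = 1) : F8Base.Good Inst.M (Y * Cd.R y) := by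
  obtain ⟨g, hg, e⟩ := (ClosQ.mem_cls_R KLink.link Instance.all Instance.tr).2 ⟨j, hj, h⟩
  have h2 : Cd.R y * Cd.R y = 1 := by
    rw [← e]
    calc g * Inst.M.t₀ * g⁻¹ * (g * Inst.M.t₀ * g⁻¹) = g * (Inst.M.t₀ * Inst.M.t₀) * g⁻¹ := by group
      _ = 1 := by rw [Instance.all.rep.t₀_sq]; group
  have h3 : Y * Cd.R y * Cd.R y = Y := by rw [mul_assoc, h2, mul_one]
  have h4 : Cd.R y * (Y * Cd.R y) = Y := by
    calc Cd.R y * (Y * Cd.R y) = Y * Y * (Cd.R y * (Y * Cd.R y)) := by rw [Y_sq, one_mul]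
      _ = Y * (Y * Cd.R y * (Y * Cd.R y)) := by simp only [mul_assoc]
      _ = Y := by rw [hu, mul_one]
  refine Or.inr ⟨g, hg, W gw, TransFields.W_mem_MG _, ?_, ?_⟩
  · rw [e, h3, h4]
  · rw [e, h3]; exact Y_trans

theorem P_lane {j : Lane U} (hj : Cd.isX j) : P (ab (Cd.c j)) := fun _ hy hu => good_lane hj hy hu

/-! ### The automorphism -/

section Alpha

variable {α : MulAut (Pauli 11)} (hα : ∀ x, Y * Cd.R x = Cd.R (α x) * Y)
include hα

theorem sq_eq (y : Pauli 11) : (Y * Cd.R y) * (Y * Cd.R y) = Cd.R (α y * y) := by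
  calc (Y * Cd.R y) * (Y * Cd.R y) = Cd.R (α y) * (Y * Y) * Cd.R y := by
        rw [hα y]; simp only [mul_assoc]
        rw [← hα y]
    _ = Cd.R (α y * y) := by rw [Y_sq, mul_one, map_mul]

theorem αα (x : Pauli 11) : α (α x) = x := by
  apply Cd.R_injective
  have h : Y * (Y * Cd.R x) = Cd.R (α (α x)) * (Y * Y) := by rw [hα x, ← mul_assoc, hα, mul_assoc]
  rw [← mul_assoc, Y_sq, one_mul, mul_one] at h
  exact h.symm

theorem conj_eq (r y : Pauli 11) : Cd.R r * (Y * Cd.R y) * (Cd.R r)⁻¹ = Y * Cd.R (α r * y * r⁻¹) := by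
  have h : Cd.R r * Y = Y * Cd.R (α r) := by rw [hα, αα hα]
  rw [← mul_assoc, h, map_mul, map_mul, map_inv]
  simp only [mul_assoc]

/-- Conjugation by `R(r)`. -/
theorem shift {v : VV} {r : Pauli 11} (h : P (v + ab (α r * r))) : P v := by
  intro y hy hu
  apply Good.of_conj (R_mem r)
  rw [conj_eq hα]
  apply h
  · have h1 : ab (r⁻¹) = ab r := by
      have h2 : ab (r * r⁻¹) = ab r + ab r⁻¹ := ab_mul _ _
      rw [mul_inv_cancel] at h2
      have h3 : ab (1 : Pauli 11) = 0 := rfl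
      rw [h3] at h2
      calc ab r⁻¹ = ab r + ab r + ab r⁻¹ := by rw [vv_add_self, zero_add]
        _ = ab r := by rw [add_assoc, ← h2, add_zero]
    rw [ab_mul, ab_mul, ab_mul, hy, h1]
    abel
  · rw [← conj_eq hα]
    calc Cd.R r * (Y * Cd.R y) * (Cd.R r)⁻¹ * (Cd.R r * (Y * Cd.R y) * (Cd.R r)⁻¹) =
        Cd.R r * ((Y * Cd.R y) * (Y * Cd.R y)) * (Cd.R r)⁻¹ := by group
      _ = 1 := by rw [hu]; group

theorem shift' {v : VV} {r : Pauli 11} (h : P v) : P (v + ab (α r * r)) := by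
  apply shift hα (r := r)
  rwa [add_assoc, vv_add_self, add_zero]

end Alpha

/-! ### Codes -/

/-- bits `0, …, 21` -/
noncomputable def low (x : ℕ) : ℕ := Nat.land x 0x3fffff

theorem low_lt (x : ℕ) : low x < 2 ^ 22 := by
  have : Nat.land x 0x3fffff ≤ 0x3fffff := Nat.and_le_right
  unfold low; omega

theorem ab_low (x : ℕ) : ab (dec 11 (low x)) = ab (dec 11 x) := by
  have h : low x = x % 2 ^ 22 := by
    show x &&& (2 ^ 22 - 1) = _
    rw [Nat.and_two_pow_sub_one_eq_mod]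
  have hb : ∀ k, k < 22 → bit (low x) k = bit x k := by
    intro k hk
    rw [h]
    unfold bit
    rw [Nat.testBit_mod_two_pow]
    simp [hk]
  refine Prod.ext ?_ ?_
  · funext i
    exact hb _ (by have := i.2; omega)
  · funext i
    exact hb _ (by have := i.2; omega)

theorem low_eq_zero {x : ℕ} : low x = 0 ↔ ab (dec 11 x) = 0 := by
  rw [← ab_low, ab_dec_eq_zero (low_lt x)]

theorem ab_eq_of_low {x y : ℕ} (h : low (Nat.xor x y) = 0) : ab (dec 11 x) = ab (dec 11 y) := by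
  have h1 := low_eq_zero.mp h
  have h2 : ab (dec 11 (x ^^^ y)) = ab (dec 11 x) + ab (dec 11 y) := KGood.ab_dec_xor x y
  have h3 : ab (dec 11 x) + ab (dec 11 y) = 0 := h2.symm.trans h1
  calc ab (dec 11 x) = ab (dec 11 x) + ab (dec 11 y) + ab (dec 11 y) := by rw [add_assoc, vv_add_self, add_zero]
    _ = ab (dec 11 y) := by rw [h3, zero_add]

theorem ab_mulK (x y : ℕ) : ab (dec 11 (mulK x y)) = ab (dec 11 x) + ab (dec 11 y) := by
  rw [mulK_eq, dec_mulN (by norm_num), ab_mul]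

/-! ### The data -/

/-- Pairs `(r, w)` with `α(r) r` over the class of `w`; the `w` are a basis of `[V, Y]`. -/
def wL : List (ℕ × ℕ) := [(0x6001, 0xc), (0x22000, 0x44), (0x42001, 0x84), (0x102000, 0x204), (0x1, 0x400), (0x244000, 0x99800)]

/-- A basis of `C_V(Y)` modulo `[V, Y]`. -/
def cL : List (ℕ × ℕ) := [(0x166000, 0x166000), (0x101, 0x101), (0x21, 0x21), (0x11, 0x11), (0x3, 0x3), (0x10000, 0x10000),
  (0x8000, 0x8000), (0x1000, 0x1000), (0x800, 0x800), (0x4, 0x4)]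

/-- A basis of `V` modulo `C_V(Y)`, with the images. -/
def dL : List (ℕ × ℕ) := [(0x1, 0x401), (0x2000, 0x4022c8), (0x4000, 0x4046c4), (0x20000, 0x42028c), (0x40000, 0x4064c),
  (0x200000, 0x299888)]

/-- The combinations of the basis elements which are the generators. -/
def selL : List (List ℕ) := [[1], [1, 3], [4], [4, 12], [1, 17], [1, 33], [4, 68], [4, 132], [1, 257], [4, 516], [1024],
  [2048], [4096], [8192], [16384], [32768], [65536], [131072], [262144], [65536, 32768, 4096, 2048, 628736],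
  [8192, 16384, 131072, 262144, 1466368], [2097152]]

/-- The lanes and combinations for the classes modulo `[V, Y]`. -/
def tabT : ℕ := 0x1628d00000001f29b0000000000000182aa00000003412f00000003d0f10000000112cc0330e800000003a0dc0000000000000310a700000003809d01a2e300000003608200000001a30d00000003602600000000000003101600000003800a00528a0000000000000092920052a800000000000002c12500000002d0f50042c200000000000002d0ef0210d20000000000000210a302d09a0000000000000042ec02d08c00000000930b00000000000002002d02c01f00000000000002000701a2820000000000000162970000000162ab03f1240000000380ff0000000000000112c80000000340e30380da0000000000000310ab03d0920000000182ed00000000000003108d00000001330803a02700000003a01200000000000003600301928500000001029e00000001b2a900000003712e0000000380fb0000000142c600000003a0e40000000330d40000000000000310af0000000380950000000162e200000003a08300000001030e00000003c02c00000003701b00000003e00e00128100000000000000429900000000f2af02f12c0000000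0000002d0fd00d2cf0000000230e00000000000000260d302f0a900000000000002a09b0000000042e802408400000000000000330c02302f00000002801400000000000002d0020022860000000022900000000022ad00000002712600000000000002d0f90000000082c100000002d0e700000002d0dd02f0ad00000002f09c00000000a2e700000002f08a00000000000000030a00000002502400000002501d00000002500f00d28e00000000d2950000000000000012ae0000000241270280f300000000d2cb0000000000000240eb0000000240d502f0a500000002f0940000000000000062e600000002308b00a30900000002f02e00000000000002301000000002300b01e28900000000000001b29c01c2ac00000000000003c12d0380f70000000000000182c503a0ec00000000000003f0db03f0a100000000000003a0930182e900000000000003808501930f00000000000003902503e01900000000000003b00600000000c28300f2930000000052a00000000000000231280270f20000000000000012c000000002e0e102d0d90000000280a200000000000002b0900000000042e002208000000000000000330402502000000002f01800000000000002c00100000001f28400000001929a0000000182a200000003b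1220370f60000000142ce0000000300e60000000360d70000000380a600000003e09700000001a2ef00000003908e00000000000001030200000003302b00000003201100000003400c00000001028c00000001629f01b2a10000000381230000000000000320fc0000000112c40390ea00000003f0df0000000380ae00000003e09f0000000000000162ee00000003508f01a30100000003902100000000000003401c00000003200800000001328b0102960000000000000162a30301290000000000000320f80142ca0000000000000370ed0340d10000000380aa00000000000003b0980182e100000000000003e08101930700000000000003f02a03901500000000000003a00500000001b28f0000000142910122a500000003812b0000000370fe00000001d2c300000000000003e0e90000000310d60000000360ac00000003909601a2eb00000003008600000001a30500000003002900000000000003601a00000003900900000001828801229800000000000001f2a70301210000000370fa0000000000000182cd0300ee00000000000003a0d80000000360a803c0910000000000000142e403b08800000001930300000000000003602203b01300000000000003100400000000728000d29d00000000c2a400000000000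00231200000000220f000d2c70000000290e20000000000000230d00000000260a002c0990000000082e500000000000002708900000000330002c02800000002d01e00000000000002700000000001428700000001b2940000000112a600000003b12a0000000320f40000000182c90000000370e50000000380de0000000360a400000003909e0000000162ea00000003c08700000001030600000003a02300000003001700000003f00d0000000000000000000000000000000000000000000000000000000000000000000000000000000000000000000000000000000000000000000000000000000000000000000000000000000000000000000000000000000000000000000000000000000000000000000000000000000000000000000000000000000000000000000000000000000000000000000000000000000000000000000000000000000000000000000000000000000000000000000000000000000000000000000000000000000000000000000000000000000000000000000000000000000000000000000000000000000000000000000000000000000000000000000000000000000000000000000000000000000000000000000000000000000000000000000000000000000000000000000000000000000000000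00000000000000000000000000000000000000000000000000000000000000000000000000000000000000000000000000000000000000000000000000000000000000000000000000000000000000000000000000000000000000000000000000000000000000000000000000000000000000000000000000000000000000000000000000000000000000000000000000000000000000000000000000000000000000000000000000000000000000000000000000000000000000000000000000000000000000000000000000000000000000000000000000000000000000000000000000000000000000000000000000000000000000000000000000000000000000000000000000000000000000000000000000000000000000000000000000000000000000000000000000000000000000000000000000000000000000000000000000000000000000000000000000000000000000000000000000000000000000000000000000000000000000000000000000000000000000000000000000000000000000000000000000000000000000000000000000000000000000000000000000000000000000000000000000000000000000000000000000000000000000000000000000000000000000000000000000000000000000000000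00000000000000000000000000000000000000000000000000000000000000000000000000000000000000000000000000000000000000000000000000000000000000000000000000000000000000000000000000000000000000000000000000000000000000000000000000000000000000000000000000000000000000000000000000000000000000000000000000000000000000000000000000000000000000000000000000000000000000000000000000000000000000000000000000000000000000000000000000000000000000000000000000000000000000000000000000000000000000000000000000000000000000000000000000000000000000000000000000000000000000000000000000000000000000000000000000000000000000000000000000000000000000000000000000000000000000000000000000000000000000000000000000000000000000000000000000000000000000000000000000000000000000000000000000000000000000000000000000000000000000000000000000000000000000000000000000000000000000000000000000000000000000000000000000000000000000000000000000000000000000000000000000000000000000000000000000000000000000000000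0000000000000000000000000000000000000000000000000000000000000000000000000000000000000000000000000000000000000000000000000000000000000000000000000000000000000000000000000000000000000000000000000000000000000000000000000000000000000000000000000000000000000000000000000000000000000000000000000000000000000000000000000000000000000000000000000000000000000000000000000000000000000000000000000000000000000000000000000000000000000000000000000000000000000000000000000000000000000000000000000000000000000000000000000000000000000000000000000000000000000000000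

/-- all basis elements -/
def bs : List ℕ := dL.map Prod.fst ++ (cL.map Prod.fst ++ wL.map Prod.snd)

/-- exclusive or of a list -/
def xors (l : List ℕ) : ℕ := l.foldr (fun a b => Nat.xor a b) 0

theorem sel_check : ∀ k < 22, ((selL.getD k []).all fun c => bs.elem c) = true ∧ xors (selL.getD k []) = 2 ^ k := by
  decide +kernel

theorem w_check : ∀ p ∈ wL, wfold (fun k => 2 ^ k) p.1 pos 0 = p.1 ∧
    low (Nat.xor (mulK (wfold (im I_Y) p.1 pos 0) p.1) p.2) = 0 := by
  decide +kernel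

theorem c_check : ∀ p ∈ cL, wfold (fun k => 2 ^ k) p.1 pos 0 = p.1 ∧ wfold (im I_Y) p.1 pos 0 = p.2 ∧ p.2 = p.1 := by
  decide +kernel

theorem d_check : ∀ p ∈ dL, wfold (fun k => 2 ^ k) p.1 pos 0 = p.1 ∧ wfold (im I_Y) p.1 pos 0 = p.2 := by
  decide +kernel

/-- combination of the `w` -/
noncomputable def cmb (e : ℕ) : List (ℕ × ℕ) → ℕ :=
  List.rec (motive := fun _ => ℕ) 0 (fun p l ih => Nat.xor (Bool.rec 0 p.2 (KRow.tb e (Nat.sub 5 l.length))) ih)

/-- The class of `m` is the class of a lane modulo `[V, Y]`. -/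
noncomputable def laneOK (n m : ℕ) : Bool :=
  (fun e => (fun j => and (KRow.tb U j) (and (Nat.blt j 4096) (and (not (Nat.beq (cd j) 0))
    (Nat.beq (low (Nat.xor (Nat.xor (cd j) (cmb (Nat.shiftRight e 12) wL)) m)) 0))))
    (Nat.land e 0xfff)) (fld tabT 24 0xffffff n)

/-- The check of one class. -/
noncomputable def leaf (n m am : ℕ) : Bool :=
  or (or (not (Nat.beq (low (mulK am m)) 0)) (KRow.tb (mulK am m) 22)) (or (not (KRow.tb m 14)) (laneOK n m))

/-- The check of the combinations of a list. -/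
noncomputable def tree : List (ℕ × ℕ) → ℕ → ℕ → ℕ → Bool :=
  List.rec (motive := fun _ => ℕ → ℕ → ℕ → Bool) (fun n m am => leaf n m am)
    (fun p _ ih n m am => and (ih (Nat.mul 2 n) m am)
      (seqB (mulK m p.1) fun m' => seqB (mulK am p.2) fun am' => ih (Nat.add (Nat.mul 2 n) 1) m' am'))

/-- The check that no nonzero combination is fixed. -/
noncomputable def dtree : List (ℕ × ℕ) → ℕ → ℕ → Bool :=
  List.rec (motive := fun _ => ℕ → ℕ → Bool) (fun m am => or (Nat.beq m 0) (not (Nat.beq (low (Nat.xor am m)) 0)))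
    (fun p _ ih m am => and (ih m am) (seqB (mulK m p.1) fun m' => seqB (mulK am p.2) fun am' => ih m' am'))

theorem tree_check : tree cL 0 0 0 = true := by decide +kernel

theorem dtree_check : dtree dL 0 0 = true := by decide +kernel

/-! ### Soundness -/

section Sound

variable {α : MulAut (Pauli 11)} (hα : ∀ x, Y * Cd.R x = Cd.R (α x) * Y)
  (hI : ∀ k < 22, α (dec 11 (2 ^ k)) = dec 11 (im I_Y k))

include hI in
theorem α_dec {m : ℕ} (hm : wfold (fun k => 2 ^ k) m pos 0 = m) : α (dec 11 m) = dec 11 (wfold (im I_Y) m pos 0) := by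
  have h := wfold_sound hI m pos (by decide) 0 0 (by rw [dec_zero, map_one])
  rwa [hm] at h

include hα hI in
/-- The classes of `[V, Y]` are free. -/
theorem free_mem {p : ℕ × ℕ} (hp : p ∈ wL) {v : VV} (h : P v) : P (v + ab (dec 11 p.2)) := by
  obtain ⟨h1, h2⟩ := w_check p hp
  have h3 : ab (α (dec 11 p.1) * dec 11 p.1) = ab (dec 11 p.2) := by
    rw [α_dec hI h1, ← ab_eq_of_low h2, ab_mulK, ab_mul]
  rw [← h3]
  exact shift' hα h

/-- The span of the `w`. -/
def spW : Submodule (ZMod 2) VV := Submodule.span (ZMod 2) {x | ∃ p ∈ wL, x = ab (dec 11 p.2)}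

/-- The span of the `c`. -/
def spC : Submodule (ZMod 2) VV := Submodule.span (ZMod 2) {x | ∃ p ∈ cL, x = ab (dec 11 p.1)}

/-- The span of the `d`. -/
def spD : Submodule (ZMod 2) VV := Submodule.span (ZMod 2) {x | ∃ p ∈ dL, x = ab (dec 11 p.1)}

include hα hI in
theorem free {w : VV} (hw : w ∈ spW) : ∀ {v : VV}, P v → P (v + w) := by
  unfold spW at hw
  induction hw using Submodule.span_induction with
  | mem x hx =>
    obtain ⟨p, hp, rfl⟩ := hx
    intro v hv
    exact free_mem hα hI hp hv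
  | zero => intro v hv; rwa [add_zero]
  | add x y _ _ hx hy => intro v hv; rw [← add_assoc]; exact hy (hx hv)
  | smul a x _ hx =>
    intro v hv
    rcases zmod2_cases a with h | h
    · rw [h, zero_smul, add_zero]; exact hv
    · rw [h, one_smul]; exact hx hv

theorem cmb_mem (e : ℕ) : ∀ l : List (ℕ × ℕ), (∀ p ∈ l, p ∈ wL) → ab (dec 11 (cmb e l)) ∈ spW := by
  intro l
  induction l with
  | nil =>
    intro _
    show ab (dec 11 0) ∈ spW
    rw [dec_zero]; exact zero_mem _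
  | cons p l ih =>
    intro hl
    show ab (dec 11 ((Bool.rec 0 p.2 (KRow.tb e (Nat.sub 5 l.length)) : ℕ) ^^^ cmb e l)) ∈ spW
    rw [KGood.ab_dec_xor]
    refine add_mem ?_ (ih fun q hq => hl q (List.mem_cons_of_mem _ hq))
    cases KRow.tb e (Nat.sub 5 l.length) with
    | false =>
      show ab (dec 11 0) ∈ spW
      rw [dec_zero]; exact zero_mem _
    | true => exact Submodule.subset_span ⟨p, hl p List.mem_cons_self, rfl⟩

theorem form_8 (m : ℕ) (y : Pauli 11) (hy : ab y = ab (dec 11 m)) (h : KRow.tb m 14 = false) :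
    Pauli.form y (dec 11 0x8) = 0 := by
  have h8 : dec 11 0x8 = ⟨0, 0, PauliGates.dl 3⟩ := dec_Z (n := 11) 3
  have ha : y.a = (dec 11 m).a := congrArg Prod.fst hy
  have h1 : (dec 11 m).a 3 = 0 := by
    show bit m (11 + 3) = 0
    rw [KRow.tb_eq] at h
    unfold bit
    simp only [h]
    rfl
  rw [h8]
  unfold Pauli.form
  rw [dotProduct_zero, zero_add, ha]
  show PauliGates.dl 3 ⬝ᵥ (dec 11 m).a = 0
  rw [show PauliGates.dl (3 : Fin 11) = Pi.single 3 1 from rfl, single_dotProduct, one_mul, h1]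

include hα hI in
/-- Soundness of the check of one class. -/
theorem leaf_sound {n m am : ℕ} (h : leaf n m am = true) (hm : α (dec 11 m) = dec 11 am) : P (ab (dec 11 m)) := by
  unfold leaf at h
  rw [Bool.or_eq_true, Bool.or_eq_true, Bool.or_eq_true] at h
  intro y hy hu
  have h1 : dec 11 (mulK am m) = 1 := by
    rw [mulK_eq, dec_mulN (by norm_num), ← hm]
    rw [sq_eq hα] at hu
    have h2 : α y * y = 1 := Cd.R_injective (by rw [hu, map_one])
    rw [← h2]
    rcases (ab_eq_iff _ _).mp hy with h3 | h3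
    · rw [h3]
    · rw [h3, map_mul, aut_z]
      calc α (dec 11 m) * dec 11 m = Pauli.z 11 * Pauli.z 11 * (α (dec 11 m) * dec 11 m) := by
            rw [Pauli.z_sq, one_mul]
        _ = Pauli.z 11 * (Pauli.z 11 * α (dec 11 m)) * dec 11 m := by simp only [mul_assoc]
        _ = Pauli.z 11 * (α (dec 11 m) * Pauli.z 11) * dec 11 m := by
            rw [show Pauli.z 11 * α (dec 11 m) = α (dec 11 m) * Pauli.z 11 by rw [Pauli.mul_z, Pauli.z_mul]]
        _ = _ := by simp only [mul_assoc]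
  rcases h with (h | h) | h | h
  · exfalso
    have h2 : low (mulK am m) = 0 := by rw [low_eq_zero, h1]; rfl
    rw [h2] at h
    exact absurd h (by decide)
  · exfalso
    have h2 : bit (mulK am m) 22 = 0 := congrArg Pauli.s h1
    rw [KRow.tb_eq, ← bit_eq_one_iff, h2] at h
    exact absurd h (by decide)
  · apply good_form
    refine form_8 m y hy ?_
    cases h2 : KRow.tb m 14 with
    | false => rfl
    | true => rw [h2] at h; exact absurd h (by decide)
  · revert hu
    suffices hP : P (ab (dec 11 m)) from fun hu => hP y hy hu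
    have h2 : and (KRow.tb U (Nat.land (fld tabT 24 0xffffff n) 0xfff))
      (and (Nat.blt (Nat.land (fld tabT 24 0xffffff n) 0xfff) 4096)
        (and (not (Nat.beq (cd (Nat.land (fld tabT 24 0xffffff n) 0xfff)) 0))
        (Nat.beq (low (Nat.xor (Nat.xor (cd (Nat.land (fld tabT 24 0xffffff n) 0xfff))
          (cmb (Nat.shiftRight (fld tabT 24 0xffffff n) 12) wL)) m)) 0))) = true := h
    set j := Nat.land (fld tabT 24 0xffffff n) 0xfff with hj
    set k := Nat.shiftRight (fld tabT 24 0xffffff n) 12 with hk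
    rw [Bool.and_eq_true, Bool.and_eq_true, Bool.and_eq_true] at h2
    obtain ⟨c1, c2, c3, c4⟩ := h2
    rw [KRow.tb_eq] at c1
    have hj2 : j < 4096 := by simpa [Nat.blt] using c2
    have hcj : cd j ≠ 0 := by
      intro hh
      rw [hh] at c3
      exact absurd c3 (by decide)
    have h5 := ab_eq_of_low (Nat.eq_of_beq_eq_true c4)
    have h6 : ab (dec 11 (cd j ^^^ cmb k wL)) = ab (dec 11 (cd j)) + ab (dec 11 (cmb k wL)) := KGood.ab_dec_xor _ _
    rw [← h5]
    rw [show Nat.xor (cd j) (cmb k wL) = cd j ^^^ cmb k wL from rfl, h6]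
    exact free hα hI (cmb_mem k wL fun p hp => hp) (P_lane (j := ⟨j, c1⟩) (isX_iff.mpr ⟨hj2, hcj⟩))

theorem mem_span_cons {p : ℕ × ℕ} {l : List (ℕ × ℕ)} {v : VV}
    (hv : v ∈ Submodule.span (ZMod 2) {x : VV | ∃ q ∈ p :: l, x = ab (dec 11 q.1)}) :
    ∃ s ∈ Submodule.span (ZMod 2) {x : VV | ∃ q ∈ l, x = ab (dec 11 q.1)}, v = s ∨ v = ab (dec 11 p.1) + s := by
  have hS : {x : VV | ∃ q ∈ p :: l, x = ab (dec 11 q.1)} =
      insert (ab (dec 11 p.1)) {x : VV | ∃ q ∈ l, x = ab (dec 11 q.1)} := by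
    ext x
    simp only [List.mem_cons, Set.mem_ofPred_eq, Set.mem_insert_iff]
    constructor
    · rintro ⟨q, rfl | hq, rfl⟩
      · exact Or.inl rfl
      · exact Or.inr ⟨q, hq, rfl⟩
    · rintro (rfl | ⟨q, hq, rfl⟩)
      · exact ⟨p, Or.inl rfl, rfl⟩
      · exact ⟨q, Or.inr hq, rfl⟩
  rw [hS, Submodule.mem_span_insert] at hv
  obtain ⟨a, s, hs, rfl⟩ := hv
  refine ⟨s, hs, ?_⟩
  rcases zmod2_cases a with h | h
  · left; rw [h, zero_smul, zero_add]
  · right; rw [h, one_smul]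

include hα hI in
theorem tree_sound : ∀ (l : List (ℕ × ℕ)), (∀ p ∈ l, α (dec 11 p.1) = dec 11 p.2) → ∀ n m am, tree l n m am = true →
    α (dec 11 m) = dec 11 am → ∀ v ∈ Submodule.span (ZMod 2) {x : VV | ∃ q ∈ l, x = ab (dec 11 q.1)},
      P (ab (dec 11 m) + v) := by
  intro l
  induction l with
  | nil =>
    intro _ n m am h hm v hv
    have h0 : {x : VV | ∃ q ∈ ([] : List (ℕ × ℕ)), x = ab (dec 11 q.1)} = ∅ := by
      ext x; simp
    rw [h0, Submodule.span_empty, Submodule.mem_bot] at hv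
    rw [hv, add_zero]
    exact leaf_sound hα hI h hm
  | cons p l ih =>
    intro hl n m am h hm v hv
    have h' : and (tree l (2 * n) m am) (seqB (mulK m p.1) fun m' => seqB (mulK am p.2) fun am' =>
      tree l (2 * n + 1) m' am') = true := h
    rw [Bool.and_eq_true, seqB_eq, seqB_eq] at h'
    have hl' : ∀ q ∈ l, α (dec 11 q.1) = dec 11 q.2 := fun q hq => hl q (List.mem_cons_of_mem _ hq)
    obtain ⟨s, hs, rfl | rfl⟩ := mem_span_cons hv
    · exact ih hl' _ _ _ h'.1 hm _ hs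
    · have h2 := ih hl' _ _ _ h'.2 (by
        rw [mulK_eq, mulK_eq, dec_mulN (by norm_num), dec_mulN (by norm_num), map_mul, hm, hl p List.mem_cons_self]) _ hs
      rwa [ab_mulK, add_assoc] at h2

include hα hI in
theorem P_spC {v : VV} (hv : v ∈ spC) : P v := by
  have h := tree_sound hα hI cL (fun p hp => by
    obtain ⟨h1, h2, -⟩ := c_check p hp
    rw [α_dec hI h1, h2]) 0 0 0 tree_check (by rw [dec_zero, map_one]) v hv
  rwa [dec_zero, show ab (1 : Pauli 11) = 0 from rfl, zero_add] at h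

/-- fixed classes -/
def Fx (α : MulAut (Pauli 11)) (v : VV) : Prop := ∀ y, ab y = v → ab (α y) = v

theorem fx_of {α : MulAut (Pauli 11)} {y : Pauli 11} (h : ab (α y) = ab y) : Fx α (ab y) := by
  intro y' hy'
  rw [ab_aut_congr α hy', h]

theorem fx_add {α : MulAut (Pauli 11)} {v w : VV} (hv : Fx α v) (hw : Fx α w) : Fx α (v + w) := by
  have h1 : ab ((⟨0, v.1, v.2⟩ : Pauli 11) * ⟨0, w.1, w.2⟩) = v + w := by rw [ab_mul]; rfl
  rw [← h1]
  apply fx_of
  rw [map_mul, ab_mul, hv _ rfl, hw _ rfl, h1]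

theorem fx_span {α : MulAut (Pauli 11)} {S : Set VV} (hS : ∀ v ∈ S, Fx α v) {v : VV} (hv : v ∈ Submodule.span (ZMod 2) S) :
    Fx α v := by
  induction hv using Submodule.span_induction with
  | mem x hx => exact hS x hx
  | zero =>
    have h : ab (1 : Pauli 11) = 0 := rfl
    rw [← h]; apply fx_of; rw [map_one]
  | add x y _ _ hx hy => exact fx_add hx hy
  | smul a x _ hx =>
    rcases zmod2_cases a with h | h
    · rw [h, zero_smul]
      have h : ab (1 : Pauli 11) = 0 := rfl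
      rw [← h]; apply fx_of; rw [map_one]
    · rw [h, one_smul]; exact hx

end Sound

theorem dtree_sound {α : MulAut (Pauli 11)} : ∀ (l : List (ℕ × ℕ)), (∀ p ∈ l, α (dec 11 p.1) = dec 11 p.2) →
    ∀ m am, dtree l m am = true → α (dec 11 m) = dec 11 am →
    ∀ v ∈ Submodule.span (ZMod 2) {x : VV | ∃ q ∈ l, x = ab (dec 11 q.1)},
      Fx α (ab (dec 11 m) + v) → ab (dec 11 m) + v = 0 := by
  intro l
  induction l with
  | nil =>
    intro _ m am h hm v hv hf
    have h0 : {x : VV | ∃ q ∈ ([] : List (ℕ × ℕ)), x = ab (dec 11 q.1)} = ∅ := by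
      ext x; simp
    rw [h0, Submodule.span_empty, Submodule.mem_bot] at hv
    rw [hv, add_zero] at hf ⊢
    have h' : or (Nat.beq m 0) (not (Nat.beq (low (Nat.xor am m)) 0)) = true := h
    rw [Bool.or_eq_true] at h'
    rcases h' with h' | h'
    · rw [Nat.eq_of_beq_eq_true h', dec_zero]; rfl
    · exfalso
      have h1 := hf _ rfl
      rw [hm] at h1
      have h2 : low (Nat.xor am m) = 0 := by
        rw [low_eq_zero]
        show ab (dec 11 (am ^^^ m)) = 0
        rw [KGood.ab_dec_xor, h1, vv_add_self]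
      rw [h2] at h'
      exact absurd h' (by decide)
  | cons p l ih =>
    intro hl m am h hm v hv hf
    have h' : and (dtree l m am) (seqB (mulK m p.1) fun m' => seqB (mulK am p.2) fun am' => dtree l m' am') = true := h
    rw [Bool.and_eq_true, seqB_eq, seqB_eq] at h'
    have hl' : ∀ q ∈ l, α (dec 11 q.1) = dec 11 q.2 := fun q hq => hl q (List.mem_cons_of_mem _ hq)
    obtain ⟨s, hs, rfl | rfl⟩ := mem_span_cons hv
    · exact ih hl' _ _ h'.1 hm _ hs hf
    · have h2 := ih hl' _ _ h'.2 (by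
        rw [mulK_eq, mulK_eq, dec_mulN (by norm_num), dec_mulN (by norm_num), map_mul, hm, hl p List.mem_cons_self]) _ hs
      rw [ab_mulK, add_assoc] at h2
      exact h2 hf

theorem spD_zero {α : MulAut (Pauli 11)} (hI : ∀ k < 22, α (dec 11 (2 ^ k)) = dec 11 (im I_Y k))
    {v : VV} (hv : v ∈ spD) (hf : Fx α v) : v = 0 := by
  have h0 : ab (dec 11 0) = 0 := by rw [dec_zero]; rfl
  have h := dtree_sound dL (fun p hp => by
    obtain ⟨h1, h2⟩ := d_check p hp
    rw [α_dec hI h1, h2]) 0 0 dtree_check (by rw [dec_zero, map_one]) v hv (by rw [h0, zero_add]; exact hf)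
  rwa [h0, zero_add] at h

theorem spC_fx {α : MulAut (Pauli 11)} (hI : ∀ k < 22, α (dec 11 (2 ^ k)) = dec 11 (im I_Y k))
    {v : VV} (hv : v ∈ spC) : Fx α v := by
  refine fx_span ?_ hv
  rintro _ ⟨p, hp, rfl⟩
  obtain ⟨h1, h2, h3⟩ := c_check p hp
  apply fx_of
  rw [α_dec hI h1, h2, h3]

theorem spW_fx {α : MulAut (Pauli 11)} (hα : ∀ x, Y * Cd.R x = Cd.R (α x) * Y)
    (hI : ∀ k < 22, α (dec 11 (2 ^ k)) = dec 11 (im I_Y k)) {v : VV} (hv : v ∈ spW) : Fx α v := by
  refine fx_span ?_ hv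
  rintro _ ⟨p, hp, rfl⟩
  obtain ⟨h1, h2⟩ := w_check p hp
  have h3 : ab (α (dec 11 p.1) * dec 11 p.1) = ab (dec 11 p.2) := by
    rw [α_dec hI h1, ← ab_eq_of_low h2, ab_mulK, ab_mul]
  rw [← h3]
  apply fx_of
  rw [map_mul, αα hα, ab_mul, ab_mul, add_comm]

/-! ### The basis -/

theorem xors_mem {S : Submodule (ZMod 2) VV} (l : List ℕ) (h : ∀ c ∈ l, ab (dec 11 c) ∈ S) : ab (dec 11 (xors l)) ∈ S := by
  induction l with
  | nil =>
    show ab (dec 11 0) ∈ S
    rw [dec_zero]; exact zero_mem _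
  | cons c l ih =>
    show ab (dec 11 (c ^^^ xors l)) ∈ S
    rw [KGood.ab_dec_xor]
    exact add_mem (h c List.mem_cons_self) (ih fun d hd => h d (List.mem_cons_of_mem _ hd))

theorem bs_mem {c : ℕ} (hc : c ∈ bs) : ab (dec 11 c) ∈ spD ⊔ (spC ⊔ spW) := by
  unfold bs at hc
  rw [List.mem_append, List.mem_append, List.mem_map, List.mem_map, List.mem_map] at hc
  rcases hc with ⟨p, hp, rfl⟩ | ⟨p, hp, rfl⟩ | ⟨p, hp, rfl⟩
  · exact Submodule.mem_sup_left (Submodule.subset_span ⟨p, hp, rfl⟩)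
  · exact Submodule.mem_sup_right (Submodule.mem_sup_left (Submodule.subset_span ⟨p, hp, rfl⟩))
  · exact Submodule.mem_sup_right (Submodule.mem_sup_right (Submodule.subset_span ⟨p, hp, rfl⟩))

theorem ab_mem (y : Pauli 11) : ab y ∈ spD ⊔ (spC ⊔ spW) := by
  have hy : y ∈ Subgroup.closure {x : Pauli 11 | ∃ k < 22, x = dec 11 (2 ^ k)} := by rw [closure_gens]; trivial
  induction hy using Subgroup.closure_induction with
  | mem x hx =>
    obtain ⟨k, hk, rfl⟩ := hx
    obtain ⟨h1, h2⟩ := sel_check k hk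
    rw [← h2]
    apply xors_mem
    intro c hc
    rw [List.all_eq_true] at h1
    exact bs_mem (List.elem_iff.mp (h1 c hc))
  | one => exact zero_mem _
  | mul a b _ _ ha hb => rw [ab_mul]; exact add_mem ha hb
  | inv a _ ha =>
    have h2 : ab (a * a⁻¹) = ab a + ab a⁻¹ := ab_mul _ _
    rw [mul_inv_cancel] at h2
    have h3 : ab (1 : Pauli 11) = 0 := rfl
    rw [h3] at h2
    have h4 : ab a⁻¹ = ab a := by
      calc ab a⁻¹ = ab a + ab a + ab a⁻¹ := by rw [vv_add_self, zero_add]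
        _ = ab a := by rw [add_assoc, ← h2, add_zero]
    rw [h4]; exact ha

theorem good_R {y : Pauli 11} (hu : (Y * Cd.R y) * (Y * Cd.R y) = 1) : F8Base.Good Inst.M (Y * Cd.R y) := by
  obtain ⟨α, hα, hI⟩ := exists_α
  have h1 : α y * y = 1 := by
    rw [sq_eq hα] at hu
    exact Cd.R_injective (by rw [hu, map_one])
  have h2 : Fx α (ab y) := by
    apply fx_of
    have h3 : ab (α y * y) = ab (α y) + ab y := ab_mul _ _
    rw [h1] at h3
    have h4 : ab (1 : Pauli 11) = 0 := rfl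
    rw [h4] at h3
    calc ab (α y) = ab (α y) + ab y + ab y := by rw [add_assoc, vv_add_self, add_zero]
      _ = ab y := by rw [← h3, zero_add]
  obtain ⟨d, hd, x, hx, e⟩ := Submodule.mem_sup.mp (ab_mem y)
  obtain ⟨c, hc, w, hw, rfl⟩ := Submodule.mem_sup.mp hx
  have h5 : Fx α (c + w) := fx_add (spC_fx hI hc) (spW_fx hα hI hw)
  have h6 : Fx α d := by
    have h7 := fx_add h2 h5
    rw [← e, add_assoc, vv_add_self, add_zero] at h7
    exact h7
  have h8 := spD_zero hI hd h6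
  rw [h8, zero_add] at e
  exact free hα hI hw (P_spC hα hI hc) y e.symm hu

/-- **F8, the 16-set case.** -/
theorem good_Y : ∀ q ∈ Inst.M.Q, (Y * q) * (Y * q) = 1 → F8Base.Good Inst.M (Y * q) := by
  intro q hq hu
  obtain ⟨y, rfl⟩ := KLink.link.mem_Q.mp hq
  exact good_R hu

theorem good_hex : ∀ q ∈ Inst.M.Q,
    (E .y1 * E .y2 * E .y5 * E .y6 * E .y9 * q) * (E .y1 * E .y2 * E .y5 * E .y6 * E .y9 * q) = 1 →
    F8Base.Good Inst.M (E .y1 * E .y2 * E .y5 * E .y6 * E .y9 * q) := by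
  rw [Y_eq]; exact good_Y

end Cfsg.Agent.BabyU.F8Hex
end

-- part: BabyU/F8Main
section
/-!
# F8 for the model of the Baby Monster: assembly

`main` : every involution of `G` fixes a signed axis or is the product of two commuting transpositions;
`classes` : the field of `Clos.Inner`.
-/

set_option autoImplicit false

namespace Cfsg.Agent.BabyU.F8Main

open Cfsg.Agent.BabyM Cfsg.Agent.BabyM.Model Cfsg.Agent.BabyM.Conc Cfsg.Agent.BabyU.F8Base

/-- **F8.** -/
theorem main : ∀ u ∈ Inst.M.G, u * u = 1 → Good Inst.M u := by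
  intro u hu h2
  obtain ⟨g, hg, hgC⟩ := F8Index.exists_conj_C Instance.all hu h2
  refine Good.of_conj hg ?_
  set x := g * u * g⁻¹ with hx
  have hx2 : x * x = 1 := by
    rw [hx, show g * u * g⁻¹ * (g * u * g⁻¹) = g * (u * u) * g⁻¹ by group, h2]
    group
  rcases F8Class.reduce KLink.link hgC hx2 with hQ | ⟨k, hk, q, hq, h⟩
  · obtain ⟨L, hL, hodd, hp, -⟩ := F8K1.rel7 Instance.all Instance.ok
    refine good_odd Instance.all hgC L hL (fun g hg => ?_) hodd hp
    exact Instance.all.Q_U x hQ _ (Instance.all.C_U g (hL g hg) _ Instance.all.u₀_mem)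
  · have hkG := Instance.all.C_le_G hk
    refine Good.of_conj hkG ?_
    have hy2 : (k * x * k⁻¹) * (k * x * k⁻¹) = 1 := by
      rw [show k * x * k⁻¹ * (k * x * k⁻¹) = k * (x * x) * k⁻¹ by group, hx2]
      group
    rcases h with h | h | h
    · rw [h] at hy2 ⊢
      exact F8K1.K1 Instance.all Instance.ok q hq hy2
    · rw [h] at hy2 ⊢
      exact F8Hex.good_hex q hq hy2
    · rw [h] at hy2 ⊢
      exact F8K3.K3 Instance.all Instance.ok q hq hy2

/-- The field `classes` of `Clos.Inner`. -/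
theorem classes {Mt : Subgroup (V ≃ₗ[ℚ] V)} (hM : ∀ g ∈ Inst.M.G, g Inst.M.d₀ = Inst.M.d₀ → g ∈ Mt) :
    ∀ u ∈ Inst.M.G, u * u = 1 → u ≠ 1 → (∃ h ∈ Inst.M.G, h⁻¹ * u * h ∈ Mt) ∨
      ∃ d ∈ Clos.cls Inst.M.G Inst.M.t₀, u * d = d * u ∧ u * d ∈ Clos.cls Inst.M.G Inst.M.t₀ := by
  intro u hu h2 _
  rcases main u hu h2 with ⟨g, hg, h⟩ | ⟨g, hg, g', hg', h1, h3⟩
  · exact Or.inl ⟨g, hg, hM _ (Inst.M.G.mul_mem (Inst.M.G.mul_mem (Inst.M.G.inv_mem hg) hu) hg) h⟩
  · exact Or.inr ⟨_, ⟨g, hg, rfl⟩, h1, ⟨g', hg', h3.symm⟩⟩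

/-- The field `classes` of `Clos.Inner` inside the group `G`. -/
theorem classes' {Mt : Subgroup Inst.M.G} (hM : ∀ g : Inst.M.G, (g : V ≃ₗ[ℚ] V) Inst.M.d₀ = Inst.M.d₀ → g ∈ Mt)
    {t : Inst.M.G} (ht : (t : V ≃ₗ[ℚ] V) = Inst.M.t₀) :
    ∀ u ∈ (⊤ : Subgroup Inst.M.G), u * u = 1 → u ≠ 1 → (∃ h ∈ (⊤ : Subgroup Inst.M.G), h⁻¹ * u * h ∈ Mt) ∨
      ∃ d ∈ Clos.cls (⊤ : Subgroup Inst.M.G) t, u * d = d * u ∧ u * d ∈ Clos.cls (⊤ : Subgroup Inst.M.G) t := by
  intro u _ h2 _
  rcases main u u.2 (congrArg Subtype.val h2) with ⟨g, hg, h⟩ | ⟨g, hg, g', hg', h1, h3⟩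
  · exact Or.inl ⟨⟨g, hg⟩, Subgroup.mem_top _, hM _ h⟩
  · refine Or.inr ⟨(⟨g, hg⟩ * t * ⟨g, hg⟩⁻¹ :), ⟨⟨g, hg⟩, Subgroup.mem_top _, rfl⟩, Subtype.ext ?_, ⟨⟨g', hg'⟩,
      Subgroup.mem_top _, Subtype.ext ?_⟩⟩
    · show (u : V ≃ₗ[ℚ] V) * (g * t * g⁻¹) = g * t * g⁻¹ * u
      rw [ht]; exact h1
    · show g' * (t : V ≃ₗ[ℚ] V) * g'⁻¹ = u * (g * t * g⁻¹)
      rw [ht]; exact h3.symm

end Cfsg.Agent.BabyU.F8Main
end

-- part: BabyU/ClosModelInst
section
/-!
# Closing for the Baby Monster: the facts on pairs of axes in the concrete model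
-/

set_option autoImplicit false
set_option Elab.async false

namespace Cfsg.Agent.BabyU.ClosModelInst

open Cfsg.Agent.Lib.PermNet Cfsg.Agent.Monster.VecEngine Cfsg.Agent.Monster.VecSpace Cfsg.Agent.BabyM.Conc
  Cfsg.Agent.BabyM.ConcGrp Cfsg.Agent.BabyM.TransInv Cfsg.Agent.BabyM.Inst Cfsg.Agent.BabyM.Model
  Cfsg.Agent.BabyM.InstVec Cfsg.Agent.BabyM.InstZ Cfsg.Agent.BabyM.TransCover Cfsg.Agent.BabyM.TransData
  Cfsg.Agent.BabyM.TransOrd Cfsg.Agent.BabyM.TransFields Cfsg.Agent.BabyU.ClosModel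


/-- the transposition of the axis `W h d₀` moves the vector `x` -/
noncomputable def neCheck (lanes : List ℕ) (h : List Ltr) (x : Pl) : Bool :=
  runL ((tw h).map Ltr.prog) x fun y => lanes.any fun i => U.testBit i && !decide (val y i = val x i)

theorem ne_sound {lanes : List ℕ} {h : List Ltr} {x : Pl} (hc : neCheck lanes h x = true) :
    (W h * t₀ * (W h)⁻¹) ((1 / 8 : ℚ) • vecU ℚ U x) ≠ (1 / 8 : ℚ) • vecU ℚ U x := by
  obtain ⟨y, hy, h1⟩ := W_run hc
  rw [List.any_eq_true] at h1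
  obtain ⟨i, -, h2⟩ := h1
  rw [Bool.and_eq_true, Bool.not_eq_true', decide_eq_false_iff_not] at h2
  rw [← W_tw h]
  intro h3
  rw [map_smul, ← hy] at h3
  have h6 : vecU ℚ U y = vecU ℚ U x := smul_right_injective V (show (1 / 8 : ℚ) ≠ 0 by norm_num) h3
  have h7 := congrFun h6 ⟨i, h2.1⟩
  have h8 : (val y i : ℚ) = (val x i : ℚ) := h7
  exact h2.2 (Int.cast_injective h8)

/-- for the representatives with `n = 3, 4` -/
noncomputable def neAll (T : Tab) (lanes : List ℕ) (x : Pl) : Bool :=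
  T.reps.all fun r => Nat.beq r.n 2 || neCheck lanes r.h x

theorem ne0 : neAll T0 [1281, 1344, 1345] dv0 = true := by decide +kernel
theorem ne1 : neAll T1 [208, 209, 210, 211, 212, 213, 214, 215, 216, 217, 218, 219, 220, 221, 222, 223, 1281, 1282, 1288, 1291, 1292, 1298, 1313, 1314, 1320, 1323, 1324, 1330] dv1 = true := by decide +kernel
theorem ne2 : neAll T2 [1281, 1282, 1283, 1284, 1285, 1286, 1287, 1288, 1289, 1290, 1291, 1292, 1293, 1294, 1295, 1296, 1297, 1298, 1299, 1300, 1301, 1302, 1313, 1314, 1315, 1316, 1317, 1318, 1319, 1320, 1321, 1322, 1323, 1324, 1325, 1326, 1327, 1328, 1329, 1330, 1331, 1332, 1333, 1334, 1344, 4985] dv2 = true := by decide +kernel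
theorem ne3 : neAll T3 [48, 52, 56, 60, 64, 68, 72, 76, 96, 100, 104, 108, 208, 212, 216, 220, 224, 228, 232, 236, 272, 276, 280, 284, 640, 644, 648, 652, 656, 660, 664, 668, 688, 692, 696, 700, 752, 756, 760, 764, 896, 900, 904, 908, 944, 948, 952, 956, 960, 964, 968, 972, 1008, 1012, 1016, 1020, 1152, 1156, 1160, 1164, 1184, 1188, 1192, 1196, 4110, 4363, 4871] dv3 = true := by decide +kernel
theorem ne4 : neAll T4 [16, 52, 120, 140, 208, 276, 360, 444, 480, 596, 664, 748, 864, 964, 984, 1068, 1152, 1285, 1315, 1344, 2085, 2125, 2165, 2205, 2245, 2284, 2325, 2364, 2404, 2444, 2484, 2524, 2564, 2605, 2644, 2685, 2725, 2765, 2805, 2845, 2885, 2924, 2965, 3004, 3044, 4619, 5128, 5168, 5208, 5248, 5289, 5328, 5369, 5409, 5449, 5489, 5529, 5569, 5608, 5649, 5688, 5728, 5768, 5808, 5848, 5888, 5929, 5968, 6009, 6049, 6089, 6129] dv4 = true := by decide +kernel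

/-- the lanes of the checks -/
theorem neAll_of (j : Fin 5) : ∃ ls, neAll (TT j) ls (dv j) = true := by
  fin_cases j
  exacts [⟨_, ne0⟩, ⟨_, ne1⟩, ⟨_, ne2⟩, ⟨_, ne3⟩, ⟨_, ne4⟩]

theorem ne_of {j : Fin 5} {r : Cfsg.Agent.BabyM.TransCover.Rep} (hr : r ∈ (TT j).reps) (hn : r.n ≠ 2) :
    (W r.h * t₀ * (W r.h)⁻¹) (M.d j) ≠ M.d j := by
  obtain ⟨ls, h⟩ := neAll_of j
  unfold neAll at h
  rw [List.all_eq_true] at h
  have h1 := h r hr
  rw [Bool.or_eq_true] at h1
  rcases h1 with h1 | h1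
  · exact absurd (Nat.eq_of_beq_eq_true h1) hn
  · exact ne_sound h1

/-- the shape of the representatives -/
def Shape (j : Fin 5) (r : Cfsg.Agent.BabyM.TransCover.Rep) : Prop :=
  (j = 0 ∧ r.h = []) ∨ (r.c = 4 ∨ r.c = -4) ∨ (r.n = 2 ∧ r.sg = true) ∨ r.n = 3 ∨ r.n = 4

theorem shape (j : Fin 5) : ∀ r ∈ (TT j).reps, Shape j r := by
  fin_cases j
  · show ∀ r ∈ T0.reps, _
    unfold T0
    simp only [Shape, _root_.Int.reduceNeg, _root_.List.mem_cons, _root_.List.not_mem_nil, _root_.or_false, _root_.Fin.zero_eta, _root_.Fin.isValue, _root_.true_and, _root_.forall_eq_or_imp, _root_.OfNat.ofNat_eq_ofNat, _root_.Nat.reduceEqDiff, _root_.reduceCtorEq, _root_.or_self, _root_.Bool.false_eq_true, _root_.and_false, _root_.List.cons_ne_self, _root_.or_true, _root_.forall_eq, _root_.OfNat.zero_ne_ofNat, _root_.zero_eq_neg, _root_.OfNat.ofNat_ne_zero, _root_.and_self, _root_.Nat.succ_ne_self]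
  · show ∀ r ∈ T1.reps, _
    unfold T1
    simp only [Shape, _root_.List.mem_cons, _root_.List.not_mem_nil, _root_.or_false, _root_.Fin.mk_one, _root_.Fin.isValue, _root_.one_ne_zero, _root_.false_and, _root_.Int.reduceNeg, _root_.false_or, _root_.forall_eq_or_imp, _root_.reduceCtorEq, _root_.Bool.false_eq_true, _root_.and_false, _root_.Nat.reduceEqDiff, _root_.or_self, _root_.OfNat.zero_ne_ofNat, _root_.zero_eq_neg, _root_.OfNat.ofNat_ne_zero, _root_.and_self, _root_.Nat.succ_ne_self, _root_.or_true, _root_.forall_eq]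
  · show ∀ r ∈ T2.reps, _
    unfold T2
    simp only [Shape, _root_.List.mem_cons, _root_.List.not_mem_nil, _root_.or_false, _root_.Fin.reduceFinMk, _root_.Fin.isValue, _root_.Fin.reduceEq, _root_.false_and, _root_.Int.reduceNeg, _root_.false_or, _root_.forall_eq_or_imp, _root_.reduceCtorEq, _root_.Bool.false_eq_true, _root_.and_false, _root_.Nat.reduceEqDiff, _root_.or_self, _root_.OfNat.zero_ne_ofNat, _root_.zero_eq_neg, _root_.OfNat.ofNat_ne_zero, _root_.and_self, _root_.Nat.succ_ne_self, _root_.or_true, _root_.forall_eq, _root_.OfNat.one_ne_ofNat]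
  · show ∀ r ∈ T3.reps, _
    unfold T3
    simp only [Shape, _root_.List.mem_cons, _root_.List.not_mem_nil, _root_.or_false, _root_.Fin.reduceFinMk, _root_.Fin.isValue, _root_.Fin.reduceEq, _root_.false_and, _root_.Int.reduceNeg, _root_.false_or, _root_.forall_eq_or_imp, _root_.OfNat.zero_ne_ofNat, _root_.zero_eq_neg, _root_.OfNat.ofNat_ne_zero, _root_.or_self, _root_.Nat.reduceEqDiff, _root_.Bool.false_eq_true, _root_.and_self, _root_.Nat.succ_ne_self, _root_.or_true, _root_.forall_eq, _root_.OfNat.one_ne_ofNat, _root_.reduceCtorEq]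
  · show ∀ r ∈ T4.reps, _
    unfold T4
    simp only [Shape, _root_.Int.reduceNeg, _root_.List.mem_cons, _root_.List.not_mem_nil, _root_.or_false, _root_.Fin.reduceFinMk, _root_.Fin.isValue, _root_.Fin.reduceEq, _root_.false_and, _root_.false_or, _root_.forall_eq_or_imp, _root_.OfNat.one_ne_ofNat, _root_.reduceCtorEq, _root_.or_self, _root_.Nat.succ_ne_self, _root_.Bool.false_eq_true, _root_.and_self, _root_.Nat.reduceEqDiff, _root_.or_true, _root_.OfNat.zero_ne_ofNat, _root_.zero_eq_neg, _root_.OfNat.ofNat_ne_zero, _root_.and_false, _root_.forall_eq]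

theorem neg_of {j : Fin 5} {r : Cfsg.Agent.BabyM.TransCover.Rep} (hr : r ∈ (TT j).reps) (hn : r.n = 2) (hs : r.sg = true) :
    (W r.h * t₀ * (W r.h)⁻¹) (M.d j) = - M.d j := by
  have h := List.all_eq_true.1 (ok j).ord r hr
  unfold ordCheck at h
  rw [show Nat.beq r.n 2 = true by rw [hn]; rfl, cond_true, hs, cond_true] at h
  have e := W_eq_of_check (v₂ := []) h
  rw [W_nil, LinearEquiv.coe_one, id] at e
  rw [← W_tw r.h, M_d_eq, map_smul, e, vecU_neg, smul_neg]

theorem fix_of {j : Fin 5} {r : Cfsg.Agent.BabyM.TransCover.Rep} (hr : r ∈ (TT j).reps) (hn : r.n = 4) :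
    (W (TT j).path * t₀ * (W (TT j).path)⁻¹) ((W r.h * t₀ * (W r.h)⁻¹) (M.d j)) =
      (W r.h * t₀ * (W r.h)⁻¹) (M.d j) := by
  have h := List.all_eq_true.1 (ok j).ord r hr
  unfold ordCheck at h
  rw [show Nat.beq r.n 2 = false by rw [hn]; rfl, cond_false, show Nat.beq r.n 3 = false by rw [hn]; rfl, cond_false,
    show Nat.beq r.n 4 = true by rw [hn]; rfl, cond_true] at h
  have e := W_eq_of_check h
  rw [W_append, LinearEquiv.mul_apply] at e
  rw [← W_tw r.h, ← W_tw (TT j).path, M_d_eq, map_smul, map_smul, e]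

/-- **The facts on pairs of axes.** -/
theorem pairs {K₀ : Type} [Group K₀] (A : BAll M K₀) : Pairs M where
  pair := by
    intro j
    change Fin 5 at j
    refine ⟨W (TT j).path, W_mem_MG _, W_path j, fun h hh => ?_⟩
    obtain ⟨l, hl, r, hr, hb⟩ := cover j (h M.d₀) ⟨h, hh, rfl⟩
    have hlC : l ∈ M.C := hl.1
    have hlΓ : l ∈ M.Γ := A.C_le hlC
    have hld : l (M.d j) = M.d j := stab_d hl
    have hld' : l⁻¹ (M.d j) = M.d j := by conv_lhs => rw [← hld, inv_apply_self']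
    have e1 : h * M.t₀ * h⁻¹ = l * (W r.h * t₀ * (W r.h)⁻¹) * l⁻¹ := by
      have := A.conj_t 1 h (l * W r.h) M.Γ.one_mem (A.C_le hh) (M.Γ.mul_mem hlΓ (mem_Γ A _)) hb
      rw [one_mul, inv_one, mul_one] at this
      rw [this, mul_inv_rev]
      simp only [mul_assoc]
      rfl
    have e2 : W (TT j).path * M.t₀ * (W (TT j).path)⁻¹ =
        l * (W (TT j).path * t₀ * (W (TT j).path)⁻¹) * l⁻¹ := by
      refine (A.conj_t l (W (TT j).path) (W (TT j).path) hlΓ (mem_Γ A _) (mem_Γ A _) (Or.inl ?_)).symm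
      rw [W_path, hld]
    have e3 : (h * M.t₀ * h⁻¹) (M.d j) = l ((W r.h * t₀ * (W r.h)⁻¹) (M.d j)) := by
      rw [e1, LinearEquiv.mul_apply, LinearEquiv.mul_apply, hld']
    rcases shape j r hr with ⟨h1, h2⟩ | h1 | ⟨h1, h2⟩ | h1 | h1
    · left
      subst h1
      rw [e1, e2]
      have h3 := A.conj_t 1 (W r.h) (W (TT 0).path) M.Γ.one_mem (mem_Γ A _) (mem_Γ A _) (Or.inl (by
        rw [W_path, h2, W_nil]; exact M_d_zero.symm))
      rw [one_mul, inv_one, mul_one] at h3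
      have h4 : W r.h * t₀ * (W r.h)⁻¹ = W (TT 0).path * t₀ * (W (TT 0).path)⁻¹ := h3
      rw [h4]
    · right; left
      have hF : M.F (l (W r.h M.d₀)) (M.d j) = (r.c : ℚ) / 4 := by rw [F_stab hl, F_rep hr]
      rcases hb with hb | hb <;> rcases h1 with h1 | h1
      · left; rw [hb, hF, h1]; norm_num
      · right; rw [hb, hF, h1]; norm_num
      · right; rw [hb, map_neg, LinearMap.neg_apply, hF, h1]; norm_num
      · left; rw [hb, map_neg, LinearMap.neg_apply, hF, h1]; norm_num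
    · right; right; left
      rw [e3, neg_of hr h1 h2, map_neg, hld]
    · right; right; right
      refine ⟨fun h3 => ne_of hr (by omega) ?_, Or.inl ?_⟩
      · rw [e3] at h3
        apply l.injective
        rw [h3, hld]
      · have h4 := (ord_sound A (W_path j) (List.all_eq_true.1 (ok j).ord r hr)).2.2
        rw [h1] at h4
        rw [e1, e2]
        have h5 : l * (W r.h * t₀ * (W r.h)⁻¹) * l⁻¹ * (l * (W (TT j).path * t₀ * (W (TT j).path)⁻¹) * l⁻¹) =
          l * ((W r.h * t₀ * (W r.h)⁻¹) * (W (TT j).path * t₀ * (W (TT j).path)⁻¹)) * l⁻¹ := by group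
        rw [h5, conj_pow, h4, mul_one, mul_inv_cancel]
    · right; right; right
      refine ⟨fun h3 => ne_of hr (by omega) ?_, Or.inr ?_⟩
      · rw [e3] at h3
        apply l.injective
        rw [h3, hld]
      · rw [e3, e2, LinearEquiv.mul_apply, LinearEquiv.mul_apply, inv_apply_self', fix_of hr h1]
  nz := by
    intro j
    change Fin 5 at j
    have key : ∀ r ∈ (TT j).reps, r.h.all inC = true → r.c ≠ 0 → ∃ b ∈ M.S, M.F b (M.d j) ≠ 0 := by
      intro r hr h1 h2
      refine ⟨W r.h M.d₀, W_mem_S h1, ?_⟩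
      rw [F_rep hr]
      have : (r.c : ℚ) ≠ 0 := by exact_mod_cast h2
      (clear * - h2; positivity)
    fin_cases j
    · exact key ⟨[], 28, 2, false⟩ (by show _ ∈ T0.reps; unfold T0; simp) rfl (by decide)
    · exact key ⟨[], 4, 2, false⟩ (by show _ ∈ T1.reps; unfold T1; simp) rfl (by decide)
    · exact key ⟨[], 4, 2, false⟩ (by show _ ∈ T2.reps; unfold T2; simp) rfl (by decide)
    · exact key ⟨[.p2, .xi], 1, 3, false⟩ (by show _ ∈ T3.reps; unfold T3; simp) rfl (by decide)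
    · exact key ⟨[], 1, 3, false⟩ (by show _ ∈ T4.reps; unfold T4; simp) rfl (by decide)

end Cfsg.Agent.BabyU.ClosModelInst
end

-- part: BabyU/ClosInnerOf
section
/-!
# Closing for the Baby Monster: `Inner` for the concrete model from the remaining facts
-/

set_option autoImplicit false

namespace Cfsg.Agent.BabyU.ClosInnerOf

open Cfsg.Agent.BabyM.Model Cfsg.Agent.BabyU.Clos Cfsg.Agent.BabyU.ClosModel

section abstract

variable {W : Type} [AddCommGroup W] [Module ℚ W] {M : BData W} {K₀ : Type} [Group K₀] (A : BAll M K₀)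
  (B : BTrans M) (P : Pairs M)

include B P in
/-- `Inner` from the fields F8, F11, F12, F14, F15, F16. -/
theorem inner (t₁ : M.G)
    (classes : ∀ u ∈ (⊤ : Subgroup M.G), u * u = 1 → u ≠ 1 →
      (∃ h ∈ (⊤ : Subgroup M.G), h⁻¹ * u * h ∈ MM M) ∨
        ∃ d ∈ cls (⊤ : Subgroup M.G) (tt A), u * d = d * u ∧ u * d ∈ cls (⊤ : Subgroup M.G) (tt A))
    (uniq : ∀ d ∈ cls (⊤ : Subgroup M.G) (tt A), d ∈ PP M → ∀ e ∈ cls (⊤ : Subgroup M.G) (tt A), e ∈ PP M →
      d * e ≠ e * d → ∀ s ∈ cls (⊤ : Subgroup M.G) (tt A), s ∈ PP M → ∀ s' ∈ cls (⊤ : Subgroup M.G) (tt A), s' ∈ PP M →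
      (s * s' = d * e ∨ s * s' = d * e * zz A) → s = d ∨ s = d * zz A ∨ s = e ∨ s = e * zz A)
    (rel : ∃ l : List M.G, (∀ w ∈ l, w ∈ cls (⊤ : Subgroup M.G) (tt A) ∧ w ∈ PP M) ∧ Odd l.length ∧
      (l.prod = 1 ∨ l.prod = zz A))
    (t₁D : t₁ ∈ cls (⊤ : Subgroup M.G) (tt A)) (t₁P : t₁ ∈ PP M) (t₁_comm : t₁ * tt A = tt A * t₁)
    (t₁_ne : t₁ ≠ tt A) (t₁_ne' : t₁ ≠ tt A * zz A)
    (trans : ∀ d ∈ cls (⊤ : Subgroup M.G) (tt A), d ∈ PP M → d * tt A = tt A * d → d ≠ tt A → d ≠ tt A * zz A →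
      ∃ h ∈ (⊤ : Subgroup M.G), h * tt A = tt A * h ∧ h * zz A = zz A * h ∧
        (h * d * h⁻¹ = t₁ ∨ h * d * h⁻¹ = t₁ * zz A))
    (uniq₂ : ∀ f ∈ dd (⊤ : Subgroup M.G) (PP M) (tt A) (tt A * t₁), ∀ f' ∈ dd (⊤ : Subgroup M.G) (PP M) (tt A) (tt A * t₁),
      (∀ a ∈ four (zz A) (tt A * t₁), f' ≠ f * a) → ∀ s ∈ dd (⊤ : Subgroup M.G) (PP M) (tt A) (tt A * t₁),
      ∀ s' ∈ dd (⊤ : Subgroup M.G) (PP M) (tt A) (tt A * t₁), (∃ a ∈ four (zz A) (tt A * t₁), s * s' = f * f' * a) →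
      (∃ a ∈ four (zz A) (tt A * t₁), s = f * a) ∨ ∃ a ∈ four (zz A) (tt A * t₁), s = f' * a)
    (gen : ∃ f ∈ dd (⊤ : Subgroup M.G) (PP M) (tt A) (tt A * t₁), ∃ f' ∈ dd (⊤ : Subgroup M.G) (PP M) (tt A) (tt A * t₁),
      (∀ a ∈ four (zz A) (tt A * t₁), f' ≠ f * a) ∧
      ∀ x : M.G, (x = 1 ∨ x ∈ dd (⊤ : Subgroup M.G) (PP M) (tt A) (tt A * t₁)) → ∃ l : List M.G,
      (∀ h ∈ l, h ∈ (⊤ : Subgroup M.G) ∧ h * zz A = zz A * h ∧
        (h * (tt A * t₁) * h⁻¹ = tt A * t₁ ∨ h * (tt A * t₁) * h⁻¹ = tt A * t₁ * zz A)) ∧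
      (l.map fun h => h * (f * f' * x) * h⁻¹).prod ∈ cls (⊤ : Subgroup M.G) (tt A)) :
    _root_.Cfsg.Agent.BabyU.Clos.Inner (⊤ : Subgroup M.G) (PP M) (MM M) (zz A) (tt A) t₁ where
  t_sq := t_sq A
  t_ne := t_ne A
  z_sq := z_sq A
  z_ne := z_ne A
  tP := tP A
  zP := zP A
  PH := le_top
  MH := le_top
  two := ClosModel.two A
  zc := ClosModel.zc A
  P_norm := ClosModel.P_norm A
  P_comm := ClosModel.P_comm A
  fuse := ClosModel.fuse A
  z_notin := ClosModel.z_notin A B
  M_comm := ClosModel.M_comm A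
  M_norm := ClosModel.M_norm A B
  M_index := ClosModel.M_index A B
  tM := ClosModel.tM A
  PM := ClosModel.PM A
  adj := ClosModel.adj A P
  sgn := ClosModel.sgn A
  odd := ClosModel.odd A B P
  zM := ClosModel.zM A B P
  perp := ClosModel.perp A B
  classes := classes
  fourB := ClosModel.fourB A P
  ord := ClosModel.ord A B
  uniq := uniq
  rel := rel
  irr := ClosModel.irr A
  t₁D := t₁D
  t₁P := t₁P
  t₁_comm := t₁_comm
  t₁_ne := t₁_ne
  t₁_ne' := t₁_ne'
  trans := trans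
  uniq₂ := uniq₂
  gen := gen

end abstract

/-- the pairs of the concrete model -/
theorem pairs : Pairs Cfsg.Agent.BabyM.Inst.M := ClosModelInst.pairs Cfsg.Agent.BabyM.Instance.all

end Cfsg.Agent.BabyU.ClosInnerOf
end

-- part: BabyU/ClosM2
section
/-!
# Closing for the Baby Monster: the fields `uniq`, `rel`, `gen` of `Inner` for the concrete model (helper33)

In the form used by `ClosInnerOf.inner`: `H = ⊤` in `↥M.G`.
-/

set_option autoImplicit false

namespace Cfsg.Agent.BabyU.ClosM2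

open Cfsg.Agent.BabyM Cfsg.Agent.BabyM.Model Cfsg.Agent.BabyU.Clos Cfsg.Agent.BabyU.ClosModel
open Cfsg.Agent.BabyM.KCore Cfsg.Agent.BabyM.Conc Cfsg.Agent.Monster.VecSpace Cfsg.Agent.BabyM.KTabData

section top

variable {G : Type*} [Group G] {G₀ P : Subgroup G} {t z t₁ : G₀}

theorem mem_dd_top {c d : G₀} : d ∈ dd ⊤ (P.subgroupOf G₀) t c ↔ (d : G) ∈ dd G₀ P (t : G) (c : G) := by
  constructor
  · rintro ⟨h1, h2, h3⟩
    exact ⟨ClosUniq.mem_cls_top.1 h1, h2, ClosUniq.mem_cls_top.1 h3⟩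
  · rintro ⟨h1, h2, h3⟩
    exact ⟨ClosUniq.mem_cls_top.2 h1, h2, ClosUniq.mem_cls_top.2 h3⟩

theorem coe_four {c a : G₀} (h : a ∈ four z c) : (a : G) ∈ four (z : G) (c : G) := by
  rcases h with rfl | rfl | rfl | rfl
  · exact Or.inl rfl
  · exact Or.inr (Or.inl rfl)
  · exact Or.inr (Or.inr (Or.inl rfl))
  · exact Or.inr (Or.inr (Or.inr rfl))

theorem exists_list {l : List G} (h : ∀ g ∈ l, g ∈ G₀) : ∃ l' : List G₀, l'.map Subtype.val = l := by
  induction l with
  | nil => exact ⟨[], rfl⟩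
  | cons a l ih =>
    obtain ⟨l', hl'⟩ := ih fun w hw => h w (by simp [hw])
    exact ⟨⟨a, h a (by simp)⟩ :: l', by rw [List.map_cons, hl']⟩

/-- `gen` for a group and its subgroup. -/
theorem gen_top (hP : P ≤ G₀)
    (h : ∃ f ∈ dd G₀ P (t : G) (t * t₁), ∃ f' ∈ dd G₀ P (t : G) (t * t₁), (∀ a ∈ four (z : G) (t * t₁), f' ≠ f * a) ∧
      ∀ x : G, (x = 1 ∨ x ∈ dd G₀ P (t : G) (t * t₁)) → ∃ l : List G,
        (∀ h ∈ l, h ∈ G₀ ∧ h * z = z * h ∧ (h * (t * t₁) * h⁻¹ = t * t₁ ∨ h * (t * t₁) * h⁻¹ = t * t₁ * z)) ∧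
        (l.map fun h => h * (f * f' * x) * h⁻¹).prod ∈ cls G₀ (t : G)) :
    ∃ f ∈ dd ⊤ (P.subgroupOf G₀) t (t * t₁), ∃ f' ∈ dd ⊤ (P.subgroupOf G₀) t (t * t₁),
      (∀ a ∈ four z (t * t₁), f' ≠ f * a) ∧
      ∀ x : G₀, (x = 1 ∨ x ∈ dd ⊤ (P.subgroupOf G₀) t (t * t₁)) → ∃ l : List G₀,
        (∀ h ∈ l, h ∈ (⊤ : Subgroup G₀) ∧ h * z = z * h ∧
          (h * (t * t₁) * h⁻¹ = t * t₁ ∨ h * (t * t₁) * h⁻¹ = t * t₁ * z)) ∧
        (l.map fun h => h * (f * f' * x) * h⁻¹).prod ∈ cls ⊤ t := by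
  obtain ⟨f, hf, f', hf', hne, h⟩ := h
  refine ⟨⟨f, hP hf.2.1⟩, mem_dd_top.2 hf, ⟨f', hP hf'.2.1⟩, mem_dd_top.2 hf', ?_, ?_⟩
  · intro a ha e
    exact hne a (coe_four ha) (congrArg Subtype.val e)
  · intro x hx
    obtain ⟨l, h1, h2⟩ := h x (by
      rcases hx with rfl | hx
      · exact Or.inl rfl
      · exact Or.inr (mem_dd_top.1 hx))
    obtain ⟨l', rfl⟩ := exists_list (G₀ := G₀) fun g hg => (h1 g hg).1
    refine ⟨l', ?_, ?_⟩
    · intro g hg
      obtain ⟨-, h3, h4⟩ := h1 g (List.mem_map_of_mem hg)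
      refine ⟨trivial, Subtype.ext h3, ?_⟩
      rcases h4 with h4 | h4
      · exact Or.inl (Subtype.ext h4)
      · exact Or.inr (Subtype.ext h4)
    · refine ClosUniq.mem_cls_top.2 ?_
      rw [List.map_map] at h2
      have e : ((l'.map fun h => h * (⟨f, hP hf.2.1⟩ * ⟨f', hP hf'.2.1⟩ * x) * h⁻¹).prod : G₀).1 =
          (l'.map ((fun h => h * (f * f' * (x : G)) * h⁻¹) ∘ Subtype.val)).prod := by
        show G₀.subtype _ = _
        rw [map_list_prod, List.map_map]
        rfl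
      rw [e]
      exact h2

end top

section

variable {w : Lane U → ℚ} {K₀ : Type} [Group K₀]

/-- **F11** -/
theorem uniq (h : Link KTab.Cd KTab.u w Inst.M Inst.laneB) (A : BAll Inst.M K₀) (B : BTrans Inst.M) :
    ∀ d ∈ cls (⊤ : Subgroup Inst.M.G) (tt A), d ∈ PP Inst.M → ∀ e ∈ cls (⊤ : Subgroup Inst.M.G) (tt A), e ∈ PP Inst.M →
      d * e ≠ e * d → ∀ s ∈ cls (⊤ : Subgroup Inst.M.G) (tt A), s ∈ PP Inst.M →
      ∀ s' ∈ cls (⊤ : Subgroup Inst.M.G) (tt A), s' ∈ PP Inst.M →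
      (s * s' = d * e ∨ s * s' = d * e * zz A) → s = d ∨ s = d * zz A ∨ s = e ∨ s = e * zz A :=
  ClosUniq.uniq_top (t := tt A) (z := zz A) (ClosUniq.uniq h A B)

/-- **F12** -/
theorem rel (h : Link KTab.Cd KTab.u w Inst.M Inst.laneB) (A : BAll Inst.M K₀) (B : BTrans Inst.M) :
    ∃ l : List Inst.M.G, (∀ w ∈ l, w ∈ cls (⊤ : Subgroup Inst.M.G) (tt A) ∧ w ∈ PP Inst.M) ∧ Odd l.length ∧
      (l.prod = 1 ∨ l.prod = zz A) :=
  ClosUniq.rel_top (t := tt A) (z := zz A) (fun _ hg => A.C_le_G (A.grp.Q_le hg)) (ClosUniq.rel h A B)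

/-- The second transposition `R 0x475`. -/
noncomputable def t₁ (h : Link KTab.Cd KTab.u w Inst.M Inst.laneB) (A : BAll Inst.M K₀) : Inst.M.G :=
  ⟨ClosGen.t₁, A.C_le_G (A.grp.Q_le (h.mem_Q.mpr ⟨_, rfl⟩))⟩

/-- **F16** -/
theorem gen (h : Link KTab.Cd KTab.u w Inst.M Inst.laneB) (A : BAll Inst.M K₀) (B : BTrans Inst.M) :
    ∃ f ∈ dd (⊤ : Subgroup Inst.M.G) (PP Inst.M) (tt A) (tt A * t₁ h A),
      ∃ f' ∈ dd (⊤ : Subgroup Inst.M.G) (PP Inst.M) (tt A) (tt A * t₁ h A),
      (∀ a ∈ four (zz A) (tt A * t₁ h A), f' ≠ f * a) ∧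
      ∀ x : Inst.M.G, (x = 1 ∨ x ∈ dd (⊤ : Subgroup Inst.M.G) (PP Inst.M) (tt A) (tt A * t₁ h A)) →
        ∃ l : List Inst.M.G,
        (∀ g ∈ l, g ∈ (⊤ : Subgroup Inst.M.G) ∧ g * zz A = zz A * g ∧
          (g * (tt A * t₁ h A) * g⁻¹ = tt A * t₁ h A ∨ g * (tt A * t₁ h A) * g⁻¹ = tt A * t₁ h A * zz A)) ∧
        (l.map fun g => g * (f * f' * x) * g⁻¹).prod ∈ cls (⊤ : Subgroup Inst.M.G) (tt A) :=
  gen_top (t := tt A) (z := zz A) (t₁ := t₁ h A) (fun _ hg => A.C_le_G (A.grp.Q_le hg)) (ClosGen.gen h A B)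

end

end Cfsg.Agent.BabyU.ClosM2
end

-- part: BabyU/ClosLaneTop
section
/-!
# Closing for the Baby Monster: F14, F15 in the form of `ClosInnerOf.inner` (helper404)

The fields `t₁D`, `t₁P`, `t₁_comm`, `t₁_ne`, `t₁_ne'`, `trans`, `uniq₂` for `H = ⊤` in `↥M.G`, `t₁ = ClosM2.t₁ h A`.
-/

set_option autoImplicit false

namespace Cfsg.Agent.BabyU.ClosLaneTop

open Cfsg.Agent.BabyM Cfsg.Agent.BabyM.Model Cfsg.Agent.BabyU.Clos Cfsg.Agent.BabyU.ClosModel
open Cfsg.Agent.BabyM.KCore Cfsg.Agent.BabyM.Conc Cfsg.Agent.Monster.VecSpace Cfsg.Agent.BabyM.KTabData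

section top

variable {G : Type*} [Group G] {G₀ P : Subgroup G} {t z t₁ : G₀}

theorem trans_top (hP : P ≤ G₀)
    (h : ∀ d ∈ cls G₀ (t : G), d ∈ P → d * t = t * d → d ≠ t → d ≠ t * z →
      ∃ h ∈ G₀, h * t = t * h ∧ h * z = z * h ∧ (h * d * h⁻¹ = t₁ ∨ h * d * h⁻¹ = t₁ * z)) :
    ∀ d ∈ cls (⊤ : Subgroup G₀) t, d ∈ P.subgroupOf G₀ → d * t = t * d → d ≠ t → d ≠ t * z →
      ∃ h ∈ (⊤ : Subgroup G₀), h * t = t * h ∧ h * z = z * h ∧ (h * d * h⁻¹ = t₁ ∨ h * d * h⁻¹ = t₁ * z) := by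
  intro d hd hdP hc h1 h2
  obtain ⟨g, hg, e1, e2, e3⟩ := h d (ClosUniq.mem_cls_top.1 hd) hdP (congrArg Subtype.val hc)
    (fun e => h1 (Subtype.ext e)) (fun e => h2 (Subtype.ext e))
  refine ⟨⟨g, hg⟩, trivial, Subtype.ext e1, Subtype.ext e2, ?_⟩
  rcases e3 with e3 | e3
  · exact Or.inl (Subtype.ext e3)
  · exact Or.inr (Subtype.ext e3)

theorem four_top {c : G₀} {a : G} (h : a ∈ four (z : G) (c : G)) : ∃ b ∈ four z c, (b : G) = a := by
  rcases h with rfl | rfl | rfl | rfl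
  · exact ⟨1, Or.inl rfl, rfl⟩
  · exact ⟨z, Or.inr (Or.inl rfl), rfl⟩
  · exact ⟨c, Or.inr (Or.inr (Or.inl rfl)), rfl⟩
  · exact ⟨c * z, Or.inr (Or.inr (Or.inr rfl)), rfl⟩

theorem uniq₂_top
    (h : ∀ f ∈ dd G₀ P (t : G) (t * t₁), ∀ f' ∈ dd G₀ P (t : G) (t * t₁), (∀ a ∈ four (z : G) (t * t₁), f' ≠ f * a) →
      ∀ s ∈ dd G₀ P (t : G) (t * t₁), ∀ s' ∈ dd G₀ P (t : G) (t * t₁), (∃ a ∈ four (z : G) (t * t₁), s * s' = f * f' * a) →
      (∃ a ∈ four (z : G) (t * t₁), s = f * a) ∨ ∃ a ∈ four (z : G) (t * t₁), s = f' * a) :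
    ∀ f ∈ dd (⊤ : Subgroup G₀) (P.subgroupOf G₀) t (t * t₁), ∀ f' ∈ dd (⊤ : Subgroup G₀) (P.subgroupOf G₀) t (t * t₁),
      (∀ a ∈ four z (t * t₁), f' ≠ f * a) → ∀ s ∈ dd (⊤ : Subgroup G₀) (P.subgroupOf G₀) t (t * t₁),
      ∀ s' ∈ dd (⊤ : Subgroup G₀) (P.subgroupOf G₀) t (t * t₁), (∃ a ∈ four z (t * t₁), s * s' = f * f' * a) →
      (∃ a ∈ four z (t * t₁), s = f * a) ∨ ∃ a ∈ four z (t * t₁), s = f' * a := by
  intro f hf f' hf' hne s hs s' hs' hss
  obtain ⟨q, hq, e⟩ := hss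
  have conv : ∀ {x y : G₀}, (∃ a ∈ four (z : G) (t * t₁), (x : G) = y * a) → ∃ a ∈ four z (t * t₁), x = y * a := by
    rintro x y ⟨a, ha, e⟩
    obtain ⟨b, hb, rfl⟩ := four_top (c := t * t₁) ha
    exact ⟨b, hb, Subtype.ext e⟩
  rcases h f (ClosM2.mem_dd_top.1 hf) f' (ClosM2.mem_dd_top.1 hf') (by
      intro a ha e'
      obtain ⟨b, hb, rfl⟩ := four_top (c := t * t₁) ha
      exact hne b hb (Subtype.ext e')) s (ClosM2.mem_dd_top.1 hs) s' (ClosM2.mem_dd_top.1 hs')
      ⟨q, ClosM2.coe_four hq, congrArg Subtype.val e⟩ with h1 | h1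
  · exact Or.inl (conv h1)
  · exact Or.inr (conv h1)

end top

section

variable {w : Lane U → ℚ} {K₀ : Type} [Group K₀]

theorem t₁D (h : Link KTab.Cd KTab.u w Inst.M Inst.laneB) (A : BAll Inst.M K₀) :
    ClosM2.t₁ h A ∈ cls (⊤ : Subgroup Inst.M.G) (tt A) := ClosUniq.mem_cls_top.2 ClosLane.t1_mem

theorem t₁P (h : Link KTab.Cd KTab.u w Inst.M Inst.laneB) (A : BAll Inst.M K₀) : ClosM2.t₁ h A ∈ PP Inst.M :=
  mem_PP.2 ClosLane.t1_Q

theorem t₁_comm (h : Link KTab.Cd KTab.u w Inst.M Inst.laneB) (A : BAll Inst.M K₀) :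
    ClosM2.t₁ h A * tt A = tt A * ClosM2.t₁ h A := Subtype.ext ClosLane.t1_comm

theorem t₁_ne (h : Link KTab.Cd KTab.u w Inst.M Inst.laneB) (A : BAll Inst.M K₀) : ClosM2.t₁ h A ≠ tt A :=
  fun e => ClosLane.t1_ne (congrArg Subtype.val e)

theorem t₁_ne' (h : Link KTab.Cd KTab.u w Inst.M Inst.laneB) (A : BAll Inst.M K₀) : ClosM2.t₁ h A ≠ tt A * zz A :=
  fun e => ClosLane.t1_ne' (congrArg Subtype.val e)

/-- **F14** -/
theorem trans (h : Link KTab.Cd KTab.u w Inst.M Inst.laneB) (A : BAll Inst.M K₀) :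
    ∀ d ∈ cls (⊤ : Subgroup Inst.M.G) (tt A), d ∈ PP Inst.M → d * tt A = tt A * d → d ≠ tt A → d ≠ tt A * zz A →
      ∃ g ∈ (⊤ : Subgroup Inst.M.G), g * tt A = tt A * g ∧ g * zz A = zz A * g ∧
        (g * d * g⁻¹ = ClosM2.t₁ h A ∨ g * d * g⁻¹ = ClosM2.t₁ h A * zz A) :=
  trans_top (t := tt A) (z := zz A) (t₁ := ClosM2.t₁ h A) (fun _ hg => A.C_le_G (A.grp.Q_le hg)) ClosLane.trans

/-- **F15** -/
theorem uniq₂ (h : Link KTab.Cd KTab.u w Inst.M Inst.laneB) (A : BAll Inst.M K₀) :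
    ∀ f ∈ dd (⊤ : Subgroup Inst.M.G) (PP Inst.M) (tt A) (tt A * ClosM2.t₁ h A),
      ∀ f' ∈ dd (⊤ : Subgroup Inst.M.G) (PP Inst.M) (tt A) (tt A * ClosM2.t₁ h A),
      (∀ a ∈ four (zz A) (tt A * ClosM2.t₁ h A), f' ≠ f * a) →
      ∀ s ∈ dd (⊤ : Subgroup Inst.M.G) (PP Inst.M) (tt A) (tt A * ClosM2.t₁ h A),
      ∀ s' ∈ dd (⊤ : Subgroup Inst.M.G) (PP Inst.M) (tt A) (tt A * ClosM2.t₁ h A),
      (∃ a ∈ four (zz A) (tt A * ClosM2.t₁ h A), s * s' = f * f' * a) →
      (∃ a ∈ four (zz A) (tt A * ClosM2.t₁ h A), s = f * a) ∨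
        ∃ a ∈ four (zz A) (tt A * ClosM2.t₁ h A), s = f' * a :=
  uniq₂_top (t := tt A) (z := zz A) (t₁ := ClosM2.t₁ h A) ClosLane.uniq₂

end

end Cfsg.Agent.BabyU.ClosLaneTop
end

-- part: BabyU/ClosInnerAll
section
/-!
# Closing for the Baby Monster: `Inner` for the concrete model from F8 alone (helper404)
-/

set_option autoImplicit false

namespace Cfsg.Agent.BabyU.ClosInnerAll

open Cfsg.Agent.BabyM Cfsg.Agent.BabyM.Model Cfsg.Agent.BabyU.Clos Cfsg.Agent.BabyU.ClosModel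

/-- **`Inner` for the concrete model**; the only remaining hypothesis is `classes` (F8). -/
theorem inner
    (classes : ∀ u ∈ (⊤ : Subgroup Inst.M.G), u * u = 1 → u ≠ 1 →
      (∃ h ∈ (⊤ : Subgroup Inst.M.G), h⁻¹ * u * h ∈ MM Inst.M) ∨
        ∃ d ∈ cls (⊤ : Subgroup Inst.M.G) (tt Instance.all), u * d = d * u ∧
          u * d ∈ cls (⊤ : Subgroup Inst.M.G) (tt Instance.all)) :
    _root_.Cfsg.Agent.BabyU.Clos.Inner (⊤ : Subgroup Inst.M.G) (PP Inst.M) (MM Inst.M) (zz Instance.all) (tt Instance.all)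
      (ClosM2.t₁ KLink.link Instance.all) :=
  ClosInnerOf.inner Instance.all Instance.tr ClosInnerOf.pairs _ classes
    (ClosM2.uniq KLink.link Instance.all Instance.tr) (ClosM2.rel KLink.link Instance.all Instance.tr)
    (ClosLaneTop.t₁D KLink.link Instance.all) (ClosLaneTop.t₁P KLink.link Instance.all)
    (ClosLaneTop.t₁_comm KLink.link Instance.all) (ClosLaneTop.t₁_ne KLink.link Instance.all)
    (ClosLaneTop.t₁_ne' KLink.link Instance.all) (ClosLaneTop.trans KLink.link Instance.all)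
    (ClosLaneTop.uniq₂ KLink.link Instance.all) (ClosM2.gen KLink.link Instance.all Instance.tr)

end Cfsg.Agent.BabyU.ClosInnerAll
end

-- part: BabyU/F8Inner
section
/-!
# Closing for the Baby Monster: `Inner` for the concrete model
-/

set_option autoImplicit false

namespace Cfsg.Agent.BabyU.F8Inner

open Cfsg.Agent.BabyM Cfsg.Agent.BabyM.Model Cfsg.Agent.BabyU.Clos Cfsg.Agent.BabyU.ClosModel

/-- **`Inner` for the concrete model**, without hypotheses. -/
theorem inner : _root_.Cfsg.Agent.BabyU.Clos.Inner (⊤ : Subgroup Inst.M.G) (PP Inst.M) (MM Inst.M) (zz Instance.all) (tt Instance.all)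
    (ClosM2.t₁ KLink.link Instance.all) :=
  ClosInnerAll.inner (F8Main.classes' (fun _ h => h) rfl)

end Cfsg.Agent.BabyU.F8Inner
end

-- part: BabyU/ModelInst
section
/-!
# The model of the Baby Monster for the closing of S1662
-/

set_option autoImplicit false

namespace Cfsg.Agent.BabyU.ModelInst

open Cfsg.Agent.BabyM Cfsg.Agent.BabyM.Model Cfsg.Agent.BabyU.Clos Cfsg.Agent.BabyU.ClosModel

theorem model : Lit.ModelB Inst.M.G := by
  refine ⟨⟨BM.KHAll.iso, PP Inst.M, MM Inst.M, zz Instance.all, tt Instance.all, ClosM2.t₁ KLink.link Instance.all,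
    F8Inner.inner, ?_, ?_⟩⟩
  · obtain ⟨g, hg⟩ := BM.StageW.exists_conj Instance.all Instance.ok Cfsg.Spor.BabyMonster.Gen.t1
    exact ⟨g, (BM.KHAll.iso_gB _).trans hg⟩
  · obtain ⟨g, hg, h⟩ := Instance.all.rep.neg
    refine ⟨⟨g, Instance.all.C_le_G hg⟩, ?_, ?_⟩
    · exact Subtype.ext (Instance.all.rep.t₀_comm g hg (Or.inr h))
    · intro hm
      have h1 : g Inst.M.d₀ = Inst.M.d₀ := hm
      exact ne_neg Instance.all Instance.all.d₀_mem (h1.symm.trans h)

end Cfsg.Agent.BabyU.ModelInst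
end

private theorem dce_93719c0a8dbd : _root_.True := by
  try have : _root_.True := by simp only [_root_.Cfsg.Agent.BabyM.Model.BData.d₀.eq_1]
  try have : _root_.True := by simp only [_root_.Cfsg.Agent.BabyU.ClosModelInst.Shape.eq_1]
  exact _root_.True.intro
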